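import Cfsg.Agent.Lib.SelfThree29.Basic
import Cfsg.Agent.Lib.Solvable.NilpotentSubgroups

/-!
# Simple groups with one class of involutions and a self-centralizing element of order six

Basic facts.  Throughout `i = t ^ 3` and `x = t ^ 2`.
-/

set_option autoImplicit false
set_option linter.style.haveILetI false

namespace CfsgLib.SelfCentralSix

open Subgroup CfsgLib.SelfThree29

universe u

/-- The hypotheses. -/
structure Ctx (G : Type u) [Group G] where
  simple : IsSimpleGroup G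
  nonab : ¬ IsMulCommutative G
  one : ∀ a b : G, orderOf a = 2 → orderOf b = 2 → IsConj a b
  t : G
  ord : orderOf t = 6
  cent : Subgroup.centralizer ({t} : Set G) = Subgroup.zpowers t

variable {G : Type u} [Group G]

theorem conj_comm {g a b : G} (h : a * b = b * a) :
    g * a * g⁻¹ * (g * b * g⁻¹) = g * b * g⁻¹ * (g * a * g⁻¹) := by
  calc g * a * g⁻¹ * (g * b * g⁻¹) = g * (a * b) * g⁻¹ := by group
    _ = g * (b * a) * g⁻¹ := by rw [h]
    _ = _ := by group

/-- Conjugation by an element of the normalizer, as an automorphism. -/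
def conjAut (P : Subgroup G) {y : G} (hy : y ∈ normalizer (P : Set G)) : MulAut P where
  toFun p := ⟨y * p * y⁻¹, (mem_normalizer_iff.1 hy _).1 p.2⟩
  invFun p := ⟨y⁻¹ * p * y, by
    have := (mem_normalizer_iff.1 (inv_mem hy) _).1 p.2
    rwa [inv_inv] at this⟩
  left_inv p := Subtype.ext (show y⁻¹ * (y * p * y⁻¹) * y = p by group)
  right_inv p := Subtype.ext (show y * (y⁻¹ * p * y) * y⁻¹ = p by group)
  map_mul' a b := Subtype.ext (show y * (a * b : G) * y⁻¹ = y * a * y⁻¹ * (y * b * y⁻¹) by group)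

@[simp] theorem conjAut_coe (P : Subgroup G) {y : G} (hy : y ∈ normalizer (P : Set G)) (p : P) :
    (conjAut P hy p : G) = y * p * y⁻¹ := rfl

theorem card_fixed_modEq [Finite G] {P : Subgroup G} {y : G} (hy3 : y ^ 3 = 1)
    (hy : y ∈ normalizer (P : Set G)) :
    Nat.card P ≡ Nat.card ↥(P ⊓ centralizer ({y} : Set G)) [MOD 3] := by
  have : Fact (Nat.Prime 3) := ⟨Nat.prime_three⟩
  classical
  let f : Function.End P := fun p => conjAut P hy p
  have hf : f ^ 3 ^ 1 = 1 := funext fun p => Subtype.ext (by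
    show y * (y * (y * (p : G) * y⁻¹) * y⁻¹) * y⁻¹ = p
    calc y * (y * (y * (p : G) * y⁻¹) * y⁻¹) * y⁻¹ = y ^ 3 * p * (y ^ 3)⁻¹ := by
          simp only [pow_succ, pow_zero, one_mul, mul_inv_rev, mul_assoc]
      _ = p := by rw [hy3]; group)
  letI : Fintype P := Fintype.ofFinite P
  have h := Equiv.Perm.card_fixedPoints_modEq hf
  rw [← Nat.card_eq_fintype_card] at h
  refine h.trans ?_
  rw [← Nat.card_eq_fintype_card]
  refine congrArg (· % 3) (Nat.card_congr ?_)
  exact
    { toFun := fun p => ⟨(p : P), (p : P).2, mem_centralizer_singleton_iff.2 (by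
        have h1 : y * ((p : P) : G) * y⁻¹ = ((p : P) : G) := congrArg Subtype.val p.2
        exact (mul_inv_eq_iff_eq_mul.1 h1).symm)⟩
      invFun := fun q => ⟨⟨q, q.2.1⟩, Subtype.ext (show y * (q : G) * y⁻¹ = q by
        rw [← mem_centralizer_singleton_iff.1 q.2.2, mul_inv_cancel_right])⟩
      left_inv := fun p => rfl
      right_inv := fun q => rfl }

theorem commute_of_mem_zpowers {a b t : G} (ha : a ∈ zpowers t) (hb : b ∈ zpowers t) : a * b = b * a := by
  obtain ⟨m, rfl⟩ := ha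
  obtain ⟨n, rfl⟩ := hb
  exact (Commute.zpow_zpow (Commute.refl t) m n).eq

theorem involution_unique_zpowers {t a b : G} (ha : a ∈ zpowers t) (hb : b ∈ zpowers t) [Finite G]
    (ha2 : orderOf a = 2) (hb2 : orderOf b = 2) : a = b := by
  classical
  letI : Fintype (zpowers t) := Fintype.ofFinite _
  haveI : IsCyclic (zpowers t) := isCyclic_iff_exists_zpowers_eq_top.2 ⟨⟨t, mem_zpowers t⟩, by
    refine top_le_iff.1 fun q _ => ?_
    obtain ⟨n, hn⟩ := q.2
    exact ⟨n, Subtype.ext hn⟩⟩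
  have hle := IsCyclic.card_pow_eq_one_le (α := zpowers t) (n := 2) (by norm_num)
  by_contra hne
  have h3 : ({1, ⟨a, ha⟩, ⟨b, hb⟩} : Finset (zpowers t)) ⊆ Finset.univ.filter fun q => q ^ 2 = 1 := by
    intro q hq
    simp only [Finset.mem_insert, Finset.mem_singleton] at hq
    refine Finset.mem_filter.2 ⟨Finset.mem_univ _, ?_⟩
    rcases hq with rfl | rfl | rfl
    · exact one_pow _
    · exact Subtype.ext (by rw [SubmonoidClass.coe_pow, ← ha2, pow_orderOf_eq_one]; rfl)
    · exact Subtype.ext (by rw [SubmonoidClass.coe_pow, ← hb2, pow_orderOf_eq_one]; rfl)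
  have ha1 : a ≠ 1 := fun e => by rw [e, orderOf_one] at ha2; omega
  have hb1 : b ≠ 1 := fun e => by rw [e, orderOf_one] at hb2; omega
  have h4 := (Finset.card_le_card h3).trans hle
  rw [Finset.card_insert_of_notMem, Finset.card_pair] at h4
  · omega
  · exact fun e => hne (congrArg Subtype.val e)
  · simp only [Finset.mem_insert, Finset.mem_singleton]
    rintro (e | e)
    · exact ha1 (congrArg Subtype.val e.symm)
    · exact hb1 (congrArg Subtype.val e.symm)

namespace Ctx

variable (D : Ctx G)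

/-- The involution. -/
def i : G := D.t ^ 3

/-- The element of order three. -/
def x : G := D.t ^ 2

/-- The centralizer of the involution. -/
abbrev C : Subgroup G := centralizer ({D.i} : Set G)

theorem oi : orderOf D.i = 2 := by rw [i, orderOf_pow' _ (by norm_num), D.ord]; norm_num

theorem ox : orderOf D.x = 3 := by rw [x, orderOf_pow' _ (by norm_num), D.ord]; norm_num

theorem x_pow : D.x ^ 3 = 1 := D.ox ▸ pow_orderOf_eq_one D.x

theorem i_ne : D.i ≠ 1 := fun e => by have := D.oi; rw [e, orderOf_one] at this; omega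

theorem i_sq : D.i * D.i = 1 := by rw [← sq, ← D.oi, pow_orderOf_eq_one]

theorem i_inv : D.i⁻¹ = D.i := inv_eq_of_mul_eq_one_right D.i_sq

theorem mul_comm_ix : D.i * D.x = D.x * D.i := (Commute.pow_pow (Commute.refl D.t) 3 2).eq

theorem mem_C {g : G} : g ∈ D.C ↔ g * D.i = D.i * g := mem_centralizer_singleton_iff

theorem conj_i {g : G} (hg : g ∈ D.C) : g * D.i * g⁻¹ = D.i := mul_inv_eq_iff_eq_mul.2 (D.mem_C.1 hg)

theorem i_mem : D.i ∈ D.C := D.mem_C.2 rfl

theorem x_mem : D.x ∈ D.C := D.mem_C.2 D.mul_comm_ix.symm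

/-- The only common centralizer of `i` and `x` is `⟨t⟩`. -/
theorem cent_pair {g : G} (hi : g * D.i = D.i * g) (hx : g * D.x = D.x * g) : g ∈ zpowers D.t := by
  rw [← D.cent]
  refine mem_centralizer_singleton_iff.2 ?_
  have h : D.t = D.i * D.x⁻¹ := by rw [i, x]; group
  rw [h]
  exact (Commute.mul_right (show Commute g D.i from hi) (Commute.inv_right (show Commute g D.x from hx))).eq

theorem card_zpowers_t : Nat.card (zpowers D.t) = 6 := by rw [Nat.card_zpowers, D.ord]

/-- `i` as an element of its centralizer. -/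
def iC : D.C := ⟨D.i, D.i_mem⟩

/-- `x` as an element of the centralizer of `i`. -/
def xC : D.C := ⟨D.x, D.x_mem⟩

theorem mem_zi_iff {g : G} : g ∈ zpowers D.i ↔ g = 1 ∨ g = D.i := by
  constructor
  · rintro ⟨k, rfl⟩
    show D.i ^ k = 1 ∨ D.i ^ k = D.i
    rw [← zpow_mod_orderOf, D.oi]
    rcases Int.emod_two_eq_zero_or_one k with h | h
    · left; rw [show k % ((2 : ℕ) : ℤ) = 0 from h]; simp
    · right; rw [show k % ((2 : ℕ) : ℤ) = 1 from h]; simp
  · rintro (rfl | rfl)
    · exact one_mem _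
    · exact mem_zpowers _

instance zi_normal : (zpowers D.iC).Normal := ⟨by
  rintro a ⟨k, rfl⟩ g
  refine ⟨k, Subtype.ext ?_⟩
  show (((D.iC ^ k : D.C) : G)) = (g : G) * ((D.iC ^ k : D.C) : G) * ((g⁻¹ : D.C) : G)
  rw [SubgroupClass.coe_zpow, InvMemClass.coe_inv]
  have h : (g : G) * (D.iC : G) = (D.iC : G) * g := D.mem_C.1 g.2
  rw [(Commute.zpow_right (show Commute (g : G) (D.iC : G) from h) k).eq, mul_inv_cancel_right]⟩

theorem mk_eq_iff {a b : D.C} :
    (QuotientGroup.mk a : D.C ⧸ zpowers D.iC) = QuotientGroup.mk b ↔ (b : G) = a ∨ (b : G) = a * D.i := by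
  rw [QuotientGroup.eq]
  constructor
  · rintro ⟨k, hk⟩
    have h1 : (a : G)⁻¹ * b ∈ zpowers D.i := ⟨k, by
      simpa [Ctx.iC] using congrArg Subtype.val hk⟩
    rcases D.mem_zi_iff.1 h1 with h | h
    · exact Or.inl (eq_of_inv_mul_eq_one h).symm
    · exact Or.inr (by rw [← h]; group)
  · rintro (h | h)
    · rw [Subtype.ext h, inv_mul_cancel]; exact one_mem _
    · have : a⁻¹ * b = D.iC := Subtype.ext (by
        show (a : G)⁻¹ * b = D.i
        rw [h]; group)
      rw [this]; exact mem_zpowers _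

theorem sc3 : SC3 (QuotientGroup.mk D.xC : D.C ⧸ zpowers D.iC) := by
  constructor
  · have hd : orderOf (QuotientGroup.mk D.xC : D.C ⧸ zpowers D.iC) ∣ 3 := by
      refine orderOf_dvd_of_pow_eq_one ?_
      rw [← QuotientGroup.mk_pow, show D.xC ^ 3 = 1 from Subtype.ext D.x_pow, QuotientGroup.mk_one]
    rcases (Nat.dvd_prime Nat.prime_three).1 hd with h | h
    · exfalso
      have h1 : (QuotientGroup.mk D.xC : D.C ⧸ zpowers D.iC) = QuotientGroup.mk 1 := by
        rw [orderOf_eq_one_iff.1 h, QuotientGroup.mk_one]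
      rcases D.mk_eq_iff.1 h1 with e | e
      · have h3 := D.ox
        rw [show D.x = 1 from e.symm, orderOf_one] at h3
        omega
      · have e' : (1 : G) = D.x * D.i := e
        have h3 := D.ox
        rw [eq_inv_of_mul_eq_one_left e'.symm, orderOf_inv, D.oi] at h3
        omega
    · exact h
  · intro g hg
    induction g using QuotientGroup.induction_on with | _ g => ?_
    rw [← QuotientGroup.mk_mul, ← QuotientGroup.mk_mul] at hg
    have hcomm : (g : G) * D.x = D.x * g := by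
      rcases D.mk_eq_iff.1 hg with e | e
      · exact e.symm
      · exfalso
        have e' : D.x * (g : G) = (g : G) * D.x * D.i := e
        have h2 : (g : G)⁻¹ * D.x * g = D.x * D.i := by rw [mul_assoc, e']; group
        have h3 : orderOf (D.x * D.i) = 3 := by
          rw [← h2, show (g : G)⁻¹ * D.x * g = (g : G)⁻¹ * D.x * ((g : G)⁻¹)⁻¹ by rw [inv_inv], orderOf_cj]
          exact D.ox
        rw [Commute.orderOf_mul_eq_mul_orderOf_of_coprime D.mul_comm_ix.symm (by
          rw [D.ox, D.oi]; norm_num), D.ox, D.oi] at h3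
        omega
    obtain ⟨n, hn⟩ := D.cent_pair (D.mem_C.1 g.2) hcomm
    refine mem_zpowers_iff.2 ⟨-n, ?_⟩
    rw [← QuotientGroup.mk_zpow]
    refine D.mk_eq_iff.2 ?_
    have hn' : D.t ^ n = (g : G) := hn
    show (g : G) = ((D.xC ^ (-n) : D.C) : G) ∨ (g : G) = ((D.xC ^ (-n) : D.C) : G) * D.i
    rw [SubgroupClass.coe_zpow, ← hn']
    show D.t ^ n = D.x ^ (-n) ∨ D.t ^ n = D.x ^ (-n) * D.i
    have e1 : D.t ^ n = D.x ^ (-n) * D.i ^ n := by
      rw [x, i, ← zpow_natCast D.t 2, ← zpow_natCast D.t 3, ← zpow_mul, ← zpow_mul, ← zpow_add]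
      congr 1
      push_cast
      ring
    rcases D.mem_zi_iff.1 ⟨n, rfl⟩ with e | e <;> simp only at e
    · exact Or.inl (by rw [e1, e, mul_one])
    · exact Or.inr (by rw [e1, e])

variable [Finite G]
include D

/-- Every element of order three in the centralizer of `i` is conjugate there to `x` or `x⁻¹`. -/
theorem exists_conj_C {y : G} (hyC : y ∈ D.C) (hy : orderOf y = 3) :
    ∃ c ∈ D.C, c * D.x * c⁻¹ = y ∨ c * D.x⁻¹ * c⁻¹ = y := by
  have hq : orderOf (QuotientGroup.mk (⟨y, hyC⟩ : D.C) : D.C ⧸ zpowers D.iC) = 3 := by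
    have hd : orderOf (QuotientGroup.mk (⟨y, hyC⟩ : D.C) : D.C ⧸ zpowers D.iC) ∣ 3 := by
      refine orderOf_dvd_of_pow_eq_one ?_
      rw [← QuotientGroup.mk_pow, show (⟨y, hyC⟩ : D.C) ^ 3 = 1 from
        Subtype.ext (by rw [SubmonoidClass.coe_pow, ← hy]; exact pow_orderOf_eq_one y),
        QuotientGroup.mk_one]
    rcases (Nat.dvd_prime Nat.prime_three).1 hd with h | h
    · exfalso
      have h1 : (QuotientGroup.mk (1 : D.C) : D.C ⧸ zpowers D.iC) = QuotientGroup.mk ⟨y, hyC⟩ := by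
        rw [orderOf_eq_one_iff.1 h, QuotientGroup.mk_one]
      rcases D.mk_eq_iff.1 h1 with e | e
      · have e' : y = 1 := e
        rw [e', orderOf_one] at hy; omega
      · have e' : y = 1 * D.i := e
        rw [e', one_mul, D.oi] at hy; omega
    · exact h
  obtain ⟨c, hc⟩ := D.sc3.exists_conj hq
  induction c using QuotientGroup.induction_on with | _ c => ?_
  refine ⟨c, c.2, ?_⟩
  have key : ∀ z : D.C, orderOf (z : G) = 3 →
      (QuotientGroup.mk c * QuotientGroup.mk z * (QuotientGroup.mk c)⁻¹ : D.C ⧸ zpowers D.iC) =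
        QuotientGroup.mk ⟨y, hyC⟩ → (c : G) * z * (c : G)⁻¹ = y := by
    intro z hz e
    rw [← QuotientGroup.mk_inv, ← QuotientGroup.mk_mul, ← QuotientGroup.mk_mul] at e
    rcases D.mk_eq_iff.1 e with h | h
    · exact h.symm
    · exfalso
      have h' : y = (c : G) * z * (c : G)⁻¹ * D.i := h
      have hcomm : Commute ((c : G) * z * (c : G)⁻¹) D.i :=
        D.mem_C.1 (mul_mem (mul_mem c.2 z.2) (inv_mem c.2))
      rw [h', hcomm.orderOf_mul_eq_mul_orderOf_of_coprime (by rw [orderOf_cj, hz, D.oi]; norm_num),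
        orderOf_cj, hz, D.oi] at hy
      omega
  rcases hc with h | h
  · exact Or.inl (key D.xC D.ox h)
  · exact Or.inr (key D.xC⁻¹ (show orderOf (D.x⁻¹ : G) = 3 by rw [orderOf_inv]; exact D.ox) (by
      rw [QuotientGroup.mk_inv]; exact h))

omit [Finite G] in
theorem exists_fused {f : G} (hf : orderOf f = 2) : ∃ g, g * D.i * g⁻¹ = f :=
  isConj_iff.1 (D.one _ _ D.oi hf)

/-- An element of order three centralizing an involution `f` has common centralizer with `f` cyclic of order six. -/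
theorem exists_cyclic {f y : G} (hf : orderOf f = 2) (hy : orderOf y = 3) (hfy : f * y = y * f) :
    ∃ s : G, orderOf s = 6 ∧ f ∈ zpowers s ∧ y ∈ zpowers s ∧
      ∀ p, p * f = f * p → p * y = y * p → p ∈ zpowers s := by
  obtain ⟨g, hg⟩ := D.exists_fused hf
  have hyC : g⁻¹ * y * g ∈ D.C := D.mem_C.2 (by
    have := conj_comm (g := g⁻¹) hfy.symm
    simp only [inv_inv] at this
    rwa [show g⁻¹ * f * g = D.i by rw [← hg]; group] at this)
  obtain ⟨c, hc, hcy⟩ := D.exists_conj_C hyC (by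
    rw [show g⁻¹ * y * g = g⁻¹ * y * g⁻¹⁻¹ by rw [inv_inv], orderOf_cj, hy])
  obtain ⟨h, hhi, hhx⟩ : ∃ h : G, h * D.i * h⁻¹ = f ∧ (h * D.x * h⁻¹ = y ∨ h * D.x⁻¹ * h⁻¹ = y) := by
    refine ⟨g * c, ?_, ?_⟩
    · rw [show g * c * D.i * (g * c)⁻¹ = g * (c * D.i * c⁻¹) * g⁻¹ by group, D.conj_i hc, hg]
    · rcases hcy with e | e
      · left; rw [show g * c * D.x * (g * c)⁻¹ = g * (c * D.x * c⁻¹) * g⁻¹ by group, e]; group
      · right; rw [show g * c * D.x⁻¹ * (g * c)⁻¹ = g * (c * D.x⁻¹ * c⁻¹) * g⁻¹ by group, e]; group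
  refine ⟨h * D.t * h⁻¹, by rw [orderOf_cj, D.ord], ?_, ?_, ?_⟩
  · exact ⟨3, by show (h * D.t * h⁻¹) ^ (3 : ℤ) = f; rw [conj_zpow, ← hhi, i]; group⟩
  · rcases hhx with e | e
    · exact ⟨2, by show (h * D.t * h⁻¹) ^ (2 : ℤ) = y; rw [conj_zpow, ← e, x]; group⟩
    · exact ⟨-2, by show (h * D.t * h⁻¹) ^ (-2 : ℤ) = y; rw [conj_zpow, ← e, x]; group⟩
  · intro p hpf hpy
    have h1 := conj_comm (g := h⁻¹) hpf
    have h2 := conj_comm (g := h⁻¹) hpy
    simp only [inv_inv] at h1 h2
    rw [show h⁻¹ * f * h = D.i by rw [← hhi]; group] at h1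
    have h3 : h⁻¹ * p * h * D.x = D.x * (h⁻¹ * p * h) := by
      rcases hhx with e | e
      · rwa [show h⁻¹ * y * h = D.x by rw [← e]; group] at h2
      · rw [show h⁻¹ * y * h = D.x⁻¹ by rw [← e]; group] at h2
        exact (Commute.inv_right_iff.1 (show Commute (h⁻¹ * p * h) D.x⁻¹ from h2)).eq
    obtain ⟨n, hn⟩ := D.cent_pair h1 h3
    refine ⟨n, ?_⟩
    show (h * D.t * h⁻¹) ^ n = p
    rw [conj_zpow, show D.t ^ n = h⁻¹ * p * h from hn]
    group

/-- K1: a 2-group centralized by an element of order three has order at most two. -/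
theorem card_le_two {P : Subgroup G} (hP : IsPGroup 2 P) {y : G} (hy : orderOf y = 3)
    (hc : ∀ p ∈ P, p * y = y * p) : Nat.card P ≤ 2 := by
  have : Fact (Nat.Prime 2) := ⟨Nat.prime_two⟩
  by_cases hb : P = ⊥
  · rw [hb]; simp
  haveI := (Subgroup.nontrivial_iff_ne_bot P).2 hb
  haveI := hP.center_nontrivial
  obtain ⟨z, hz⟩ := exists_prime_orderOf_dvd_card' (G := Subgroup.center P) 2 (by
    obtain ⟨k, hk⟩ := IsPGroup.iff_card.1 (hP.to_subgroup (Subgroup.center P))
    have h1 : 1 < Nat.card (Subgroup.center P) := Finite.one_lt_card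
    rw [hk] at h1 ⊢
    exact dvd_pow_self 2 (fun e => by rw [e] at h1; simp at h1))
  rw [← orderOf_coe, ← orderOf_coe] at hz
  set f : G := ((z : P) : G) with hfdef
  obtain ⟨s, hs, -, -, hall⟩ := D.exists_cyclic hz hy (hc f (z : P).2)
  have hle : P ≤ zpowers s := fun p hp => hall p
    (congrArg Subtype.val (mem_center_iff.1 z.2 ⟨p, hp⟩)) (hc p hp)
  obtain ⟨k, hk⟩ := IsPGroup.iff_card.1 hP
  have hd := card_dvd_of_le hle
  rw [hk, Nat.card_zpowers, hs] at hd
  rw [hk]
  by_contra hgt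
  have h2k : 2 ≤ k := by
    by_contra h
    interval_cases k <;> simp at hgt
  have := (pow_dvd_pow 2 h2k).trans hd
  norm_num at this

theorem fixed_le_two {P : Subgroup G} (hP : IsPGroup 2 P) {y : G} (hy : orderOf y = 3) :
    Nat.card ↥(P ⊓ centralizer ({y} : Set G)) ≤ 2 :=
  D.card_le_two (hP.to_le inf_le_left) hy fun _ hp => mem_centralizer_singleton_iff.1 hp.2

/-- A 2-subgroup normalized by an element of order three. -/
theorem fixed_cases {P : Subgroup G} (hP : IsPGroup 2 P) {y : G} (hy : orderOf y = 3)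
    (hn : y ∈ normalizer (P : Set G)) :
    (Nat.card P % 3 = 1 ∧ ∀ p ∈ P, p * y = y * p → p = 1) ∨
      (Nat.card P % 3 = 2 ∧ ∃ f ∈ P, orderOf f = 2 ∧ f * y = y * f ∧
        ∀ p ∈ P, p * y = y * p → p = 1 ∨ p = f) := by
  have : Fact (Nat.Prime 2) := ⟨Nat.prime_two⟩
  set F := P ⊓ centralizer ({y} : Set G) with hF
  have hle : Nat.card F ≤ 2 := D.fixed_le_two hP hy
  have hpos : 0 < Nat.card F := Nat.card_pos
  have hm : Nat.card P % 3 = Nat.card F % 3 := card_fixed_modEq (hy ▸ pow_orderOf_eq_one y) hn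
  rcases (show Nat.card F = 1 ∨ Nat.card F = 2 by omega) with h | h
  · refine Or.inl ⟨by rw [hm, h], fun p hp hc => ?_⟩
    have : p ∈ F := ⟨hp, mem_centralizer_singleton_iff.2 hc⟩
    rwa [Subgroup.eq_bot_of_card_eq F h, mem_bot] at this
  · refine Or.inr ⟨by rw [hm, h], ?_⟩
    obtain ⟨f, hf⟩ := exists_prime_orderOf_dvd_card' (G := F) 2 (by rw [h])
    rw [← orderOf_coe] at hf
    refine ⟨f, f.2.1, hf, mem_centralizer_singleton_iff.1 f.2.2, fun p hp hc => ?_⟩
    by_cases h1 : p = 1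
    · exact Or.inl h1
    right
    have hpF : p ∈ F := ⟨hp, mem_centralizer_singleton_iff.2 hc⟩
    obtain ⟨a, -, huniq⟩ := Nat.card_eq_two_iff' (1 : F) |>.1 h
    exact congrArg Subtype.val ((huniq ⟨p, hpF⟩ fun e => h1 (congrArg Subtype.val e)).trans
      (huniq f fun e => by rw [e] at hf; simp at hf).symm)

/-- A Sylow 2-subgroup inside the centralizer of `i`, with `i` central in it. -/
theorem exists_sylow : ∃ S : Sylow 2 G, (S : Subgroup G) ≤ D.C := by
  have : Fact (Nat.Prime 2) := ⟨Nat.prime_two⟩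
  obtain ⟨S⟩ : Nonempty (Sylow 2 G) := inferInstance
  have hdvd : 2 ∣ Nat.card G := D.oi ▸ orderOf_dvd_natCard D.i
  have hne : (S : Subgroup G) ≠ ⊥ := fun e => by
    have := S.not_dvd_index
    rw [e, index_bot] at this
    exact this hdvd
  haveI := (Subgroup.nontrivial_iff_ne_bot _).2 hne
  haveI := S.2.center_nontrivial
  obtain ⟨z, hz⟩ := exists_prime_orderOf_dvd_card' (G := Subgroup.center (S : Subgroup G)) 2 (by
    obtain ⟨k, hk⟩ := IsPGroup.iff_card.1 (S.2.to_subgroup (Subgroup.center (S : Subgroup G)))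
    have h1 : 1 < Nat.card (Subgroup.center (S : Subgroup G)) := Finite.one_lt_card
    rw [hk] at h1 ⊢
    exact dvd_pow_self 2 (fun e => by rw [e] at h1; simp at h1))
  rw [← orderOf_coe, ← orderOf_coe] at hz
  obtain ⟨g, hg⟩ := D.exists_fused hz
  refine ⟨g⁻¹ • S, fun s hs => D.mem_C.2 ?_⟩
  have hs' : g * s * g⁻¹ ∈ (S : Subgroup G) := by
    rw [Sylow.coe_subgroup_smul, mem_pointwise_smul_iff_inv_smul_mem] at hs
    simpa [MulAut.conj_apply] using hs
  have h := congrArg Subtype.val (mem_center_iff.1 z.2 ⟨_, hs'⟩)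
  have h' := conj_comm (g := g⁻¹) h
  simp only [inv_inv] at h'
  rw [show g⁻¹ * (g * s * g⁻¹) * g = s by group,
    show g⁻¹ * ((z : (S : Subgroup G)) : G) * g = D.i by rw [← hg]; group] at h'
  exact h'

omit [Finite G] in
theorem i_mem_center {S : Sylow 2 G} (hS : (S : Subgroup G) ≤ D.C) {s : G} (hs : s ∈ S) :
    s * D.i = D.i * s := D.mem_C.1 (hS hs)

omit [Finite G] in
theorem i_mem_sylow {S : Sylow 2 G} (hS : (S : Subgroup G) ≤ D.C) : D.i ∈ (S : Subgroup G) := by
  have : Fact (Nat.Prime 2) := ⟨Nat.prime_two⟩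
  have hn : zpowers D.i ≤ normalizer ((S : Subgroup G) : Set G) := zpowers_le.2 (by
    rw [mem_normalizer_iff]
    intro s
    constructor
    · intro hs
      rw [← D.i_mem_center hS hs, mul_inv_cancel_right]
      exact hs
    · intro hs
      have h := D.i_mem_center hS hs
      have h2 : D.i * s * D.i⁻¹ = s := by
        have := h
        rw [show D.i * s * D.i⁻¹ * D.i = D.i * s by group] at this
        calc D.i * s * D.i⁻¹ = D.i⁻¹ * (D.i * (D.i * s * D.i⁻¹)) := by group
          _ = D.i⁻¹ * (D.i * s) := by rw [← this]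
          _ = s := by group
      rwa [h2] at hs)
  have hp : IsPGroup 2 (zpowers D.i) := IsPGroup.of_card (n := 1) (by rw [Nat.card_zpowers, D.oi, pow_one])
  have hj : IsPGroup 2 ↥(zpowers D.i ⊔ (S : Subgroup G)) := hp.to_sup_of_normal_right' S.2 hn
  rw [← S.is_maximal' hj le_sup_right]
  exact mem_sup_left (mem_zpowers _)

/-- Burnside: fusion of involutions central in a Sylow subgroup. -/
theorem burnside (S : Sylow 2 G) {a b : G} (ha : orderOf a = 2) (hb : orderOf b = 2)
    (hac : ∀ s ∈ (S : Subgroup G), s * a = a * s) (hbc : ∀ s ∈ (S : Subgroup G), s * b = b * s) :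
    ∃ n ∈ normalizer ((S : Subgroup G) : Set G), n * a * n⁻¹ = b := by
  have : Fact (Nat.Prime 2) := ⟨Nat.prime_two⟩
  obtain ⟨g, hg⟩ := isConj_iff.1 (D.one a b ha hb)
  obtain ⟨n, hn, he⟩ := S.conj_eq_normalizer_conj_of_mem_centralizer a g⁻¹
    (mem_centralizer_iff.2 fun s hs => hac s hs)
    (mem_centralizer_iff.2 fun s hs => by rw [inv_inv, hg]; exact hbc s hs)
  rw [inv_inv, hg] at he
  exact ⟨n⁻¹, inv_mem hn, by rw [he, inv_inv]⟩

end Ctx

end CfsgLib.SelfCentralSix
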