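import Cfsg.Agent.Lib.SelfCentralSix.Frob

/-!
# No odd abelian group is normalized by an `S₃` fixing one vector
-/

set_option autoImplicit false
set_option linter.style.haveILetI false

namespace CfsgLib.SelfCentralSix.Frob

open Subgroup CfsgLib.SelfThree29

variable {V : Type*} [CommGroup V] [Finite V]

/-- The automorphisms stabilizing a subgroup. -/
def stab (W : Subgroup V) : Subgroup (MulAut V) where
  carrier := {σ | ∀ v, σ v ∈ W ↔ v ∈ W}
  one_mem' := fun _ => Iff.rfl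
  mul_mem' := fun {a b} ha hb v => (ha (b v)).trans (hb v)
  inv_mem' := fun {a} ha v => by
    have h := ha (a⁻¹ v)
    rw [MulAut.apply_inv_self] at h
    exact h.symm

/-- Restriction to an invariant subgroup. -/
def restrict (W : Subgroup V) : stab W →* MulAut W where
  toFun σ :=
    { toFun := fun w => ⟨(σ : MulAut V) w, (σ.2 w).2 w.2⟩
      invFun := fun w => ⟨(σ : MulAut V)⁻¹ w, (inv_mem σ.2 w).2 w.2⟩
      left_inv := fun w => Subtype.ext (MulAut.inv_apply_self V _ w)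
      right_inv := fun w => Subtype.ext (MulAut.apply_inv_self V _ w)
      map_mul' := fun a b => Subtype.ext (map_mul (σ : MulAut V) _ _) }
  map_one' := MulEquiv.ext fun w => Subtype.ext rfl
  map_mul' := fun a b => MulEquiv.ext fun w => Subtype.ext rfl

theorem restrict_apply (W : Subgroup V) (σ : stab W) (w : W) : ((restrict W σ w : W) : V) = (σ : MulAut V) w := rfl

set_option maxHeartbeats 1000000 in
/-- The odd abelian group is trivial. -/
theorem eq_bot_of_inverter (h2 : ∀ v : V, v * v = 1) (A : Subgroup (MulAut V)) (φ β : MulAut V)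
    (h3 : φ ^ 3 = 1) (hφA : ∀ a ∈ A, φ * a * φ⁻¹ ∈ A) (hβA : ∀ a ∈ A, β * a * β⁻¹ ∈ A)
    (hCA : ∀ a ∈ A, a * φ = φ * a → a = 1) (hcomm : ∀ a ∈ A, ∀ b ∈ A, a * b = b * a)
    (hodd : Odd (Nat.card A)) (hβ : β * φ * β⁻¹ = φ⁻¹) {i : V} (hi : i ≠ 1)
    (hfix : ∀ v, φ v = v ↔ v = 1 ∨ v = i) (hstab : ∀ a ∈ A, a i = i → a = 1) : A = ⊥ := by
  classical
  haveI : Finite (MulAut V) := Finite.of_injective (fun f : MulAut V => ⇑f) DFunLike.coe_injective
  letI : Fintype A := Fintype.ofFinite A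
  by_contra hne
  -- the span of the orbit
  set W : Subgroup V := closure (Set.range fun a : A => (a : MulAut V) i) with hW
  have hiW : i ∈ W := subset_closure ⟨1, rfl⟩
  have hfwd : ∀ σ : MulAut V, (∀ a : A, σ ((a : MulAut V) i) ∈ W) → ∀ v ∈ W, σ v ∈ W := by
    intro σ h v hv
    induction hv using Subgroup.closure_induction with
    | mem v hv => obtain ⟨a, rfl⟩ := hv; exact h a
    | one => rw [map_one]; exact one_mem W
    | mul v w _ _ h1 h2 => rw [map_mul]; exact mul_mem h1 h2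
    | inv v _ h1 => rw [map_inv]; exact inv_mem h1
  have hφi : φ i = i := (hfix i).2 (Or.inr rfl)
  have hφW : ∀ v ∈ W, φ v ∈ W := hfwd φ fun a => by
    refine subset_closure ⟨⟨φ * a * φ⁻¹, hφA a a.2⟩, ?_⟩
    show φ ((a : MulAut V) (φ⁻¹ i)) = φ ((a : MulAut V) i)
    congr 2
    nth_rewrite 1 [← hφi]
    exact MulAut.inv_apply_self V φ i
  have hAW : ∀ b ∈ A, ∀ v ∈ W, b v ∈ W := fun b hb => hfwd b fun a =>
    subset_closure ⟨⟨b * a, mul_mem hb a.2⟩, rfl⟩
  have hφs : φ ∈ stab W := fun v => ⟨fun h => by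
    have h2 := hφW _ (hφW _ h)
    have h' := congrArg (fun f : MulAut V => f v) h3
    simp only [pow_succ, pow_zero, one_mul, MulAut.mul_apply, MulAut.one_apply] at h'
    rwa [h'] at h2, hφW v⟩
  have hAs : A ≤ stab W := fun a ha v => ⟨fun h => by
    have h1 := hAW a⁻¹ (inv_mem ha) _ h
    rwa [MulAut.inv_apply_self] at h1, hAW a ha v⟩
  set A' := (A.subgroupOf (stab W)).map (restrict W) with hA'
  set φ' := restrict W ⟨φ, hφs⟩ with hφ'
  have hinj : ∀ a : stab W, (a : MulAut V) ∈ A → restrict W a = 1 → a = 1 := by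
    intro a ha h
    refine Subtype.ext (hstab _ ha ?_)
    exact congrArg (fun g : MulAut W => ((g ⟨i, hiW⟩ : W) : V)) h
  have hcard : Nat.card A' = Nat.card A := by
    rw [hA', ← Nat.card_congr (subgroupOfEquivOfLe hAs).toEquiv]
    refine Nat.card_congr (Equiv.symm (Equiv.ofBijective (fun a => ⟨restrict W a.1, a.1, a.2, rfl⟩) ⟨?_, ?_⟩))
    · intro a b e
      have e' : restrict W a.1 = restrict W b.1 := congrArg Subtype.val e
      have h := hinj (a.1⁻¹ * b.1) (mul_mem (inv_mem (mem_subgroupOf.1 a.2)) (mem_subgroupOf.1 b.2))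
        (by rw [map_mul, map_inv, e', inv_mul_cancel])
      exact Subtype.ext (inv_mul_eq_one.1 h)
    · rintro ⟨_, a, ha, rfl⟩
      exact ⟨⟨a, ha⟩, rfl⟩
  -- no vector of `W` is fixed by all of `A`
  let Nm : V →* V :=
    { toFun := fun v => ∏ a : A, (a : MulAut V) v
      map_one' := by simp
      map_mul' := fun v w => by simp [Finset.prod_mul_distrib] }
  have hNmA : ∀ b ∈ A, ∀ v, b (Nm v) = Nm v := fun b hb v => by
    show b (∏ a : A, (a : MulAut V) v) = ∏ a : A, (a : MulAut V) v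
    rw [map_prod]
    exact Fintype.prod_equiv (Equiv.mulLeft ⟨b, hb⟩) _ _ fun a => rfl
  have hNmA' : ∀ b ∈ A, ∀ v, Nm (b v) = Nm v := fun b hb v => by
    show ∏ a : A, (a : MulAut V) (b v) = ∏ a : A, (a : MulAut V) v
    exact Fintype.prod_equiv (Equiv.mulRight ⟨b, hb⟩) _ _ fun a => rfl
  have hNmφ : φ (Nm i) = Nm i := by
    show φ (∏ a : A, (a : MulAut V) i) = ∏ a : A, (a : MulAut V) i
    rw [map_prod]
    let g : A → A := fun a => ⟨φ * (a : MulAut V) * φ⁻¹, hφA a a.2⟩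
    have hg : Function.Injective g := fun a b e => Subtype.ext (by
      have e' : φ * (a : MulAut V) * φ⁻¹ = φ * (b : MulAut V) * φ⁻¹ := congrArg Subtype.val e
      exact mul_left_cancel (mul_right_cancel e'))
    refine Fintype.prod_bijective g (Finite.injective_iff_bijective.1 hg) _ _ fun a => ?_
    show φ ((a : MulAut V) i) = φ ((a : MulAut V) (φ⁻¹ i))
    congr 2
    nth_rewrite 1 [← MulAut.inv_apply_self V φ i]
    rw [hφi]
  have hNmi : Nm i = 1 := ((hfix _).1 hNmφ).resolve_right fun e => hne (eq_bot_iff.2 fun a ha =>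
    mem_bot.2 (hstab a ha (by have := hNmA a ha i; rwa [e] at this)))
  have hNmW : ∀ v ∈ W, Nm v = 1 := by
    intro v hv
    induction hv using Subgroup.closure_induction with
    | mem v hv => obtain ⟨a, rfl⟩ := hv; exact (hNmA' a a.2 i).trans hNmi
    | one => exact map_one Nm
    | mul v w _ _ h1 h2 => rw [map_mul, h1, h2, mul_one]
    | inv v _ h1 => rw [map_inv, h1, inv_one]
  have hV0 : ∀ v ∈ W, (∀ a ∈ A, a v = v) → v = 1 := by
    intro v hv hva
    have h1 := hNmW v hv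
    have h4 : Nm v = v := by
      show ∏ a : A, (a : MulAut V) v = v
      rw [Finset.prod_congr rfl fun (a : A) _ => hva a a.2, Finset.prod_const, Finset.card_univ,
        ← Nat.card_eq_fintype_card]
      obtain ⟨k, hk⟩ := hodd
      rw [hk, pow_succ, pow_mul, sq, h2, one_pow, one_mul]
    rw [← h4, h1]
  have h7 := card_eq (fun w : W => Subtype.ext (h2 w.1)) A' φ' (by
      rw [hφ', ← map_pow, show (⟨φ, hφs⟩ : stab W) ^ 3 = 1 from Subtype.ext h3, map_one])
    (by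
      rintro _ ⟨a, ha, rfl⟩
      exact ⟨⟨φ, hφs⟩ * a * ⟨φ, hφs⟩⁻¹, mem_subgroupOf.2 (hφA _ (mem_subgroupOf.1 ha)),
        by rw [hφ', map_mul, map_mul, map_inv]⟩)
    (by
      rintro _ ⟨a, ha, rfl⟩ hc
      have h := hinj (a⁻¹ * (⟨φ, hφs⟩ * a * ⟨φ, hφs⟩⁻¹))
        (mul_mem (inv_mem (mem_subgroupOf.1 ha)) (hφA _ (mem_subgroupOf.1 ha)))
        (by rw [map_mul, map_inv, map_mul, map_mul, map_inv, ← hφ', ← hc, mul_inv_cancel_right, inv_mul_cancel])
      have h' : (a : MulAut V) = φ * a * φ⁻¹ := congrArg Subtype.val (inv_mul_eq_one.1 h)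
      rw [show a = 1 from Subtype.ext (hCA _ (mem_subgroupOf.1 ha) (eq_mul_inv_iff_mul_eq.1 h')), map_one])
    (by
      rintro _ ⟨a, ha, rfl⟩ _ ⟨b, hb, rfl⟩
      rw [← map_mul, ← map_mul]
      exact congrArg _ (Subtype.ext (hcomm _ (mem_subgroupOf.1 ha) _ (mem_subgroupOf.1 hb))))
    (hcard.symm ▸ hodd)
    (fun w hw => Subtype.ext (hV0 w w.2 fun a ha =>
      congrArg Subtype.val (hw (restrict W ⟨a, hAs ha⟩) ⟨⟨a, hAs ha⟩, mem_subgroupOf.2 ha, rfl⟩)))
    (i := ⟨i, hiW⟩) (fun e => hi (congrArg Subtype.val e))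
    (fun w => by
      rw [hφ', Subtype.ext_iff, restrict_apply, hfix, Subtype.ext_iff, Subtype.ext_iff]
      exact Iff.rfl)
    (fun e => hne (eq_bot_of_card_eq A (by rw [← hcard, e, card_bot])))
  have hA7 : Nat.card A = 7 := hcard ▸ h7.1
  haveI : Fact (Nat.Prime 7) := ⟨by norm_num⟩
  obtain ⟨⟨g, hgA⟩, hgne⟩ : ∃ g : A, g ≠ 1 := by
    haveI := (Subgroup.nontrivial_iff_ne_bot A).2 hne
    exact exists_ne 1
  have hg1 : g ≠ 1 := fun e => hgne (Subtype.ext e)
  have hgen : A = zpowers g := by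
    refine (eq_of_le_of_card_ge (zpowers_le.2 hgA) ?_).symm
    have h : orderOf g ∣ 7 := hA7 ▸ Subgroup.orderOf_dvd_natCard A hgA
    rcases (Nat.dvd_prime (by norm_num)).1 h with e | e
    · exact absurd (orderOf_eq_one_iff.1 e) hg1
    · rw [hA7, Nat.card_zpowers, e]
  obtain ⟨m, hm⟩ : φ * g * φ⁻¹ ∈ zpowers g := hgen ▸ hφA g hgA
  obtain ⟨l, hl⟩ : β * g * β⁻¹ ∈ zpowers g := hgen ▸ hβA g hgA
  simp only at hm hl
  set k := β * g * β⁻¹ with hk
  have hkA : k ∈ A := hβA g hgA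
  have e1 : φ⁻¹ * k * φ⁻¹⁻¹ = φ * k * φ⁻¹ := by
    calc φ⁻¹ * k * φ⁻¹⁻¹ = (β * φ * β⁻¹) * (β * g * β⁻¹) * (β * φ * β⁻¹)⁻¹ := by rw [hβ, hk]
      _ = β * (φ * g * φ⁻¹) * β⁻¹ := by group
      _ = β * g ^ m * β⁻¹ := by rw [hm]
      _ = (g ^ l) ^ m := by rw [hl, hk, conj_zpow]
      _ = (g ^ m) ^ l := by rw [← zpow_mul, ← zpow_mul, mul_comm]
      _ = φ * g ^ l * φ⁻¹ := by rw [hm, conj_zpow]
      _ = φ * k * φ⁻¹ := by rw [hl]
  have hc2 : Commute k (φ * φ) := by
    show k * (φ * φ) = φ * φ * k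
    calc k * (φ * φ) = φ * (φ⁻¹ * k * φ⁻¹⁻¹) * φ := by group
      _ = φ * (φ * k * φ⁻¹) * φ := by rw [e1]
      _ = φ * φ * k := by group
  have hkφ : Commute k φ := by
    have h4 := Commute.mul_right hc2 hc2
    rwa [show φ * φ * (φ * φ) = φ by
      rw [show φ * φ * (φ * φ) = φ ^ 3 * φ by simp [pow_succ, mul_assoc], h3, one_mul]] at h4
  exact hg1 (conj_eq_one_iff.1 (hCA k hkA hkφ.eq))

end CfsgLib.SelfCentralSix.Frob
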