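import Cfsg.Agent.Lib.SelfThree29.Fpf

/-!
# An odd group of automorphisms normalized by an automorphism of order three with few fixed points

If `φ` of order three normalizes `A` and fixes nothing in `A`, then fixed points of conjugates of `φ`
generate.  If moreover the group is elementary abelian, `A` is abelian and `φ` fixes exactly one
involution, then `A` is trivial or of order seven and the group has order eight.
-/

set_option autoImplicit false
set_option linter.style.haveILetI false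

namespace CfsgLib.SelfCentralSix.Frob

open Subgroup CfsgLib.SelfThree29

variable {V : Type*} [CommGroup V] [Finite V]

omit [Finite V] in
theorem three_fixed (ψ : MulAut V) (h3 : ψ ^ 3 = 1) (v : V) :
    ψ (v * ψ v * ψ (ψ v)) = v * ψ v * ψ (ψ v) := by
  have h : ψ (ψ (ψ v)) = v := by
    have h' := congrArg (fun f : MulAut V => f v) h3
    simpa [pow_succ] using h'
  rw [map_mul, map_mul, h, mul_assoc v, mul_comm v]

/-- The fixed points of the conjugates of `φ` generate. -/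
theorem mem_of_fixed (A : Subgroup (MulAut V)) (φ : MulAut V) (h3 : φ ^ 3 = 1)
    (hφA : ∀ a ∈ A, φ * a * φ⁻¹ ∈ A) (hCA : ∀ a ∈ A, a * φ = φ * a → a = 1)
    (hVA : ∀ v, (∀ a ∈ A, a v = v) → v = 1) (hcop : (Nat.card A).Coprime (Nat.card V))
    (W : Subgroup V) (hW : ∀ a ∈ A, ∀ v, φ v = v → a v ∈ W) (w : V) : w ∈ W := by
  classical
  haveI : Finite (MulAut V) := Finite.of_injective (fun f : MulAut V => ⇑f) DFunLike.coe_injective
  letI : Fintype A := Fintype.ofFinite A
  have hA2 : ∀ a ∈ A, φ ^ 2 * a * (φ ^ 2)⁻¹ ∈ A := fun a ha => by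
    have h := hφA _ (hφA a ha)
    rwa [show φ * (φ * a * φ⁻¹) * φ⁻¹ = φ ^ 2 * a * (φ ^ 2)⁻¹ by rw [sq]; group] at h
  have hC2 : ∀ a ∈ A, a * φ ^ 2 = φ ^ 2 * a → a = 1 := fun a ha h => hCA a ha (by
    have h4 : φ = φ ^ 2 * φ ^ 2 := by rw [← pow_add, pow_succ φ 3, h3, one_mul]
    rw [h4]
    exact (Commute.mul_right (show Commute a (φ ^ 2) from h) h).eq)
  have hzero : ∀ ψ : MulAut V, (∀ a ∈ A, ψ * a * ψ⁻¹ ∈ A) → (∀ a ∈ A, a * ψ = ψ * a → a = 1) →
      ∏ a : A, ((a : MulAut V) * ψ * (a : MulAut V)⁻¹) w = 1 := by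
    intro ψ hn hc
    let g : A → A := fun a => ⟨(a : MulAut V) * (ψ * (a : MulAut V)⁻¹ * ψ⁻¹),
      mul_mem a.2 (hn _ (inv_mem a.2))⟩
    have hg : Function.Injective g := by
      intro a b e
      have e' : (a : MulAut V) * (ψ * (a : MulAut V)⁻¹ * ψ⁻¹) = b * (ψ * (b : MulAut V)⁻¹ * ψ⁻¹) :=
        congrArg Subtype.val e
      have h1 := hc _ (mul_mem (inv_mem b.2) a.2) (by
        calc (b : MulAut V)⁻¹ * a * ψ
            = (b : MulAut V)⁻¹ * ((a : MulAut V) * (ψ * (a : MulAut V)⁻¹ * ψ⁻¹)) * ψ * a := by group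
          _ = (b : MulAut V)⁻¹ * ((b : MulAut V) * (ψ * (b : MulAut V)⁻¹ * ψ⁻¹)) * ψ * a := by rw [e']
          _ = ψ * ((b : MulAut V)⁻¹ * a) := by group)
      exact Subtype.ext (eq_of_inv_mul_eq_one h1).symm
    have hfix : ∀ u : V, ∏ a : A, (a : MulAut V) u = 1 := by
      intro u
      refine hVA _ fun b hb => ?_
      rw [map_prod]
      exact Fintype.prod_equiv (Equiv.mulLeft ⟨b, hb⟩) _ _ fun a => rfl
    rw [← hfix (ψ w)]
    refine Fintype.prod_bijective g (Finite.injective_iff_bijective.1 hg) _ _ fun a => ?_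
    show ((a : MulAut V) * ψ * (a : MulAut V)⁻¹) w = ((a : MulAut V) * (ψ * (a : MulAut V)⁻¹ * ψ⁻¹)) (ψ w)
    simp
  have h1 := hzero φ hφA hCA
  have h2 := hzero (φ ^ 2) hA2 hC2
  have hmem : ∀ a : A, w * ((a : MulAut V) * φ * (a : MulAut V)⁻¹) w *
      ((a : MulAut V) * φ ^ 2 * (a : MulAut V)⁻¹) w ∈ W := by
    intro a
    have hf := three_fixed φ h3 ((a : MulAut V)⁻¹ w)
    have h := hW a a.2 _ hf
    rw [map_mul, map_mul] at h
    simpa [sq, mul_assoc] using h
  have h := prod_mem (fun a (_ : a ∈ (Finset.univ : Finset A)) => hmem a)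
  rw [Finset.prod_mul_distrib, Finset.prod_mul_distrib, h1, h2, mul_one, mul_one, Finset.prod_const,
    Finset.card_univ, ← Nat.card_eq_fintype_card] at h
  obtain ⟨k, hk⟩ : ∃ k : ℕ, w = (w ^ Nat.card A) ^ k :=
    ⟨_, (pow_gcd_eq_one_aux w hcop)⟩
  rw [hk]
  exact pow_mem h k
where
  /-- coprime powers -/
  pow_gcd_eq_one_aux (w : V) {n : ℕ} (hcop : n.Coprime (Nat.card V)) :
      w = (w ^ n) ^ (Nat.gcdA n (Nat.card V) % (Nat.card V : ℤ)).toNat := by
    have hb := Nat.gcd_eq_gcd_ab n (Nat.card V)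
    rw [show Nat.gcd n (Nat.card V) = 1 from hcop] at hb
    have hpos : (0 : ℤ) < Nat.card V := by exact_mod_cast Nat.card_pos
    rw [← zpow_natCast (w ^ n), Int.toNat_of_nonneg (Int.emod_nonneg _ hpos.ne'), Int.emod_def,
      ← zpow_natCast w n, ← zpow_mul, mul_sub, zpow_sub, ← mul_assoc, mul_comm (n : ℤ) (Nat.card V : ℤ),
      mul_assoc, zpow_mul w (Nat.card V : ℤ), zpow_natCast, pow_card_eq_one', one_zpow, inv_one, mul_one]
    conv_lhs => rw [← zpow_one w]
    have e : (n : ℤ) * Nat.gcdA n (Nat.card V) =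
        1 + (Nat.card V : ℤ) * (-Nat.gcdB n (Nat.card V)) := by
      push_cast at hb
      linarith
    rw [e, zpow_add, zpow_one, zpow_mul w (Nat.card V : ℤ), zpow_natCast, pow_card_eq_one', one_zpow,
      mul_one]

/-- A fixed-point-free pair forces the trivial group. -/
theorem eq_one_of_fixed (A : Subgroup (MulAut V)) (φ : MulAut V) (h3 : φ ^ 3 = 1)
    (hφA : ∀ a ∈ A, φ * a * φ⁻¹ ∈ A) (hCA : ∀ a ∈ A, a * φ = φ * a → a = 1)
    (hVA : ∀ v, (∀ a ∈ A, a v = v) → v = 1) (hcop : (Nat.card A).Coprime (Nat.card V))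
    (hf : ∀ v, φ v = v → v = 1) (w : V) : w = 1 :=
  mem_bot.1 (mem_of_fixed A φ h3 hφA hCA hVA hcop ⊥
    (fun a _ v hv => by rw [hf v hv, map_one]; exact one_mem _) w)

section Seven

variable (h2 : ∀ v : V, v * v = 1) (A : Subgroup (MulAut V)) (φ : MulAut V) (h3 : φ ^ 3 = 1)
  (hφA : ∀ a ∈ A, φ * a * φ⁻¹ ∈ A) (hCA : ∀ a ∈ A, a * φ = φ * a → a = 1)
  (hcomm : ∀ a ∈ A, ∀ b ∈ A, a * b = b * a)
  (hodd : Odd (Nat.card A)) (hVA : ∀ v, (∀ a ∈ A, a v = v) → v = 1) {i : V} (hi : i ≠ 1)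
  (hfix : ∀ v, φ v = v ↔ v = 1 ∨ v = i)

include h2

theorem card_coprime {A : Subgroup (MulAut V)} (hodd : Odd (Nat.card A)) :
    (Nat.card A).Coprime (Nat.card V) := by
  haveI : Fact (Nat.Prime 2) := ⟨Nat.prime_two⟩
  have hp : IsPGroup 2 V := fun v => ⟨1, by rw [pow_one, sq]; exact h2 v⟩
  obtain ⟨k, hk⟩ := IsPGroup.iff_card.1 hp
  rw [hk]
  exact Nat.Coprime.pow_right k (Nat.coprime_two_right.2 hodd)

include h3 hφA hCA hcomm hodd hVA hfix

theorem agree {f g : V →* V} (hfA : ∀ a ∈ A, ∀ v, f (a v) = a (f v)) (hgA : ∀ a ∈ A, ∀ v, g (a v) = a (g v))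
    (hfg : f i = g i) : ∀ v, f v = g v := by
  intro v
  refine mem_of_fixed A φ h3 hφA hCA hVA (card_coprime h2 hodd) (MonoidHom.eqLocus f g) ?_ v
  intro a ha u hu
  show f (a u) = g (a u)
  rcases (hfix u).1 hu with rfl | rfl
  · rw [map_one, map_one, map_one]
  · rw [hfA a ha, hgA a ha, hfg]

include hi

/-- Every element satisfies an irreducible cubic. -/
theorem cubic {a : MulAut V} (ha : a ∈ A) (hne : a ≠ 1) :
    ((∀ v, a (a (a v)) = a v * v) ∧
      ∀ v, (φ * a * φ⁻¹) ((φ * a * φ⁻¹) ((φ * a * φ⁻¹) v)) = (φ * a * φ⁻¹) v * v) ∨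
    ((∀ v, a (a (a v)) = a (a v) * v) ∧
      ∀ v, (φ * a * φ⁻¹) ((φ * a * φ⁻¹) ((φ * a * φ⁻¹) v)) =
        (φ * a * φ⁻¹) ((φ * a * φ⁻¹) v) * v) := by
  set b := φ * a * φ⁻¹ with hb
  set c := φ * b * φ⁻¹ with hc
  have hbA : b ∈ A := hφA a ha
  have hcA : c ∈ A := hφA b hbA
  have hca : φ * c * φ⁻¹ = a := by
    rw [hc, hb, show φ * (φ * (φ * a * φ⁻¹) * φ⁻¹) * φ⁻¹ = φ ^ 3 * a * (φ ^ 3)⁻¹ by
      simp only [pow_succ, pow_zero, one_mul, mul_inv_rev, mul_assoc], h3]
    group
  have cm : ∀ {p q : MulAut V}, p ∈ A → q ∈ A → ∀ v, p (q v) = q (p v) := fun hp hq v =>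
    congrArg (fun f : MulAut V => f v) (hcomm _ hp _ hq)
  have hφ : ∀ (p : MulAut V) (v : V), φ (p v) = (φ * p * φ⁻¹) (φ v) := fun p v => by simp
  have hφi : φ i = i := (hfix i).2 (Or.inr rfl)
  -- the elementary symmetric functions
  let e1 : V →* V := a.toMonoidHom * b.toMonoidHom * c.toMonoidHom
  let e2 : V →* V := (a * b).toMonoidHom * (b * c).toMonoidHom * (c * a).toMonoidHom
  have he1 : ∀ v, e1 v = a v * b v * c v := fun v => rfl
  have he2 : ∀ v, e2 v = a (b v) * b (c v) * c (a v) := fun v => rfl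
  have he1A : ∀ p ∈ A, ∀ v, e1 (p v) = p (e1 v) := fun p hp v => by
    rw [he1, he1, map_mul, map_mul, cm ha hp, cm hbA hp, cm hcA hp]
  have he2A : ∀ p ∈ A, ∀ v, e2 (p v) = p (e2 v) := fun p hp v => by
    rw [he2, he2, map_mul, map_mul, cm hbA hp, cm hcA hp, cm ha hp, cm ha hp, cm hbA hp, cm hcA hp]
  have he1i : e1 i = 1 ∨ e1 i = i := (hfix _).1 (by
    rw [he1, map_mul, map_mul, hφ a, hφ b, hφ c, hca, hφi, ← hb, ← hc]
    rw [mul_assoc (a i), mul_comm (a i)])
  have he2i : e2 i = 1 ∨ e2 i = i := (hfix _).1 (by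
    rw [he2, map_mul, map_mul, hφ a, hφ b, hφ c, hφ b, hφ c, hφ a, hca, hφi, ← hb, ← hc]
    rw [mul_assoc (a (b i)), mul_comm (a (b i))])
  have he3 : ∀ v, a (b (c v)) = v := by
    refine agree h2 A φ h3 hφA hCA hcomm hodd hVA hfix (f := (a * b * c).toMonoidHom)
      (g := MonoidHom.id V) ?_ ?_ ?_
    · intro p hp v
      show a (b (c (p v))) = p (a (b (c v)))
      rw [cm hcA hp, cm hbA hp, cm ha hp]
    · intro p hp v; rfl
    · show a (b (c i)) = i
      refine ((hfix _).1 ?_).resolve_left fun h => hi ?_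
      · rw [hφ a, hφ b, hφ c, hca, hφi, ← hb, ← hc, cm hcA ha, cm hbA ha]
      · simpa using h
  have one : ∀ {f : V →* V}, (∀ p ∈ A, ∀ v, f (p v) = p (f v)) → f i = 1 → ∀ v, f v = 1 :=
    fun hf h v => agree h2 A φ h3 hφA hCA hcomm hodd hVA hfix (g := 1) hf
      (fun p _ w => by rw [MonoidHom.one_apply, MonoidHom.one_apply, map_one]) h v
  have idn : ∀ {f : V →* V}, (∀ p ∈ A, ∀ v, f (p v) = p (f v)) → f i = i → ∀ v, f v = v :=
    fun hf h v => agree h2 A φ h3 hφA hCA hcomm hodd hVA hfix (g := MonoidHom.id V) hf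
      (fun p _ w => rfl) h v
  have inv2 : ∀ v : V, v⁻¹ = v := fun v => inv_eq_of_mul_eq_one_right (h2 v)
  have cancel : ∀ p q : V, p * q * q = p := fun p q => by rw [mul_assoc, h2, mul_one]
  -- every root satisfies the same cubic
  have norm1 : ∀ v, b (a v) = a (b v) := cm hbA ha
  have norm2 : ∀ v, c (a v) = a (c v) := cm hcA ha
  have norm3 : ∀ v, c (b v) = b (c v) := cm hcA hbA
  have rootA : ∀ v, a (a (a v)) = e1 (a (a v)) * e2 (a v) * v := fun v => by
    rw [he1, he2]
    simp only [norm1, norm2, norm3]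
    conv_rhs => arg 2; rw [← he3 v]
    rw [show a (a (a v)) * a (a (b v)) * a (a (c v)) * (a (a (b v)) * a (b (c v)) * a (a (c v))) *
        a (b (c v)) = a (a (a v)) * (a (a (b v)) * a (a (b v))) * (a (a (c v)) * a (a (c v))) *
        (a (b (c v)) * a (b (c v))) by ac_rfl, h2, h2, h2, mul_one, mul_one, mul_one]
  have rootB : ∀ v, b (b (b v)) = e1 (b (b v)) * e2 (b v) * v := fun v => by
    rw [he1, he2]
    simp only [norm1, norm2, norm3]
    conv_rhs => arg 2; rw [← he3 v]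
    rw [show a (b (b v)) * b (b (b v)) * b (b (c v)) * (a (b (b v)) * b (b (c v)) * a (b (c v))) *
        a (b (c v)) = b (b (b v)) * (a (b (b v)) * a (b (b v))) * (b (b (c v)) * b (b (c v))) *
        (a (b (c v)) * a (b (c v))) by ac_rfl, h2, h2, h2, mul_one, mul_one, mul_one]
  have hord : orderOf a ∣ Nat.card A := by
    rw [← orderOf_mk a ha]; exact orderOf_dvd_natCard _
  have h3A : Nat.card A % 3 = 1 := by
    haveI : Finite (MulAut V) := Finite.of_injective (fun f : MulAut V => ⇑f) DFunLike.coe_injective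
    haveI : Fact (Nat.Prime 3) := ⟨Nat.prime_three⟩
    classical
    letI : Fintype A := Fintype.ofFinite A
    let f : Function.End A := fun p => ⟨φ * p * φ⁻¹, hφA p p.2⟩
    have hf : f ^ 3 ^ 1 = 1 := funext fun p => Subtype.ext (by
      show φ * (φ * (φ * (p : MulAut V) * φ⁻¹) * φ⁻¹) * φ⁻¹ = p
      rw [show φ * (φ * (φ * (p : MulAut V) * φ⁻¹) * φ⁻¹) * φ⁻¹ = φ ^ 3 * p * (φ ^ 3)⁻¹ by
        simp only [pow_succ, pow_zero, one_mul, mul_inv_rev, mul_assoc], h3]
      group)
    have h := Equiv.Perm.card_fixedPoints_modEq hf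
    rw [← Nat.card_eq_fintype_card] at h
    have huniq : Fintype.card f.fixedPoints = 1 := by
      refine Fintype.card_eq_one_iff.2 ⟨⟨1, Subtype.ext (show φ * 1 * φ⁻¹ = 1 by group)⟩, ?_⟩
      rintro ⟨⟨p, hp⟩, hpf⟩
      have hpf' : φ * p * φ⁻¹ = p := congrArg Subtype.val hpf
      exact Subtype.ext (Subtype.ext (hCA p hp (mul_inv_eq_iff_eq_mul.1 hpf').symm))
    rw [huniq] at h
    exact h
  rcases he1i with p | p <;> rcases he2i with q | q
  · exfalso
    apply hne
    have h1 : a ^ 3 = 1 := MulEquiv.ext fun v => by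
      have := rootA v
      rw [one he1A p, one he2A q, one_mul, one_mul] at this
      simpa [pow_succ] using this
    rcases (Nat.dvd_prime Nat.prime_three).1 (orderOf_dvd_of_pow_eq_one h1) with h | h
    · exact orderOf_eq_one_iff.1 h
    · rw [h] at hord
      omega
  · left
    exact ⟨fun v => by rw [rootA, one he1A p, idn he2A q, one_mul],
      fun v => by rw [rootB, one he1A p, idn he2A q, one_mul]⟩
  · right
    exact ⟨fun v => by rw [rootA, idn he1A p, one he2A q, mul_one],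
      fun v => by rw [rootB, idn he1A p, one he2A q, mul_one]⟩
  · exfalso
    apply hne
    have h1 : a ^ 4 = 1 := MulEquiv.ext fun v => by
      have e := rootA v
      rw [idn he1A p, idn he2A q] at e
      show a (a (a (a v))) = v
      rw [e, map_mul, map_mul, e, show a (a v) * a v * v * a (a v) * a v =
        (a (a v) * a (a v)) * (a v * a v) * v by ac_rfl, h2, h2, one_mul, one_mul]
    have h2' : orderOf a ∣ 4 := orderOf_dvd_of_pow_eq_one h1
    have hcop : (Nat.card A).Coprime 4 := by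
      rw [show (4 : ℕ) = 2 ^ 2 by norm_num]
      exact Nat.Coprime.pow_right 2 (Nat.coprime_two_right.2 hodd)
    exact orderOf_eq_one_iff.1 (Nat.dvd_one.1 (hcop ▸ Nat.dvd_gcd hord h2'))

theorem pow_seven {a : MulAut V} (ha : a ∈ A) : a ^ 7 = 1 := by
  by_cases hne : a = 1
  · rw [hne, one_pow]
  ext v
  show a (a (a (a (a (a (a v)))))) = v
  rcases cubic h2 A φ h3 hφA hCA hcomm hodd hVA hi hfix ha hne with ⟨h, -⟩ | ⟨h, -⟩ <;>
    simp [h, map_mul, mul_assoc, mul_comm, mul_left_comm, h2]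

theorem fixed_free {a : MulAut V} (ha : a ∈ A) (hne : a ≠ 1) {v : V} (hv : a v = v) : v = 1 := by
  rcases cubic h2 A φ h3 hφA hCA hcomm hodd hVA hi hfix ha hne with ⟨h, -⟩ | ⟨h, -⟩ <;>
  · have := h v
    rw [hv, hv, hv, h2] at this
    first | exact this | (rw [hv, h2] at this; exact this)

theorem conj_cases {a : MulAut V} (ha : a ∈ A) (hne : a ≠ 1) :
    φ * a * φ⁻¹ = a ∨ φ * a * φ⁻¹ = a ^ 2 ∨ φ * a * φ⁻¹ = a ^ 4 := by
  set b := φ * a * φ⁻¹ with hb
  have hbA : b ∈ A := hφA a ha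
  have cm : ∀ v, a (b v) = b (a v) := fun v => congrArg (fun f : MulAut V => f v) (hcomm a ha b hbA)
  by_contra hcon
  push Not at hcon
  obtain ⟨h1, h2', h4⟩ := hcon
  have inj : ∀ p ∈ A, b ≠ p → ∀ v, b v * p v = 1 → v = 1 := by
    intro p hp hbp v hv
    refine fixed_free h2 A φ h3 hφA hCA hcomm hodd hVA hi hfix (mul_mem (inv_mem hp) hbA)
      (fun e => hbp (eq_of_inv_mul_eq_one e).symm) ?_
    show p⁻¹ (b v) = v
    rw [show b v = p v from by rw [← mul_inv_eq_one, inv_eq_of_mul_eq_one_right (h2 (p v))]; exact hv]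
    exact p.symm_apply_apply v
  obtain ⟨v, hv⟩ : ∃ v : V, v ≠ 1 := ⟨i, hi⟩
  apply hv
  set u := b v * a (a (a (a v))) with hu
  set w := b u * a (a u) with hw
  have hzero : b w * a w = 1 := by
    rw [hw, hu]
    simp only [map_mul, ← cm]
    rcases cubic h2 A φ h3 hφA hCA hcomm hodd hVA hi hfix ha hne with ⟨h, hh⟩ | ⟨h, hh⟩ <;>
    · rw [← hb] at hh
      simp [h, hh, map_mul, mul_assoc, mul_comm, mul_left_comm, h2, ← cm]
  refine inj (a ^ 4) (pow_mem ha 4) h4 v ?_
  exact inj (a ^ 2) (pow_mem ha 2) h2' u (inj a ha h1 w hzero)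

/-- The conclusion. -/
theorem card_eq (hne : A ≠ ⊥) : Nat.card A = 7 ∧ Nat.card V = 8 := by
  classical
  haveI : Finite (MulAut V) := Finite.of_injective (fun f : MulAut V => ⇑f) DFunLike.coe_injective
  haveI := (Subgroup.nontrivial_iff_ne_bot A).2 hne
  obtain ⟨⟨a, ha⟩, hane⟩ := exists_ne (1 : A)
  have hne' : a ≠ 1 := fun e => hane (Subtype.ext e)
  have h7 := fun {p} => pow_seven h2 A φ h3 hφA hCA hcomm hodd hVA hi hfix (a := p)
  have hpow : a ^ 7 = 1 := h7 ha
  let W : Subgroup V := Subgroup.closure {i, a i, a (a i)}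
  -- the orbit of `i` under the cyclic group generated by `a`
  have hgen : ∀ n : ℕ, (a ^ n) i ∈ W := by
    have b0 : i ∈ W := subset_closure (by simp)
    have b1 : a i ∈ W := subset_closure (by simp)
    have b2 : a (a i) ∈ W := subset_closure (by simp)
    have key : ∀ n : ℕ, (a ^ n) i ∈ W ∧ (a ^ (n + 1)) i ∈ W ∧ (a ^ (n + 2)) i ∈ W := by
      intro n
      induction n with
      | zero => exact ⟨by simpa using b0, by simpa using b1, by simpa [sq] using b2⟩
      | succ n ih =>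
        refine ⟨ih.2.1, ih.2.2, ?_⟩
        have e : (a ^ (n + 1 + 2)) i = a (a (a ((a ^ n) i))) := by
          rw [show n + 1 + 2 = 1 + (1 + (1 + n)) by omega, pow_add, pow_add, pow_add, pow_one]
          rfl
        rw [e]
        rcases cubic h2 A φ h3 hφA hCA hcomm hodd hVA hi hfix ha hne' with ⟨h, -⟩ | ⟨h, -⟩
        · rw [h]
          refine mul_mem ?_ ih.1
          simpa [pow_succ', MulAut.mul_apply] using ih.2.1
        · rw [h]
          refine mul_mem ?_ ih.1
          simpa [pow_succ', MulAut.mul_apply] using ih.2.2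
    exact fun n => (key n).1
  have htop : ∀ v, v ∈ W := by
    intro v
    refine mem_of_fixed (zpowers a) φ h3 ?_ (fun p hp => hCA p (zpowers_le.2 ha hp)) ?_ ?_ W ?_ v
    · rintro p ⟨k, rfl⟩
      rw [show φ * a ^ k * φ⁻¹ = (φ * a * φ⁻¹) ^ k from conj_zpow.symm]
      refine Subgroup.zpow_mem _ ?_ k
      rcases conj_cases h2 A φ h3 hφA hCA hcomm hodd hVA hi hfix ha hne' with e | e | e <;> rw [e]
      · exact mem_zpowers a
      · exact pow_mem (mem_zpowers a) 2
      · exact pow_mem (mem_zpowers a) 4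
    · intro u hu
      exact fixed_free h2 A φ h3 hφA hCA hcomm hodd hVA hi hfix ha hne' (hu a (mem_zpowers a))
    · refine card_coprime h2 ?_
      rw [Nat.card_zpowers]
      exact Odd.of_dvd_nat hodd (by rw [← orderOf_mk a ha]; exact orderOf_dvd_natCard _)
    · intro p hp u hu
      obtain ⟨n, rfl⟩ := (isOfFinOrder_of_finite a).mem_powers_iff_mem_zpowers.2 hp
      rcases (hfix u).1 hu with rfl | rfl
      · rw [map_one]; exact one_mem _
      · exact hgen n
  have hV8 : Nat.card V ≤ 8 := by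
    let g : Bool × Bool × Bool → V := fun p =>
      cond p.1 i 1 * cond p.2.1 (a i) 1 * cond p.2.2 (a (a i)) 1
    have hsub : ∀ v ∈ W, ∃ p, g p = v := by
      intro v hv
      induction hv using Subgroup.closure_induction with
      | mem y hy =>
        simp only [Set.mem_insert_iff, Set.mem_singleton_iff] at hy
        rcases hy with rfl | rfl | rfl
        · exact ⟨(true, false, false), by simp [g]⟩
        · exact ⟨(false, true, false), by simp [g]⟩
        · exact ⟨(false, false, true), by simp [g]⟩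
      | one => exact ⟨(false, false, false), by simp [g]⟩
      | mul p q _ _ hp hq =>
        obtain ⟨⟨p1, p2, p3⟩, rfl⟩ := hp
        obtain ⟨⟨q1, q2, q3⟩, rfl⟩ := hq
        refine ⟨(xor p1 q1, xor p2 q2, xor p3 q3), ?_⟩
        have key : ∀ (s t : Bool) (u : V), cond (xor s t) u 1 = cond s u 1 * cond t u 1 := by
          intro s t u; cases s <;> cases t <;> simp [h2]
        simp only [g, key]
        ac_rfl
      | inv p _ hp =>
        obtain ⟨q, rfl⟩ := hp
        exact ⟨q, (inv_eq_of_mul_eq_one_right (h2 _)).symm⟩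
    refine (Nat.card_le_card_of_surjective g fun v => hsub v (htop v)).trans ?_
    simp [Nat.card_eq_fintype_card]
  have hinj : Function.Injective fun p : A =>
      (⟨(p : MulAut V) i, fun e => hi (by
        have := congrArg (p : MulAut V).symm e; simpa using this)⟩ : {v : V // v ≠ 1}) := by
    intro p q e
    have e' : (p : MulAut V) i = (q : MulAut V) i := congrArg Subtype.val e
    by_contra hpq
    refine hi (fixed_free h2 A φ h3 hφA hCA hcomm hodd hVA hi hfix
      (mul_mem (inv_mem q.2) p.2) (fun h => hpq (Subtype.ext (eq_of_inv_mul_eq_one h).symm)) ?_)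
    show (q : MulAut V)⁻¹ ((p : MulAut V) i) = i
    rw [e']
    exact (q : MulAut V).symm_apply_apply i
  have hA7 : Nat.card A ≤ Nat.card {v : V // v ≠ 1} := Nat.card_le_card_of_injective _ hinj
  have hV1 : Nat.card {v : V // v ≠ 1} + 1 = Nat.card V := by
    letI := Fintype.ofFinite V
    rw [Nat.card_eq_fintype_card, Nat.card_eq_fintype_card, Fintype.card_subtype_compl,
      Fintype.card_subtype_eq]
    have : 0 < Fintype.card V := Fintype.card_pos
    omega
  have hord : orderOf a = 7 := orderOf_eq_prime (hp := ⟨by norm_num⟩) hpow hne'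
  have h7A : 7 ∣ Nat.card A := by
    rw [← hord, ← orderOf_mk a ha]; exact orderOf_dvd_natCard _
  have h7le := Nat.le_of_dvd Nat.card_pos h7A
  omega

end Seven

end CfsgLib.SelfCentralSix.Frob
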