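import Cfsg.Agent.Lib.SelfCentralSix.Basic
import Cfsg.Agent.Lib.SelfCentralSix.Frob
import Cfsg.Agent.Lib.RankTwoTypes.Simple

/-!
# Tools: quotients by the central involution, central involutions, fusion counting
-/

set_option autoImplicit false
set_option linter.style.haveILetI false

namespace CfsgLib.SelfCentralSix

open Subgroup CfsgLib.SelfThree29

universe u

variable {G : Type u} [Group G]

theorem conj_triple (y p : G) (h : y ^ 3 = 1) : y * (y * (y * p * y⁻¹) * y⁻¹) * y⁻¹ = p := by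
  calc y * (y * (y * p * y⁻¹) * y⁻¹) * y⁻¹ = y ^ 3 * p * (y ^ 3)⁻¹ := by
        simp only [pow_succ, pow_zero, one_mul, mul_inv_rev, mul_assoc]
    _ = p := by rw [h]; group

/-- A fixed-point-free element of order three: `p · p^y · p^(y²) = 1`. -/
theorem prod_three [Finite G] {P : Subgroup G} {y : G} (hn : y ∈ normalizer (P : Set G)) (hy : y ^ 3 = 1)
    (hf : ∀ p ∈ P, p * y = y * p → p = 1) {p : G} (hp : p ∈ P) :
    p * (y * p * y⁻¹) * (y * (y * p * y⁻¹) * y⁻¹) = 1 :=
  congrArg Subtype.val (mul_three (conjAut P hn) (fun q => Subtype.ext (conj_triple y q hy))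
    (fun q hq => Subtype.ext (hf q q.2 (mul_inv_eq_iff_eq_mul.1 (congrArg Subtype.val hq)).symm)) ⟨p, hp⟩)

/-- An element of order three fixing only `{1, i}` in a group with `i` central: modulo `i` it is fixed-point-free. -/
theorem three_mod [Finite G] {P : Subgroup G} {y i : G} (hn : y ∈ normalizer (P : Set G)) (hy : y ^ 3 = 1)
    (hi : i ∈ P) (hii : i * i = 1) (hzc : ∀ p ∈ P, p * i = i * p) (hyi : i * y = y * i)
    (hf : ∀ p ∈ P, p * y = y * p → p = 1 ∨ p = i) {p : G} (hp : p ∈ P) :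
    (p * (y * p * y⁻¹) * (y * (y * p * y⁻¹) * y⁻¹) = 1 ∨
      p * (y * p * y⁻¹) * (y * (y * p * y⁻¹) * y⁻¹) = i) ∧
    (p * (y * p * y⁻¹) = y * p * y⁻¹ * p ∨ p * (y * p * y⁻¹) = y * p * y⁻¹ * p * i) := by
  classical
  have hy' : ∀ q : G, q ∈ P → y * q * y⁻¹ ∈ P := fun q hq => (mem_normalizer_iff.1 hn q).1 hq
  let Z : Subgroup P :=
    { carrier := {q | (q : G) = 1 ∨ (q : G) = i}
      one_mem' := Or.inl rfl
      mul_mem' := by
        rintro a b (ha | ha) (hb | hb) <;> simp only [Set.mem_setOf_eq, Subgroup.coe_mul, ha, hb] <;> simp [hii]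
      inv_mem' := by
        rintro a (ha | ha) <;> simp only [Set.mem_setOf_eq, Subgroup.coe_inv, ha]
        · simp
        · right; exact inv_eq_of_mul_eq_one_right hii }
  haveI : Z.Normal := ⟨fun a ha g => by
    rcases ha with ha | ha
    · left; simp [Subgroup.coe_mul, ha]
    · right
      show (g : G) * (a : G) * ((g⁻¹ : P) : G) = i
      rw [ha, hzc g g.2, Subgroup.coe_inv, mul_inv_cancel_right]⟩
  let φ := conjAut P hn
  have hfixi : ∀ q : P, (q : G) = i → ((φ q : P) : G) = i := fun q e => by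
    rw [conjAut_coe, e, ← hyi, mul_inv_cancel_right]
  have hZφ : Z.map φ.toMonoidHom = Z := by
    apply le_antisymm
    · rintro _ ⟨a, ha, rfl⟩
      rcases ha with ha | ha
      · left; show y * (a : G) * y⁻¹ = 1; rw [ha]; group
      · right; exact hfixi a ha
    · intro a ha
      refine ⟨a, ha, Subtype.ext ?_⟩
      show y * (a : G) * y⁻¹ = a
      rcases ha with ha | ha
      · rw [ha]; group
      · rw [ha]; rw [← hyi, mul_inv_cancel_right]
  let ψ : MulAut (P ⧸ Z) := QuotientGroup.congr Z Z φ hZφ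
  have hψ : ∀ q : P, ψ (q : P ⧸ Z) = ((φ q : P) : P ⧸ Z) := fun q => rfl
  have h3 : ∀ q, ψ (ψ (ψ q)) = q := by
    intro q
    induction q using QuotientGroup.induction_on with | _ q => ?_
    rw [hψ, hψ, hψ]
    exact congrArg _ (Subtype.ext (conj_triple y q hy))
  have hff : ∀ q, ψ q = q → q = 1 := by
    intro q hq
    induction q using QuotientGroup.induction_on with | _ q => ?_
    rw [hψ, eq_comm, QuotientGroup.eq] at hq
    rcases hq with e | e
    · have e' : (q : G)⁻¹ * (y * q * y⁻¹) = 1 := e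
      rw [QuotientGroup.eq_one_iff]
      rcases hf q q.2 (mul_inv_eq_iff_eq_mul.1 (eq_of_inv_mul_eq_one e').symm).symm with h | h
      · exact Or.inl h
      · exact Or.inr h
    · rw [QuotientGroup.eq_one_iff]
      have e' : (q : G)⁻¹ * (y * q * y⁻¹) = i := e
      have e1 : y * (q : G) * y⁻¹ = q * i := by rw [← e']; group
      have hi' : y * i * y⁻¹ = i := by rw [← hyi, mul_inv_cancel_right]
      have hmul : ∀ w : G, y * (w * i) * y⁻¹ = y * w * y⁻¹ * (y * i * y⁻¹) := fun w => by group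
      have h := conj_triple y (q : G) hy
      rw [e1, hmul, e1, hi', mul_assoc (q : G) i i, hii, mul_one, e1] at h
      have hi1 : i = 1 := mul_eq_left.1 h
      rw [hi1, mul_one] at e1
      exact hf q q.2 (mul_inv_eq_iff_eq_mul.1 e1).symm
  constructor
  · have h := mul_three ψ h3 hff ((⟨p, hp⟩ : P) : P ⧸ Z)
    rw [hψ, hψ, ← QuotientGroup.mk_mul, ← QuotientGroup.mk_mul, QuotientGroup.eq_one_iff] at h
    exact h
  · have h := (commute_map ψ h3 hff ((⟨p, hp⟩ : P) : P ⧸ Z)).eq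
    rw [hψ, ← QuotientGroup.mk_mul, ← QuotientGroup.mk_mul, eq_comm, QuotientGroup.eq] at h
    rcases h with e | e
    · exact Or.inl (eq_of_inv_mul_eq_one e).symm
    · refine Or.inr ?_
      have e' : (y * p * y⁻¹ * p)⁻¹ * (p * (y * p * y⁻¹)) = i := e
      rw [← e']; group

/-- The involutions central in `P`, with the identity. -/
def zInv (P : Subgroup G) : Subgroup G where
  carrier := {a | a ∈ P ∧ a * a = 1 ∧ ∀ p ∈ P, p * a = a * p}
  one_mem' := ⟨one_mem P, mul_one 1, fun p _ => by simp⟩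
  mul_mem' := by
    rintro a b ⟨ha, ha2, hac⟩ ⟨hb, hb2, hbc⟩
    refine ⟨mul_mem ha hb, ?_, fun p hp => ?_⟩
    · calc a * b * (a * b) = a * (b * a) * b := by group
        _ = a * (a * b) * b := by rw [hac b hb]
        _ = (a * a) * (b * b) := by group
        _ = 1 := by rw [ha2, hb2, one_mul]
    · rw [← mul_assoc, hac p hp, mul_assoc, hbc p hp, ← mul_assoc]
  inv_mem' := by
    rintro a ⟨ha, ha2, hac⟩
    rw [inv_eq_of_mul_eq_one_right ha2]
    exact ⟨ha, ha2, hac⟩

theorem mem_zInv {P : Subgroup G} {a : G} :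
    a ∈ zInv P ↔ a ∈ P ∧ a * a = 1 ∧ ∀ p ∈ P, p * a = a * p := Iff.rfl

theorem orderOf_two {a : G} (h : a * a = 1) (h1 : a ≠ 1) : orderOf a = 2 :=
  orderOf_eq_prime (by rw [sq, h]) h1

theorem zInv_normalized {P : Subgroup G} {g : G} (hg : g ∈ normalizer (P : Set G)) :
    g ∈ normalizer (zInv P : Set G) := by
  have key : ∀ g : G, g ∈ normalizer (P : Set G) → ∀ a ∈ zInv P, g * a * g⁻¹ ∈ zInv P := by
    rintro g hg a ⟨ha, ha2, hac⟩
    refine ⟨(mem_normalizer_iff.1 hg a).1 ha, ?_, fun p hp => ?_⟩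
    · rw [show g * a * g⁻¹ * (g * a * g⁻¹) = g * (a * a) * g⁻¹ by group, ha2]; group
    · have h := conj_comm (g := g) (hac (g⁻¹ * p * g) (by
        have := (mem_normalizer_iff.1 (inv_mem hg) p).1 hp; rwa [inv_inv] at this))
      rwa [show g * (g⁻¹ * p * g) * g⁻¹ = p by group] at h
  rw [mem_normalizer_iff]
  refine fun a => ⟨key g hg a, fun h => ?_⟩
  have := key g⁻¹ (inv_mem hg) _ h
  rwa [show g⁻¹ * (g * a * g⁻¹) * g⁻¹⁻¹ = a by group] at this

/-- A nontrivial normal subgroup of a 2-group contains a central involution. -/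
theorem exists_zInv_mem [Finite G] {P N : Subgroup G} (hP : IsPGroup 2 P) (hNP : N ≤ P) (hN : N ≠ ⊥)
    (hnorm : P ≤ normalizer (N : Set G)) : ∃ z ∈ N, z ∈ zInv P ∧ orderOf z = 2 := by
  have : Fact (Nat.Prime 2) := ⟨Nat.prime_two⟩
  classical
  letI : MulAction P N :=
    { smul := fun p n => ⟨(p : G) * n * (p : G)⁻¹, (mem_normalizer_iff.1 (hnorm p.2) _).1 n.2⟩
      one_smul := fun n => Subtype.ext (show (1 : G) * n * (1 : G)⁻¹ = n by group)
      mul_smul := fun p q n => Subtype.ext (show ((p * q : P) : G) * n * ((p * q : P) : G)⁻¹ =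
        (p : G) * ((q : G) * n * (q : G)⁻¹) * (p : G)⁻¹ by rw [Subgroup.coe_mul]; group) }
  obtain ⟨k, hk⟩ := IsPGroup.iff_card.1 (hP.to_le hNP)
  haveI := (Subgroup.nontrivial_iff_ne_bot N).2 hN
  have h1 : 1 < Nat.card N := Finite.one_lt_card
  have hdvd : 2 ∣ Nat.card N := by
    rw [hk] at h1 ⊢
    exact dvd_pow_self 2 (fun e => by rw [e] at h1; simp at h1)
  have hone : (1 : N) ∈ MulAction.fixedPoints P N :=
    fun p => Subtype.ext (show (p : G) * ((1 : N) : G) * (p : G)⁻¹ = ((1 : N) : G) by simp)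
  obtain ⟨w, hw, hw1⟩ := hP.exists_fixed_point_of_prime_dvd_card_of_fixed_point N hdvd hone
  obtain ⟨m, hm⟩ := (hP.to_le hNP) w
  obtain ⟨e, -, he⟩ := (Nat.dvd_prime_pow Nat.prime_two).1 (orderOf_dvd_of_pow_eq_one hm)
  rcases e with - | e
  · rw [pow_zero] at he
    exact absurd (orderOf_eq_one_iff.1 he).symm hw1
  have hord : orderOf (((w : N) : G) ^ 2 ^ e) = 2 := by
    rw [orderOf_pow' _ (pow_ne_zero _ two_ne_zero), orderOf_coe, he, Nat.gcd_eq_right
      (pow_dvd_pow 2 (Nat.le_succ e)), pow_succ, Nat.mul_div_cancel_left _ (pow_pos two_pos e)]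
  refine ⟨_, pow_mem w.2 _, ⟨hNP (pow_mem w.2 _), ?_, fun p hp => ?_⟩, hord⟩
  · have h2 := pow_orderOf_eq_one ((w : G) ^ 2 ^ e)
    rw [hord] at h2
    rwa [← sq]
  · have h2 : p * (w : G) * p⁻¹ = w := congrArg Subtype.val (hw ⟨p, hp⟩)
    exact (Commute.pow_right (show Commute p (w : G) from mul_inv_eq_iff_eq_mul.1 h2) _).eq

/-- A 2-group normalized by an odd group and an element of order three, both fixed-point-free, is trivial. -/
theorem bot_of_fpf_pair [Finite G] {P A : Subgroup G} {y : G} (hP : IsPGroup 2 P)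
    (hA : A ≤ normalizer (P : Set G)) (hyP : y ∈ normalizer (P : Set G))
    (hyA : ∀ a ∈ A, y * a * y⁻¹ ∈ A) (hy : y ^ 3 = 1) (hAodd : Odd (Nat.card A))
    (hCA : ∀ a ∈ A, a * y = y * a → a = 1) (hPA : ∀ p ∈ P, (∀ a ∈ A, a * p = p * a) → p = 1)
    (hPy : ∀ p ∈ P, p * y = y * p → p = 1) : P = ⊥ := by
  have : Fact (Nat.Prime 2) := ⟨Nat.prime_two⟩
  by_contra hne
  obtain ⟨z, hzP, hz, hz2⟩ := exists_zInv_mem hP le_rfl hne le_normalizer
  letI : CommGroup (zInv P) :=
    { (zInv P).toGroup with mul_comm := fun a b => Subtype.ext (b.2.2.2 a a.2.1) }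
  have hyZ := zInv_normalized hyP
  let φ : MulAut (zInv P) := conjAut (zInv P) hyZ
  let f : A →* MulAut (zInv P) :=
    { toFun := fun a => conjAut (zInv P) (zInv_normalized (hA a.2))
      map_one' := MulEquiv.ext fun p => Subtype.ext (show (1 : G) * p * (1 : G)⁻¹ = p by group)
      map_mul' := fun a b => MulEquiv.ext fun p => Subtype.ext (show ((a * b : A) : G) * p * ((a * b : A) : G)⁻¹ =
        (a : G) * ((b : G) * p * (b : G)⁻¹) * (a : G)⁻¹ by rw [Subgroup.coe_mul]; group) }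
  have hcommuteA : Odd (Nat.card f.range) := Odd.of_dvd_nat hAodd (Subgroup.card_range_dvd f)
  have h3 : φ ^ 3 = 1 := MulEquiv.ext fun p => Subtype.ext (conj_triple y p hy)
  have hφf : ∀ a : A, φ * f a * φ⁻¹ = f ⟨y * a * y⁻¹, hyA a a.2⟩ := by
    intro a
    rw [mul_inv_eq_iff_eq_mul]
    refine MulEquiv.ext fun p => Subtype.ext ?_
    show y * ((a : G) * p * (a : G)⁻¹) * y⁻¹ = (y * a * y⁻¹) * (y * p * y⁻¹) * (y * a * y⁻¹)⁻¹
    group
  have key : z = 1 := by
    refine congrArg Subtype.val (Frob.eq_one_of_fixed f.range φ h3 ?_ ?_ ?_ ?_ ?_ ⟨z, hz⟩)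
    · rintro _ ⟨a, rfl⟩
      rw [hφf]
      exact ⟨_, rfl⟩
    · rintro _ ⟨a, rfl⟩ hc
      -- lift the fixed automorphism
      set a' : A := ⟨y * a * y⁻¹, hyA a a.2⟩ with ha'
      have hfa : f a' = f a := by rw [ha', ← hφf, ← hc]; group
      haveI : (f.ker).Normal := MonoidHom.normal_ker f
      have hk : ∀ k : A, k ∈ f.ker → (⟨y * k * y⁻¹, hyA k k.2⟩ : A) ∈ f.ker := fun k hk => by
        rw [MonoidHom.mem_ker] at hk ⊢
        rw [← hφf, hk]; group
      let g : f.ker → f.ker := fun k => ⟨(k : A)⁻¹ * ⟨y * ((k : A) : G) * y⁻¹, hyA _ (k : A).2⟩,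
        mul_mem (inv_mem k.2) (hk k k.2)⟩
      have hg : Function.Surjective g := by
        refine Finite.injective_iff_surjective.1 fun k l e => ?_
        have e' : ((k : A) : G)⁻¹ * (y * (k : A) * y⁻¹) = ((l : A) : G)⁻¹ * (y * (l : A) * y⁻¹) :=
          congrArg (fun q : f.ker => ((q : A) : G)) e
        have := hCA (((l : A) : G) * ((k : A) : G)⁻¹) (mul_mem (l : A).2 (inv_mem (k : A).2)) (by
          calc ((l : A) : G) * ((k : A) : G)⁻¹ * y
              = ((l : A) : G) * (((k : A) : G)⁻¹ * (y * (k : A) * y⁻¹)) * y * ((k : A) : G)⁻¹ := by group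
            _ = ((l : A) : G) * (((l : A) : G)⁻¹ * (y * (l : A) * y⁻¹)) * y * ((k : A) : G)⁻¹ := by rw [e']
            _ = y * (((l : A) : G) * ((k : A) : G)⁻¹) := by group)
        exact Subtype.ext (Subtype.ext (mul_inv_eq_one.1 this).symm)
      have hmem : a⁻¹ * a' ∈ f.ker := by
        rw [MonoidHom.mem_ker, map_mul, map_inv, hfa, inv_mul_cancel]
      obtain ⟨k, hk'⟩ := hg ⟨_, hmem⟩
      have hk'' : ((k : A) : G)⁻¹ * (y * (k : A) * y⁻¹) = (a : G)⁻¹ * (y * a * y⁻¹) :=
        congrArg (fun q : f.ker => ((q : A) : G)) hk'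
      have h1 := hCA ((a : G) * ((k : A) : G)⁻¹) (mul_mem a.2 (inv_mem (k : A).2)) (by
        calc (a : G) * ((k : A) : G)⁻¹ * y
            = (a : G) * (((k : A) : G)⁻¹ * (y * (k : A) * y⁻¹)) * y * ((k : A) : G)⁻¹ := by group
          _ = (a : G) * ((a : G)⁻¹ * (y * a * y⁻¹)) * y * ((k : A) : G)⁻¹ := by rw [hk'']
          _ = y * ((a : G) * ((k : A) : G)⁻¹) := by group)
      have h2 : a = (k : A) := Subtype.ext (mul_inv_eq_one.1 h1)
      rw [h2]; exact k.2
    · intro p hp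
      refine Subtype.ext (hPA p p.2.1 fun a ha => ?_)
      have h := congrArg Subtype.val (hp (f ⟨a, ha⟩) ⟨_, rfl⟩)
      exact mul_inv_eq_iff_eq_mul.1 h
    · refine Frob.card_coprime (fun v => Subtype.ext v.2.2.1) hcommuteA
    · intro p hp
      exact Subtype.ext (hPy p p.2.1 (mul_inv_eq_iff_eq_mul.1 (congrArg Subtype.val hp)).symm)
  rw [key, orderOf_one] at hz2
  omega

namespace Ctx

variable [Finite G] (D : Ctx G)
include D

/-- A Sylow 2-subgroup has more than one involution. -/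
theorem false_of_unique (S : Sylow 2 G)
    (h : ∀ a ∈ (S : Subgroup G), ∀ b ∈ (S : Subgroup G), orderOf a = 2 → orderOf b = 2 → a = b) : False := by
  haveI := D.simple
  refine RankTwoTypes.no_isolated D.nonab D.i ⟨D.oi, fun g hg => ?_⟩
  refine ((CfsgLib.Involutions.rank_one_of_sylow S (fun a b ha hb => Subtype.ext (h a a.2 b b.2
    (by rw [orderOf_coe]; exact ha) (by rw [orderOf_coe]; exact hb)))) _ _ D.oi ?_ hg).symm
  rw [orderOf_cj, D.oi]

theorem zInv_transitive (S : Sylow 2 G) {a b : G} (ha : a ∈ zInv (S : Subgroup G))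
    (hb : b ∈ zInv (S : Subgroup G)) (ha1 : a ≠ 1) (hb1 : b ≠ 1) :
    ∃ n ∈ normalizer ((S : Subgroup G) : Set G), n * a * n⁻¹ = b :=
  D.burnside S (orderOf_two ha.2.1 ha1) (orderOf_two hb.2.1 hb1) ha.2.2 hb.2.2

/-- Orbit counting in the normalizer of a Sylow subgroup. -/
theorem card_zInv_mul (S : Sylow 2 G) (hS : (S : Subgroup G) ≤ D.C) :
    (Nat.card (zInv (S : Subgroup G)) - 1) *
        Nat.card ↥(normalizer ((S : Subgroup G) : Set G) ⊓ D.C) =
      Nat.card ↥(normalizer ((S : Subgroup G) : Set G)) := by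
  classical
  set N := normalizer ((S : Subgroup G) : Set G) with hN
  have hiZ : D.i ∈ zInv (S : Subgroup G) := ⟨D.i_mem_sylow hS, D.i_sq, fun s hs => D.i_mem_center hS hs⟩
  let X := {a : zInv (S : Subgroup G) // a ≠ 1}
  letI : MulAction N X :=
    { smul := fun n a => ⟨⟨(n : G) * ((a : zInv (S : Subgroup G)) : G) * (n : G)⁻¹,
          (mem_normalizer_iff.1 (zInv_normalized n.2) _).1 (a : zInv (S : Subgroup G)).2⟩,
        fun e => a.2 (Subtype.ext (conj_eq_one_iff.1 (congrArg Subtype.val e)))⟩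
      one_smul := fun a => Subtype.ext (Subtype.ext (show (1 : G) * _ * (1 : G)⁻¹ = _ by group))
      mul_smul := fun p q a => Subtype.ext (Subtype.ext (show ((p * q : N) : G) * _ * ((p * q : N) : G)⁻¹ =
        (p : G) * ((q : G) * _ * (q : G)⁻¹) * (p : G)⁻¹ by rw [Subgroup.coe_mul]; group)) }
  haveI : MulAction.IsPretransitive N X := ⟨fun a b => by
    obtain ⟨n, hn, he⟩ := D.zInv_transitive S (a : zInv (S : Subgroup G)).2 (b : zInv (S : Subgroup G)).2
      (fun e => a.2 (Subtype.ext e)) (fun e => b.2 (Subtype.ext e))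
    exact ⟨⟨n, hn⟩, Subtype.ext (Subtype.ext he)⟩⟩
  let a0 : X := ⟨⟨D.i, hiZ⟩, fun e => D.i_ne (congrArg Subtype.val e)⟩
  have h1 := MulAction.index_stabilizer_of_transitive N a0
  have h2 : MulAction.stabilizer N a0 = (N ⊓ D.C).subgroupOf N := by
    ext n
    rw [MulAction.mem_stabilizer_iff, mem_subgroupOf, mem_inf, D.mem_C]
    constructor
    · intro e
      refine ⟨n.2, ?_⟩
      have h3 : (n : G) * D.i * (n : G)⁻¹ = D.i := congrArg (fun q : X => ((q : zInv (S : Subgroup G)) : G)) e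
      exact mul_inv_eq_iff_eq_mul.1 h3
    · rintro ⟨-, e⟩
      exact Subtype.ext (Subtype.ext (mul_inv_eq_iff_eq_mul.2 e))
  have h3 := (MulAction.stabilizer N a0).index_mul_card
  rw [h1, h2, Nat.card_congr (subgroupOfEquivOfLe (inf_le_left : N ⊓ D.C ≤ N)).toEquiv] at h3
  rw [← h3]
  congr 1
  letI := Fintype.ofFinite (zInv (S : Subgroup G))
  rw [Nat.card_eq_fintype_card, Nat.card_eq_fintype_card, Fintype.card_subtype_compl, Fintype.card_subtype_eq]

/-- The index of a Sylow subgroup in its normalizer is odd. -/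
theorem odd_normalizer_index (S : Sylow 2 G) :
    Odd ((S : Subgroup G).relIndex (normalizer ((S : Subgroup G) : Set G))) := by
  have : Fact (Nat.Prime 2) := ⟨Nat.prime_two⟩
  refine Nat.odd_iff.2 (Nat.two_dvd_ne_zero.1 fun h => ?_)
  exact S.not_dvd_index (h.trans (Subgroup.relIndex_dvd_index_of_le le_normalizer))

end Ctx

end CfsgLib.SelfCentralSix
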