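import Cfsg.Agent.Lib.SelfCentralSix.Frob
import Cfsg.Agent.Lib.SelfCentralSix.Tools

/-!
# A Frobenius group of order twenty-one on a 2-group
-/

set_option autoImplicit false
set_option linter.style.haveILetI false

namespace CfsgLib.SelfCentralSix

open Subgroup CfsgLib.SelfThree29

universe u

theorem two_pow_mod_seven (e : ℕ) : 2 ^ e % 7 = 1 ∨ 2 ^ e % 7 = 2 ∨ 2 ^ e % 7 = 4 := by
  induction e with
  | zero => simp
  | succ e ih => rw [pow_succ]; omega

/-- A group of order `21 · 2^a` has an element of order three normalizing one of order seven. -/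
theorem exists_seven_three {L : Type*} [Group L] [Finite L] (a : ℕ) (h : Nat.card L = 21 * 2 ^ a) :
    ∃ d y : L, orderOf d = 7 ∧ orderOf y = 3 ∧ y * d * y⁻¹ ∈ zpowers d := by
  classical
  haveI : Fact (Nat.Prime 7) := ⟨by norm_num⟩
  haveI : Fact (Nat.Prime 3) := ⟨Nat.prime_three⟩
  obtain ⟨d, hd⟩ := exists_prime_orderOf_dvd_card' (G := L) 7 (h ▸ Dvd.intro (3 * 2 ^ a) (by ring))
  obtain ⟨P⟩ : Nonempty (Sylow 7 L) := inferInstance
  have hP7 : Nat.card (P : Subgroup L) = 7 := by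
    have hd' : 7 ∣ Nat.card L := hd ▸ orderOf_dvd_natCard d
    rw [P.card_eq_multiplicity, h]
    have h2 : (21 * 2 ^ a).factorization 7 = 1 := by
      rw [Nat.factorization_mul (by norm_num) (pow_ne_zero _ two_ne_zero), Finsupp.add_apply,
        Nat.factorization_pow, Finsupp.smul_apply, show (21 : ℕ) = 7 * 3 by norm_num,
        Nat.factorization_mul (by norm_num) (by norm_num), Finsupp.add_apply,
        Nat.Prime.factorization_self (by norm_num : Nat.Prime 7),
        Nat.factorization_eq_zero_of_not_dvd (show ¬ 7 ∣ 3 by norm_num),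
        Nat.factorization_eq_zero_of_not_dvd (show ¬ 7 ∣ 2 by norm_num)]
      simp
    rw [h2, pow_one]
  have hn := card_sylow_modEq_one 7 L
  set N := normalizer ((P : Subgroup L) : Set L) with hN
  have hidx : N.index = Nat.card (Sylow 7 L) := P.card_eq_index_normalizer.symm
  have h3 : 3 ∣ Nat.card N := by
    by_contra h3
    have h1 := N.card_mul_index
    rw [h] at h1
    have h4 : 3 ∣ N.index := (Nat.prime_three.dvd_mul.1 (h1 ▸ Dvd.intro (7 * 2 ^ a) (by ring))).resolve_left h3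
    obtain ⟨m, hm⟩ := h4
    have h7 : 7 ∣ Nat.card N := hP7 ▸ card_dvd_of_le le_normalizer
    obtain ⟨q, hq⟩ := h7
    rw [hm, hq] at h1
    have h5 : q * m = 2 ^ a := by nlinarith
    obtain ⟨e, -, he⟩ := (Nat.dvd_prime_pow Nat.prime_two).1 (Dvd.intro_left q h5)
    rw [← hidx, hm, he] at hn
    have h6 := two_pow_mod_seven e
    unfold Nat.ModEq at hn
    omega
  obtain ⟨y, hy⟩ := exists_prime_orderOf_dvd_card' (G := N) 3 h3
  obtain ⟨g, hg⟩ := exists_prime_orderOf_dvd_card' (G := (P : Subgroup L)) 7 (by rw [hP7])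
  have hPz : zpowers (g : L) = (P : Subgroup L) :=
    eq_of_le_of_card_ge (zpowers_le.2 g.2) (by rw [Nat.card_zpowers, orderOf_coe, hg, hP7])
  exact ⟨g, y, by rw [orderOf_coe, hg], by rw [orderOf_coe, hy],
    by rw [hPz]; exact (mem_normalizer_iff.1 y.2 _).1 g.2⟩

variable {G : Type u} [Group G]

namespace Ctx

variable [Finite G] (D : Ctx G)
include D

set_option maxHeartbeats 1000000 in
/-- A 2-group normalized by such a group is elementary of order eight. -/
theorem card_eq_eight {P : Subgroup G} (hP : IsPGroup 2 P) (hmod : Nat.card P % 3 = 2) {d y : G}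
    (hd : orderOf d = 7) (hy : orderOf y = 3) (hdN : d ∈ normalizer (P : Set G))
    (hyN : y ∈ normalizer (P : Set G)) (hyd : y * d * y⁻¹ ∈ zpowers d) (hne : y * d * y⁻¹ ≠ d)
    (h7 : ¬ 7 ∣ Nat.card D.C) :
    Nat.card P = 8 ∧ zInv P = P := by
  classical
  have hy3 : y ^ 3 = 1 := hy ▸ pow_orderOf_eq_one y
  set A := zpowers d with hA
  have hAcard : Nat.card A = 7 := by rw [hA, Nat.card_zpowers, hd]
  have hgen : ∀ a ∈ A, a ≠ 1 → zpowers a = A := fun a ha h1 => by
    refine eq_of_le_of_card_ge (zpowers_le.2 ha) ?_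
    have h2 : orderOf a ∣ 7 := hAcard ▸ Subgroup.orderOf_dvd_natCard A ha
    rcases (Nat.dvd_prime (by norm_num : Nat.Prime 7)).1 h2 with e | e
    · exact absurd (orderOf_eq_one_iff.1 e) h1
    · rw [hAcard, Nat.card_zpowers, e]
  have hCA : ∀ a ∈ A, a * y = y * a → a = 1 := by
    intro a ha hc
    by_contra h1
    obtain ⟨k, hk⟩ : d ∈ zpowers a := (hgen a ha h1).symm ▸ mem_zpowers d
    have h2 : Commute d y := hk ▸ (show Commute a y from hc).zpow_left k
    exact hne (mul_inv_eq_iff_eq_mul.2 h2.eq.symm)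
  have hfpf : ∀ p ∈ P, p * d = d * p → p = 1 := by
    intro p hp hc
    by_contra h1
    obtain ⟨k, hk⟩ := IsPGroup.iff_orderOf.1 hP ⟨p, hp⟩
    rw [orderOf_mk] at hk
    rcases k with - | k
    · exact h1 (orderOf_eq_one_iff.1 (by rw [hk, pow_zero]))
    have hz : orderOf (p ^ 2 ^ k) = 2 := by
      rw [orderOf_pow' _ (pow_ne_zero _ two_ne_zero), hk,
        Nat.gcd_eq_right (pow_dvd_pow 2 (Nat.le_succ k)), pow_succ, Nat.mul_div_cancel_left _ (pow_pos two_pos k)]
    obtain ⟨g, hg⟩ := D.exists_fused hz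
    have hd' : g⁻¹ * d * g ∈ D.C := D.mem_C.2 (by
      have h2 := conj_comm (g := g⁻¹) (Commute.pow_left (show Commute p d from hc) (2 ^ k)).eq.symm
      simp only [inv_inv] at h2
      rwa [show g⁻¹ * p ^ 2 ^ k * g = D.i by rw [← hg]; group] at h2)
    refine h7 ?_
    have h3 := Subgroup.orderOf_dvd_natCard _ hd'
    rwa [show g⁻¹ * d * g = g⁻¹ * d * g⁻¹⁻¹ by rw [inv_inv], orderOf_cj, hd] at h3
  set E := zInv P with hE
  have hEP : E ≤ P := fun e he => he.1
  have hE2 : IsPGroup 2 E := hP.to_le hEP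
  have hdE := zInv_normalized hdN
  have hyE := zInv_normalized hyN
  have hAP : A ≤ normalizer (P : Set G) := zpowers_le.2 hdN
  have hAE : A ≤ normalizer (E : Set G) := zpowers_le.2 hdE
  have hyA : ∀ a ∈ A, y * a * y⁻¹ ∈ A := by
    rintro _ ⟨k, rfl⟩
    show y * d ^ k * y⁻¹ ∈ A
    rw [← conj_zpow]
    exact zpow_mem hyd k
  have hAodd : Odd (Nat.card A) := by rw [hAcard]; decide
  have hPne : P ≠ ⊥ := fun e => by rw [e, card_bot] at hmod; omega
  have hEne : E ≠ ⊥ := fun e => by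
    obtain ⟨z, -, hz, hz2⟩ := exists_zInv_mem hP le_rfl hPne le_normalizer
    rw [← hE, e, mem_bot] at hz
    rw [hz, orderOf_one] at hz2
    omega
  obtain ⟨f, hfP, hf2, hfy, hfix⟩ : ∃ f ∈ P, orderOf f = 2 ∧ f * y = y * f ∧
      ∀ p ∈ P, p * y = y * p → p = 1 ∨ p = f := by
    rcases D.fixed_cases hP hy hyN with ⟨hm, -⟩ | ⟨-, hf⟩
    · omega
    · exact hf
  have hfE : f ∈ E := by
    by_contra hfE
    refine hEne (bot_of_fpf_pair hE2 hAE hyE hyA hy3 hAodd hCA (fun p hp h => ?_) fun p hp h => ?_)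
    · exact hfpf p (hEP hp) (h d (mem_zpowers d)).symm
    · rcases hfix p (hEP hp) h with e | e
      · exact e
      · exact absurd (e ▸ hp) hfE
  -- the elementary group
  have h8 : Nat.card E = 8 := by
    letI : CommGroup E := { E.toGroup with mul_comm := fun a b => Subtype.ext (b.2.2.2 a a.2.1) }
    let φ : MulAut E := conjAut E hyE
    let F : A →* MulAut E :=
      { toFun := fun a => conjAut E (hAE a.2)
        map_one' := MulEquiv.ext fun p => Subtype.ext (show (1 : G) * p * (1 : G)⁻¹ = p by group)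
        map_mul' := fun a b => MulEquiv.ext fun p => Subtype.ext (show ((a * b : A) : G) * p * ((a * b : A) : G)⁻¹ =
          (a : G) * ((b : G) * p * (b : G)⁻¹) * (a : G)⁻¹ by rw [Subgroup.coe_mul]; group) }
    have hker : ∀ a : A, F a = 1 → a = 1 := by
      intro a ha
      by_contra h1
      have h3 : (a : G) ≠ 1 := fun e => h1 (Subtype.ext e)
      obtain ⟨k, hk⟩ : d ∈ zpowers (a : G) := (hgen a a.2 h3).symm ▸ mem_zpowers d
      have h4 : Commute (a : G) f := mul_inv_eq_iff_eq_mul.1 (congrArg (fun g : MulAut E => ((g ⟨f, hfE⟩ : E) : G)) ha)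
      have h6 : Commute f d := by rw [← hk]; exact h4.symm.zpow_right k
      have h5 := hfpf f hfP h6.eq
      rw [h5, orderOf_one] at hf2
      omega
    refine (Frob.card_eq (fun v => Subtype.ext v.2.2.1) F.range φ
      (MulEquiv.ext fun p => Subtype.ext (conj_triple y p hy3)) ?_ ?_ ?_ ?_ ?_
      (i := (⟨f, hfE⟩ : E)) (fun e => by
        rw [show f = 1 from congrArg Subtype.val e, orderOf_one] at hf2; omega) ?_ ?_).2
    · rintro _ ⟨a, rfl⟩
      refine ⟨⟨y * a * y⁻¹, hyA a a.2⟩, ?_⟩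
      rw [eq_mul_inv_iff_mul_eq]
      refine MulEquiv.ext fun p => Subtype.ext ?_
      show (y * (a : G) * y⁻¹) * (y * p * y⁻¹) * (y * (a : G) * y⁻¹)⁻¹ = y * ((a : G) * p * (a : G)⁻¹) * y⁻¹
      group
    · rintro _ ⟨a, rfl⟩ hc
      have h2 : F ⟨y * a * y⁻¹, hyA a a.2⟩ = F a := by
        refine mul_right_cancel (b := φ) (Eq.trans ?_ hc.symm)
        refine MulEquiv.ext fun p => Subtype.ext ?_
        show (y * (a : G) * y⁻¹) * (y * p * y⁻¹) * (y * (a : G) * y⁻¹)⁻¹ = y * ((a : G) * p * (a : G)⁻¹) * y⁻¹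
        group
      have h3 := hker (a⁻¹ * ⟨y * a * y⁻¹, hyA a a.2⟩) (by rw [map_mul, map_inv, h2, inv_mul_cancel])
      have h4 : (a : G) = y * a * y⁻¹ := congrArg Subtype.val (inv_mul_eq_one.1 h3)
      rw [show a = 1 from Subtype.ext (hCA a a.2 (mul_inv_eq_iff_eq_mul.1 h4.symm).symm), map_one]
    · rintro _ ⟨a, rfl⟩ _ ⟨b, rfl⟩
      rw [← map_mul, ← map_mul]
      exact congrArg F (Subtype.ext (commute_of_mem_zpowers a.2 b.2))
    · exact Odd.of_dvd_nat hAodd (Subgroup.card_range_dvd F)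
    · intro p hp
      exact Subtype.ext (hfpf p (hEP p.2)
        (mul_inv_eq_iff_eq_mul.1 (congrArg Subtype.val (hp (F ⟨d, mem_zpowers d⟩) ⟨_, rfl⟩))).symm)
    · intro v
      constructor
      · intro hv
        have h2 := (mul_inv_eq_iff_eq_mul.1 (congrArg Subtype.val hv)).symm
        exact (hfix v (hEP v.2) h2).imp (fun e => Subtype.ext e) (fun e => Subtype.ext e)
      · rintro (rfl | rfl)
        · exact map_one φ
        · exact Subtype.ext (mul_inv_eq_iff_eq_mul.2 hfy.symm)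
    · intro e
      have h2 : F ⟨d, mem_zpowers d⟩ ∈ F.range := ⟨_, rfl⟩
      rw [e, mem_bot] at h2
      have h3 := congrArg Subtype.val (hker _ h2)
      rw [show d = 1 from h3, orderOf_one] at hd
      omega
  -- the quotient
  suffices hle : P ≤ E by
    have hEP' : E = P := le_antisymm hEP hle
    exact ⟨hEP' ▸ h8, hEP'⟩
  have hPN : P ≤ normalizer (E : Set G) := fun p hp => zInv_normalized (le_normalizer hp)
  set N := normalizer (E : Set G) with hN
  haveI : (E.subgroupOf N).Normal := normal_in_normalizer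
  set m := QuotientGroup.mk' (E.subgroupOf N) with hm
  set P' := (P.subgroupOf N).map m with hP'
  have hP'2 : IsPGroup 2 P' := (hP.of_equiv (subgroupOfEquivOfLe hPN).symm).map m
  set dN : N := ⟨d, hdE⟩
  set yN : N := ⟨y, hyE⟩
  have hnorm : ∀ g : N, (g : G) ∈ normalizer (P : Set G) → m g ∈ normalizer (P' : Set (N ⧸ E.subgroupOf N)) := by
    intro g hg
    refine Subgroup.mem_normalizer_fintype ?_
    rintro _ ⟨p, hp, rfl⟩
    exact ⟨g * p * g⁻¹, mem_subgroupOf.2 ((mem_normalizer_iff.1 hg _).1 (mem_subgroupOf.1 hp)), by simp⟩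
  -- lifts of fixed cosets
  have hd' : ∀ p ∈ P, p⁻¹ * (d * p * d⁻¹) ∈ E → p ∈ E := by
    intro p hp he
    let Ψ : E → E := fun v => ⟨(v : G) * (d * v * d⁻¹), mul_mem v.2 ((mem_normalizer_iff.1 hdE _).1 v.2)⟩
    have hΨ : Function.Injective Ψ := by
      intro a b e
      have e' : (a : G) * (d * a * d⁻¹) = b * (d * b * d⁻¹) := congrArg Subtype.val e
      have hbb : ((b : G))⁻¹ = b := inv_eq_of_mul_eq_one_right b.2.2.1
      have hab : Commute (a : G) b := (b.2.2.2 a (hEP a.2))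
      have hbd : Commute (b : G) (d * a * d⁻¹) := (((mem_normalizer_iff.1 hdE _).1 a.2).2.2 b (hEP b.2))
      have h2 : (b : G) * a = d * ((b : G) * a) * d⁻¹ := by
        calc (b : G) * a = (b : G) * ((a : G) * (d * a * d⁻¹)) * (d * a * d⁻¹)⁻¹ := by group
          _ = (b : G) * ((b : G) * (d * b * d⁻¹)) * (d * a * d⁻¹)⁻¹ := by rw [e']
          _ = (d * b * d⁻¹) * (d * a * d⁻¹)⁻¹ := by rw [← mul_assoc, b.2.2.1, one_mul]
          _ = d * ((b : G) * (a : G)⁻¹) * d⁻¹ := by group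
          _ = _ := by rw [inv_eq_of_mul_eq_one_right a.2.2.1]
      have h3 := hfpf _ (mul_mem (hEP b.2) (hEP a.2)) (eq_mul_inv_iff_mul_eq.1 h2)
      exact Subtype.ext (by rw [← hbb]; exact (inv_eq_of_mul_eq_one_right h3).symm)
    obtain ⟨v, hv⟩ := (Finite.injective_iff_surjective.1 hΨ) ⟨_, he⟩
    have hv' : (v : G) * (d * v * d⁻¹) = p⁻¹ * (d * p * d⁻¹) := congrArg Subtype.val hv
    have h4 : d * (p * v) * d⁻¹ = p * v := by
      calc d * (p * v) * d⁻¹ = p * (p⁻¹ * (d * p * d⁻¹)) * (d * v * d⁻¹) := by group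
        _ = p * v * ((d * v * d⁻¹) * (d * v * d⁻¹)) := by rw [← hv']; group
        _ = p * v := by
          rw [show d * (v : G) * d⁻¹ * (d * v * d⁻¹) = d * (v * v) * d⁻¹ by group, v.2.2.1]; group
    have h5 := hfpf _ (mul_mem hp (hEP v.2)) (mul_inv_eq_iff_eq_mul.1 h4).symm
    rw [eq_inv_of_mul_eq_one_left h5]
    exact inv_mem v.2
  have hy' : ∀ p ∈ P, p⁻¹ * (y * p * y⁻¹) ∈ E → p ∈ E := by
    intro p hp he
    set e := p⁻¹ * (y * p * y⁻¹) with hedef
    set e1 := y * e * y⁻¹ with he1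
    set e2 := y * e1 * y⁻¹ with he2
    have he1E : e1 ∈ E := (mem_normalizer_iff.1 hyE _).1 he
    have hsum : e * e1 * e2 = 1 := by
      calc e * e1 * e2 = p⁻¹ * (y * (y * (y * p * y⁻¹) * y⁻¹) * y⁻¹) := by rw [he2, he1, hedef]; group
        _ = 1 := by rw [conj_triple y p hy3, inv_mul_cancel]
    have h12 : e * e1 = e2⁻¹ := eq_inv_of_mul_eq_one_left hsum
    have he2E : e2 ∈ E := (mem_normalizer_iff.1 hyE _).1 he1E
    have h4 : y * (p * e1) * y⁻¹ = p * e1 := by
      calc y * (p * e1) * y⁻¹ = p * e * e2 := by rw [he2, hedef]; group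
        _ = p * (e * (e * e1)⁻¹) := by rw [h12, inv_inv, mul_assoc]
        _ = p * e1 := by
          rw [mul_inv_rev, inv_eq_of_mul_eq_one_right he1E.2.1, inv_eq_of_mul_eq_one_right he.2.1,
            show e * (e1 * e) = (e * e1) * e by group, he1E.2.2 e (hEP he), mul_assoc, he.2.1, mul_one]
    rcases hfix _ (mul_mem hp (hEP he1E)) (mul_inv_eq_iff_eq_mul.1 h4).symm with h5 | h5
    · rw [eq_inv_of_mul_eq_one_left h5]; exact inv_mem he1E
    · rw [show p = p * e1 * e1⁻¹ by group, h5]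
      exact mul_mem hfE (inv_mem he1E)
  have hbot : P' = ⊥ := by
    refine bot_of_fpf_pair (A := (A.subgroupOf N).map m) (y := m yN) hP'2 ?_ (hnorm yN hyN) ?_ ?_ ?_ ?_ ?_ ?_
    · rintro _ ⟨a, ha, rfl⟩
      exact hnorm a (hAP (mem_subgroupOf.1 ha))
    · rintro _ ⟨a, ha, rfl⟩
      exact ⟨yN * a * yN⁻¹, mem_subgroupOf.2 (hyA _ (mem_subgroupOf.1 ha)), by simp⟩
    · rw [← map_pow, show yN ^ 3 = 1 from Subtype.ext hy3, map_one]
    · refine Odd.of_dvd_nat hAodd ?_
      refine (Subgroup.card_map_dvd _ _).trans ?_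
      rw [Nat.card_congr (subgroupOfEquivOfLe hAE).toEquiv]
    · rintro _ ⟨a, ha, rfl⟩ hc
      rw [← map_mul, ← map_mul] at hc
      have h2 := mem_subgroupOf.1 ((QuotientGroup.eq (s := E.subgroupOf N)).1 hc.symm)
      set w := (y * (a : G))⁻¹ * ((a : G) * y) with hwdef
      have h2' : w ∈ E := h2
      have hw : w = (a : G)⁻¹ * (y⁻¹ * a * y⁻¹⁻¹) := by rw [hwdef]; group
      have ha' := mem_subgroupOf.1 ha
      have hwA : w ∈ A := by
        rw [hw]
        refine mul_mem (inv_mem ha') ?_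
        have := hyA _ (hyA _ ha')
        rwa [show y * (y * (a : G) * y⁻¹) * y⁻¹ = y⁻¹ * a * y⁻¹⁻¹ by
          conv_rhs => rw [← conj_triple y (a : G) hy3]
          group] at this
      have hw1 : w = 1 := hfpf w (hEP h2') (commute_of_mem_zpowers hwA (mem_zpowers d))
      have h3 := hCA _ ha' (by rw [hwdef, inv_mul_eq_one] at hw1; exact hw1.symm)
      rw [show a = 1 from Subtype.ext h3, map_one]
    · rintro _ ⟨p, hp, rfl⟩ h
      have h2 := h (m dN) ⟨dN, mem_subgroupOf.2 (mem_zpowers d), rfl⟩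
      rw [← map_mul, ← map_mul] at h2
      have h3 := mem_subgroupOf.1 ((QuotientGroup.eq (s := E.subgroupOf N)).1 h2.symm)
      have h3' : ((p : G) * d)⁻¹ * (d * p) ∈ E := h3
      refine (QuotientGroup.eq_one_iff _).2 (mem_subgroupOf.2 (hd' p (mem_subgroupOf.1 hp) ?_))
      have h4 := (mem_normalizer_iff.1 hdE _).1 h3'
      rwa [show d * (((p : G) * d)⁻¹ * (d * p)) * d⁻¹ = (p : G)⁻¹ * (d * p * d⁻¹) by group] at h4
    · rintro _ ⟨p, hp, rfl⟩ h2
      rw [← map_mul, ← map_mul] at h2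
      have h3 := mem_subgroupOf.1 ((QuotientGroup.eq (s := E.subgroupOf N)).1 h2)
      have h3' : ((p : G) * y)⁻¹ * (y * p) ∈ E := h3
      refine (QuotientGroup.eq_one_iff _).2 (mem_subgroupOf.2 (hy' p (mem_subgroupOf.1 hp) ?_))
      have h4 := (mem_normalizer_iff.1 hyE _).1 h3'
      rwa [show y * (((p : G) * y)⁻¹ * (y * p)) * y⁻¹ = (p : G)⁻¹ * (y * p * y⁻¹) by group] at h4
  intro p hp
  have h2 : m ⟨p, hPN hp⟩ ∈ P' := ⟨_, mem_subgroupOf.2 hp, rfl⟩
  rw [hbot, mem_bot, hm, QuotientGroup.mk'_apply, QuotientGroup.eq_one_iff] at h2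
  exact mem_subgroupOf.1 h2

end Ctx

end CfsgLib.SelfCentralSix
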