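import Cfsg.Agent.Lib.SelfCentralSix.Small
import Cfsg.Agent.Lib.SelfCentralSix.OddKill
import Cfsg.Agent.Lib.SelfCentralSix.Seven
import Cfsg.Agent.Lib.SelfThree29.Main
import Cfsg.Agent.Lib.OddOrder.PuigSeries
import Cfsg.Agent.Lib.Solvable.NilpotentSubgroups

/-!
# An overgroup of `C` normalizing an elementary subgroup of `T`
-/

set_option autoImplicit false
set_option linter.style.haveILetI false

namespace CfsgLib.SelfCentralSix

open Subgroup CfsgLib.SelfThree29

universe u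

variable {G : Type u} [Group G]

/-- The largest power of two dividing the order of an overgroup of a Sylow subgroup. -/
theorem two_part [Finite G] (S : Sylow 2 G) {L : Subgroup G} (hSL : (S : Subgroup G) ≤ L) {q m : ℕ}
    (hq : Odd q) (h : Nat.card L = q * 2 ^ m) : Nat.card (S : Subgroup G) = 2 ^ m := by
  haveI : Fact (Nat.Prime 2) := ⟨Nat.prime_two⟩
  obtain ⟨s, hs⟩ := IsPGroup.iff_card.1 S.2
  have hd := card_dvd_of_le hSL
  rw [h, hs] at hd
  have h1 : 2 ^ s ∣ 2 ^ m := (Nat.Coprime.pow_left s (Nat.coprime_two_left.2 hq)).dvd_of_dvd_mul_left hd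
  have h2 : 2 ^ m ∣ 2 ^ s := by
    rw [← hs, S.card_eq_multiplicity]
    refine pow_dvd_pow 2 ((Nat.prime_two.pow_dvd_iff_le_factorization Nat.card_pos.ne').1 ?_)
    exact (Dvd.intro_left q h.symm).trans (card_subgroup_dvd_card L)
  rw [hs]
  exact Nat.dvd_antisymm h1 h2

/-- The odd part of the centre of a nilpotent group that is not a 2-group is nontrivial. -/
theorem exists_odd_central {N : Type*} [Group N] [Finite N] [Group.IsNilpotent N] (h : ¬ IsPGroup 2 N) :
    ∃ z : N, z ≠ 1 ∧ Odd (orderOf z) ∧ z ∈ center N := by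
  haveI : Fact (Nat.Prime 2) := ⟨Nat.prime_two⟩
  obtain ⟨P, Q, hQ, hc⟩ := CfsgLib.NilpotentSubgroups.hasNormalPComplement_of_nilpotent (p := 2) (N := N)
  haveI := hQ
  have hQne : Q ≠ ⊥ := by
    rintro rfl
    refine h (fun g => ?_)
    have htop : (P : Subgroup N) = ⊤ := isComplement'_bot_left.1 hc
    obtain ⟨k, hk⟩ := P.2 ⟨g, htop ▸ mem_top g⟩
    exact ⟨k, congrArg Subtype.val hk⟩
  obtain ⟨z, hz1⟩ := (Subgroup.ne_bot_iff_exists_ne_one.1 (CfsgLib.OddOrder.PuigSeries.inf_center_ne_bot Q hQne))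
  refine ⟨(z : N), fun e => hz1 (Subtype.ext e), ?_, z.2.1⟩
  refine Odd.of_dvd_nat ?_ (Subgroup.orderOf_dvd_natCard Q z.2.2)
  rw [← hc.index_eq_card]
  exact Nat.not_even_iff_odd.1 fun he => P.not_dvd_index he.two_dvd

namespace Small

variable [Finite G] {D : Ctx G} {S : Sylow 2 G} {T : Subgroup G} {b : G}

set_option maxHeartbeats 2000000 in
/-- The layer lemma. -/
theorem layer (h : Small D S T b) {L Y : Subgroup G} (hCL : D.C ≤ L) (hYT : Y ≤ T)
    (hY : ∀ g ∈ L, ∀ y ∈ Y, g * y * g⁻¹ ∈ Y) (hY2 : ∀ y ∈ Y, y * y = 1) (hiY : D.i ∈ Y)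
    {y0 : G} (hy0 : y0 ∈ Y) (hy01 : y0 ≠ 1) (hy0i : y0 ≠ D.i) :
    L ≤ D.C ∨ (Nat.card T = 32 ∧ ∃ K0 : Subgroup G, Nat.card K0 = 8 ∧
      ∀ g, g ∈ K0 ↔ g ∈ L ∧ ∀ y ∈ Y, g * y * g⁻¹ = y) := by
  classical
  haveI : Fact (Nat.Prime 2) := ⟨Nat.prime_two⟩
  have hxY : D.x ∈ normalizer (Y : Set G) :=
    Subgroup.mem_normalizer_fintype fun y hy => hY _ (hCL D.x_mem) y hy
  obtain ⟨-, hfixY⟩ := D.x_fixed (h.two.to_le hYT) hxY hiY
  -- the action
  letI : CommGroup Y := { Y.toGroup with mul_comm := fun a c => Subtype.ext (by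
    show (a : G) * c = c * a
    calc (a : G) * c = (a : G)⁻¹ * (c : G)⁻¹ := by
          rw [inv_eq_of_mul_eq_one_right (hY2 a a.2), inv_eq_of_mul_eq_one_right (hY2 c c.2)]
      _ = ((c : G) * a)⁻¹ := (mul_inv_rev _ _).symm
      _ = c * a := inv_eq_of_mul_eq_one_right (hY2 _ (mul_mem c.2 a.2))) }
  have hLN : ∀ g ∈ L, g ∈ normalizer (Y : Set G) := fun g hg =>
    Subgroup.mem_normalizer_fintype fun y hy => hY g hg y hy
  let f : L →* MulAut Y :=
    { toFun := fun g => conjAut Y (hLN g g.2)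
      map_one' := MulEquiv.ext fun p => Subtype.ext (show (1 : G) * p * (1 : G)⁻¹ = p by group)
      map_mul' := fun a c => MulEquiv.ext fun p => Subtype.ext (show ((a * c : L) : G) * p * ((a * c : L) : G)⁻¹ =
        (a : G) * ((c : G) * p * (c : G)⁻¹) * (a : G)⁻¹ by rw [Subgroup.coe_mul]; group) }
  haveI : Finite (MulAut Y) := Finite.of_injective (fun g : MulAut Y => ⇑g) DFunLike.coe_injective
  set R := f.range with hR
  let f' : L →* R := f.rangeRestrict
  have hf'surj : Function.Surjective f' := f.rangeRestrict_surjective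
  set K0 := f'.ker.map L.subtype with hK0
  have hK0mem : ∀ g, g ∈ K0 ↔ g ∈ L ∧ ∀ y ∈ Y, g * y * g⁻¹ = y := by
    intro g
    rw [hK0, MonoidHom.ker_rangeRestrict]
    constructor
    · rintro ⟨a, ha, rfl⟩
      exact ⟨a.2, fun y hy => congrArg (fun e : MulAut Y => ((e ⟨y, hy⟩ : Y) : G)) ha⟩
    · rintro ⟨hg, hc⟩
      exact ⟨⟨g, hg⟩, MulEquiv.ext fun y => Subtype.ext (hc y y.2), rfl⟩
  have hK0C : K0 ≤ D.C := fun g hg => D.mem_C.2 (mul_inv_eq_iff_eq_mul.1 (((hK0mem g).1 hg).2 _ hiY))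
  have hK03 : ¬ 3 ∣ Nat.card K0 := by
    intro h3
    haveI : Fact (Nat.Prime 3) := ⟨Nat.prime_three⟩
    obtain ⟨y, hy⟩ := exists_prime_orderOf_dvd_card' (G := K0) 3 h3
    have hle := D.card_le_two (h.two.to_le hYT) (y := (y : G)) (by rw [orderOf_coe, hy])
      fun p hp => (mul_inv_eq_iff_eq_mul.1 (((hK0mem y).1 y.2).2 p hp)).symm
    letI : Fintype Y := Fintype.ofFinite Y
    rw [Nat.card_eq_fintype_card] at hle
    have h3' : ({1, ⟨D.i, hiY⟩, ⟨y0, hy0⟩} : Finset Y).card ≤ 2 := (Finset.card_le_univ _).trans hle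
    rw [Finset.card_insert_of_notMem, Finset.card_pair] at h3'
    · omega
    · exact fun e => hy0i (congrArg Subtype.val e).symm
    · simp only [Finset.mem_insert, Finset.mem_singleton, Subtype.ext_iff, Subgroup.coe_one]
      rintro (e | e)
      · exact D.i_ne e.symm
      · exact hy01 e.symm
  have hK0n : ∀ g ∈ L, ∀ k ∈ K0, g * k * g⁻¹ ∈ K0 := by
    rintro g hg _ ⟨k, hk, rfl⟩
    exact ⟨⟨g, hg⟩ * k * ⟨g, hg⟩⁻¹, f'.normal_ker.conj_mem k hk _, rfl⟩
  have hK0T : K0 ≤ T := h.le_T hK0C (fun c hc => hK0n c (hCL hc)) hK03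
  have hiK0 : D.i ∈ K0 := (hK0mem _).2 ⟨hCL D.i_mem, fun y hy => by
    rw [← D.mem_C.1 (h.T_le (hYT hy)), mul_inv_cancel_right]⟩
  have hcardL : Nat.card L = Nat.card R * Nat.card K0 := by
    rw [hK0, card_map_of_injective L.subtype_injective, ← f'.ker.card_mul_index, index_ker,
      MonoidHom.range_eq_top.2 hf'surj, card_top, mul_comm]
  have hker_eq : ∀ g : L, f' g = 1 → (g : G) ∈ K0 := fun g hg => ⟨g, hg, rfl⟩
  -- fixed vectors and stabilizers
  set xL : L := ⟨D.x, hCL D.x_mem⟩ with hxL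
  set φ := f' xL with hφ
  have hφfix : ∀ v : Y, (φ : MulAut Y) v = v ↔ v = 1 ∨ v = ⟨D.i, hiY⟩ := by
    intro v
    constructor
    · intro hv
      exact (hfixY v v.2 (mul_inv_eq_iff_eq_mul.1 (congrArg Subtype.val hv)).symm).imp
        (fun e => Subtype.ext e) (fun e => Subtype.ext e)
    · rintro (rfl | rfl)
      · exact map_one _
      · exact Subtype.ext (show D.x * D.i * D.x⁻¹ = D.i by rw [← D.mul_comm_ix, mul_inv_cancel_right])
  have hstabC : ∀ g : L, (f' g : MulAut Y) ⟨D.i, hiY⟩ = ⟨D.i, hiY⟩ → (g : G) ∈ D.C := fun g hg =>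
    D.mem_C.2 (mul_inv_eq_iff_eq_mul.1 (congrArg Subtype.val hg))
  have hxT := h.normalizer_T D.x_mem
  -- decomposition of `C`
  have hdec : ∀ c ∈ D.C, ∃ k : ℕ, c * D.x ^ k ∈ (S : Subgroup G) := by
    intro c hc
    let m : ↥(S : Subgroup G) × Fin 3 → D.C := fun p =>
      ⟨(p.1 : G) * D.x ^ (p.2 : ℕ), mul_mem (h.S_le p.1.2) (pow_mem D.x_mem _)⟩
    have hm : Function.Injective m := by
      intro p q e
      have e' : (p.1 : G) * D.x ^ (p.2 : ℕ) = q.1 * D.x ^ (q.2 : ℕ) := congrArg Subtype.val e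
      have h1 : (q.1 : G)⁻¹ * p.1 = D.x ^ (q.2 : ℕ) * (D.x ^ (p.2 : ℕ))⁻¹ := by
        rw [eq_mul_inv_iff_mul_eq, mul_assoc, e', inv_mul_cancel_left]
      have hz : D.x ^ (q.2 : ℕ) * (D.x ^ (p.2 : ℕ))⁻¹ ∈ zpowers D.x :=
        mul_mem (pow_mem (mem_zpowers _) _) (inv_mem (pow_mem (mem_zpowers _) _))
      obtain ⟨n, hn⟩ := IsPGroup.iff_orderOf.1 S.2 ⟨_, mul_mem (inv_mem q.1.2) p.1.2⟩
      rw [orderOf_mk] at hn
      have hd := Subgroup.orderOf_dvd_natCard _ (h1 ▸ hz)
      rw [Nat.card_zpowers, D.ox, hn] at hd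
      have h0 : (q.1 : G)⁻¹ * p.1 = 1 := by
        rw [← orderOf_eq_one_iff, hn]
        rcases (Nat.dvd_prime Nat.prime_three).1 hd with e0 | e0
        · exact e0
        · exfalso
          have := Nat.prime_three.dvd_of_dvd_pow (dvd_of_eq e0.symm)
          norm_num at this
      have h2 : (p.1 : G) = q.1 := (inv_mul_eq_one.1 h0).symm
      rw [h2] at e'
      have h3 : D.x ^ (p.2 : ℕ) = D.x ^ (q.2 : ℕ) := mul_left_cancel e'
      have h4 := pow_inj_mod.1 h3
      rw [D.ox, Nat.mod_eq_of_lt p.2.2, Nat.mod_eq_of_lt q.2.2] at h4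
      exact Prod.ext (Subtype.ext h2) (Fin.ext h4)
    have hbij : Function.Bijective m := (Nat.bijective_iff_injective_and_card m).2 ⟨hm, by
      rw [Nat.card_prod, Nat.card_fin, h.card, h.card_S]; ring⟩
    obtain ⟨p, hp⟩ := hbij.2 ⟨c, hc⟩
    have hp' : (p.1 : G) * D.x ^ (p.2 : ℕ) = c := congrArg Subtype.val hp
    refine ⟨2 * (p.2 : ℕ), ?_⟩
    rw [← hp', mul_assoc, ← pow_add, show (p.2 : ℕ) + 2 * (p.2 : ℕ) = 3 * (p.2 : ℕ) by ring, pow_mul, D.x_pow,
      one_pow, mul_one]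
    exact p.1.2
  have hφ3 : φ ^ 3 = 1 := by
    rw [hφ, ← map_pow, show xL ^ 3 = 1 from Subtype.ext D.x_pow, map_one]
  have hφ1 : φ ≠ 1 := fun e => h.x_notMem' (hK0T (hker_eq xL e))
  have hK0mod := D.x_fixed (h.two.to_le hK0T) (Subgroup.mem_normalizer_fintype fun k hk => hK0n _ (hCL D.x_mem) k hk) hiK0
  have hsc : SC3 φ := by
    refine ⟨orderOf_eq_prime (hp := ⟨Nat.prime_three⟩) hφ3 hφ1, fun r hr => ?_⟩
    obtain ⟨g, rfl⟩ := hf'surj r
    have hgi : (φ : MulAut Y) ((f' g : MulAut Y) ⟨D.i, hiY⟩) = (f' g : MulAut Y) ⟨D.i, hiY⟩ := by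
      conv_rhs => rw [← (hφfix ⟨D.i, hiY⟩).2 (Or.inr rfl)]
      exact (congrArg (fun e : R => (e : MulAut Y) ⟨D.i, hiY⟩) hr).symm
    have hgC : (g : G) ∈ D.C := hstabC g (((hφfix _).1 hgi).resolve_left fun e => D.i_ne
      (congrArg Subtype.val ((map_eq_one_iff (f' g : MulAut Y) (f' g : MulAut Y).injective).1 e)))
    obtain ⟨k, hk⟩ := hdec g hgC
    set s : L := g * xL ^ k with hs
    have hsφ : f' s * φ = φ * f' s := by
      rw [hs, map_mul, map_pow, ← hφ, mul_assoc, ← pow_succ, pow_succ' φ k, ← mul_assoc, hr, mul_assoc]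
    have hsc : (s : G)⁻¹ * (D.x * s * D.x⁻¹) ∈ K0 := by
      have h1 : f' (s⁻¹ * (xL * s * xL⁻¹)) = 1 := by
        rw [map_mul, map_mul, map_mul, map_inv, map_inv, ← hφ, ← hsφ]; group
      exact hker_eq _ h1
    have hsT : (s : G) ∈ T := by
      rcases h.cover (s : G) hk with e | e
      · exact e
      · exfalso
        refine h.x_notMem' ?_
        set t := (s : G) * b⁻¹ with ht
        have hst : (s : G) = t * b := by rw [ht, inv_mul_cancel_right]
        have hk' := hK0T hsc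
        rw [hst] at hk'
        have e2 : b⁻¹ * D.x * b = D.x⁻¹ := by
          have h5 := mul_inv_eq_iff_eq_mul.1 h.b_x
          calc b⁻¹ * D.x * b = b⁻¹ * (D.x * (b * D.x)) * D.x⁻¹ := by group
            _ = D.x⁻¹ := by rw [h5]; group
        have h1 : b * ((t * b)⁻¹ * (D.x * (t * b) * D.x⁻¹)) * b⁻¹ = t⁻¹ * (D.x * t * D.x⁻¹) * (D.x * (b * D.x⁻¹ * b⁻¹)) := by
          group
        have h2 := h.T_conj b h.b_mem _ hk'
        rw [h1, show b * D.x⁻¹ * b⁻¹ = (b * D.x * b⁻¹)⁻¹ by group, h.b_x, inv_inv] at h2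
        have h3 : t⁻¹ * (D.x * t * D.x⁻¹) ∈ T := mul_mem (inv_mem e) ((mem_normalizer_iff.1 hxT t).1 e)
        have h4 := (mul_mem_cancel_left h3).1 h2
        have h6 := inv_mem h4
        rwa [mul_inv_rev, ← mul_inv_rev, show (D.x * D.x)⁻¹ = D.x by
          rw [inv_eq_iff_mul_eq_one, ← pow_three', D.x_pow]] at h6
    obtain ⟨v, hv, hvc⟩ := coset_fixed D.x_pow
      (Subgroup.mem_normalizer_fintype fun q hq => hK0n _ (hCL D.x_mem) q hq)
      (by rw [hK0mod.1]; norm_num) hsc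
    have hsK : (s : G) ∈ K0 := by
      have h1 : (s : G) * v ∈ K0 := by
        rcases (D.x_fixed h.two hxT h.i_mem).2 _ (mul_mem hsT (hK0T hv)) hvc with e | e <;> rw [e]
        exacts [one_mem _, hiK0]
      exact (mul_mem_cancel_right hv).1 h1
    obtain ⟨a, ha, hae⟩ := hsK
    have h1 : f' s = 1 := by
      rw [show s = a from Subtype.ext hae.symm]; exact ha
    rw [hs, map_mul, map_pow, ← hφ] at h1
    rw [eq_inv_of_mul_eq_one_left h1]
    exact inv_mem (pow_mem (mem_zpowers _) _)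
  -- the inverter
  set bL : L := ⟨b, hCL h.b_mem⟩ with hbL
  set β := f' bL with hβd
  have hβ : β * φ * β⁻¹ = φ⁻¹ := by
    rw [hβd, hφ, ← map_inv, ← map_mul, ← map_mul, ← map_inv]
    exact congrArg f' (Subtype.ext h.b_x)
  obtain ⟨N, hN, hN3, hred⟩ := exists_core φ
  haveI := hN
  have hQ := hsc.quotient N hN3
  have hNnil : Group.IsNilpotent N :=
    hsc.isNilpotent (by rw [normalizer_eq_top]; exact mem_top φ) hN3
  -- the core is a 2-group
  have hN2 : IsPGroup 2 N := by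
    by_contra hn
    obtain ⟨z, hz1, hzodd, hzc⟩ := exists_odd_central hn
    let A : Subgroup R :=
      { carrier := {a | a ∈ N ∧ Odd (orderOf a) ∧ ∀ n ∈ N, n * a = a * n}
        one_mem' := ⟨one_mem N, by rw [orderOf_one]; exact odd_one, fun n _ => by simp⟩
        mul_mem' := by
          rintro a c ⟨ha, hao, hac⟩ ⟨hc, hco, hcc⟩
          refine ⟨mul_mem ha hc, ?_, fun n hn => ?_⟩
          · exact Odd.of_dvd_nat (hao.mul hco)
              ((Commute.orderOf_mul_dvd_lcm (show Commute a c from hcc a ha)).trans (Nat.lcm_dvd_mul _ _))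
          · rw [← mul_assoc, hac n hn, mul_assoc, hcc n hn, mul_assoc]
        inv_mem' := by
          rintro a ⟨ha, hao, hac⟩
          exact ⟨inv_mem ha, by rwa [orderOf_inv], fun n hn => (Commute.inv_right (hac n hn)).eq⟩ }
    have hAn : ∀ r : R, ∀ a ∈ A, r * a * r⁻¹ ∈ A := by
      rintro r a ⟨ha, hao, hac⟩
      refine ⟨hN.conj_mem a ha r, by rwa [orderOf_cj], fun n hn => ?_⟩
      have h1 := conj_comm (g := r) (hac (r⁻¹ * n * r) (by simpa using hN.conj_mem n hn r⁻¹))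
      rwa [show r * (r⁻¹ * n * r) * r⁻¹ = n by group] at h1
    have hcop : ∀ g : L, (g : G) ∈ D.C → f' g ∈ A → f' g = 1 := by
      intro g hgC hgA
      obtain ⟨j, hj⟩ := h.exists_pow
      have h1 : orderOf (f' g) ∣ Nat.card D.C := (orderOf_map_dvd f' g).trans (by
        rw [← orderOf_coe]; exact Subgroup.orderOf_dvd_natCard _ hgC)
      rw [h.card, hj, show 6 * 2 ^ j = 2 ^ (j + 1) * 3 by ring] at h1
      have h3 : ¬ 3 ∣ orderOf (f' g) := fun h' => hN3 (h'.trans (Subgroup.orderOf_dvd_natCard _ hgA.1))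
      have h4 := ((Nat.prime_three.coprime_iff_not_dvd.2 h3).symm.dvd_of_dvd_mul_right h1)
      exact orderOf_eq_one_iff.1 (Nat.eq_one_of_dvd_coprimes
        (Nat.Coprime.pow_left (j + 1) (Nat.coprime_two_left.2 hgA.2.1)) h4 dvd_rfl)
    have hbot := Frob.eq_bot_of_inverter (fun v : Y => Subtype.ext (hY2 v v.2)) (A.map R.subtype)
      (φ : MulAut Y) (β : MulAut Y) (by rw [← SubmonoidClass.coe_pow, hφ3]; rfl)
      (by rintro _ ⟨a, ha, rfl⟩; exact ⟨φ * a * φ⁻¹, hAn _ a ha, rfl⟩)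
      (by rintro _ ⟨a, ha, rfl⟩; exact ⟨β * a * β⁻¹, hAn _ a ha, rfl⟩)
      (by
        rintro _ ⟨a, ha, rfl⟩ hc
        rw [show a = 1 from hsc.eq_one_of_commute hN3 ha.1 (Subtype.ext hc), map_one])
      (by
        rintro _ ⟨a, ha, rfl⟩ _ ⟨c, hc, rfl⟩
        rw [← map_mul, ← map_mul]
        exact congrArg _ (hc.2.2 a ha.1))
      (by
        rw [card_map_of_injective R.subtype_injective]
        refine Nat.not_even_iff_odd.1 fun he => ?_
        obtain ⟨w, hw⟩ := exists_prime_orderOf_dvd_card' (G := A) 2 he.two_dvd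
        have := w.2.2.1
        rw [orderOf_coe, hw] at this
        exact absurd this (by decide))
      (congrArg Subtype.val hβ) (i := ⟨D.i, hiY⟩) (fun e => D.i_ne (congrArg Subtype.val e)) hφfix
      (by
        rintro _ ⟨a, ha, rfl⟩ hai
        obtain ⟨g, rfl⟩ := hf'surj a
        rw [hcop g (hstabC g hai) ha, map_one])
    have hzA : (z : R) ∈ A := ⟨z.2, by rwa [orderOf_coe], fun n hn =>
      congrArg Subtype.val (mem_center_iff.1 hzc ⟨n, hn⟩)⟩
    rw [map_eq_bot_iff_of_injective _ R.subtype_injective] at hbot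
    rw [hbot, mem_bot] at hzA
    exact hz1 (Subtype.ext hzA)
  obtain ⟨k, hk⟩ := IsPGroup.iff_card.1 hN2
  obtain ⟨k0, hk0⟩ := IsPGroup.iff_card.1 (h.two.to_le hK0T)
  have hSL : (S : Subgroup G) ≤ L := h.S_le.trans hCL
  have hRcard : Nat.card R = Nat.card (R ⧸ N) * 2 ^ k := by
    rw [← hk, ← Subgroup.index, mul_comm, N.card_mul_index]
  rcases hQ.reduced_cases hred with h3 | ⟨h6, -⟩ | ⟨hsimp, hbig, -⟩
  · exfalso
    haveI : Fact (Nat.Prime 3) := ⟨Nat.prime_three⟩
    haveI : IsCyclic (R ⧸ N) := isCyclic_of_prime_card h3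
    letI : CommGroup (R ⧸ N) := IsCyclic.commGroup
    have h1 : (β : R ⧸ N) * φ * (β : R ⧸ N)⁻¹ = (φ : R ⧸ N)⁻¹ := by
      rw [← QuotientGroup.mk_inv, ← QuotientGroup.mk_mul, ← QuotientGroup.mk_mul, hβ, QuotientGroup.mk_inv]
    rw [mul_comm (β : R ⧸ N), mul_inv_cancel_right] at h1
    exact hQ.inv_ne h1.symm
  · left
    have hL : Nat.card L = 3 * 2 ^ (k + k0 + 1) := by
      rw [hcardL, hRcard, h6, hk0, pow_succ, pow_add]; ring
    have hS := two_part S hSL (by decide) hL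
    rw [h.card_S] at hS
    have hLC : Nat.card L = Nat.card D.C := by rw [hL, h.card, ← hS]; ring
    exact le_of_eq (eq_of_le_of_card_ge hCL hLC.le).symm
  · right
    obtain ⟨hcard, a, c, ha, hc, hac⟩ := hQ.good hbig
    rcases hcard with h60 | h168
    · exfalso
      haveI := hsimp
      have hL : Nat.card L = 15 * 2 ^ (k + k0 + 2) := by
        rw [hcardL, hRcard, h60, hk0, pow_add, pow_add]; ring
      have hS := two_part S hSL (by decide) hL
      rw [h.card_S] at hS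
      -- the image of `T` lies in the core
      set TL := T.subgroupOf L with hTL
      let q : L →* R ⧸ N := (QuotientGroup.mk' N).comp f'
      set TQ := TL.map q with hTQ
      have hTLn : ∀ g : L, (g : G) ∈ D.C → ∀ t ∈ TL, g * t * g⁻¹ ∈ TL := fun g hg t ht =>
        mem_subgroupOf.2 (h.T_conj _ hg _ (mem_subgroupOf.1 ht))
      have hTQ2 : IsPGroup 2 TQ := (h.two.of_equiv (subgroupOfEquivOfLe (h.T_le.trans hCL)).symm).map q
      have hxinv : XInv (φ : R ⧸ N) TQ := by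
        refine ⟨?_, fun h3' => ?_⟩
        · rintro _ ⟨t, ht, rfl⟩
          exact ⟨xL * t * xL⁻¹, hTLn xL D.x_mem t ht, by simp [q, hφ]⟩
        · obtain ⟨m, hm⟩ := IsPGroup.iff_card.1 hTQ2
          rw [hm] at h3'
          have := Nat.prime_three.dvd_of_dvd_pow h3'
          norm_num at this
      have hbot := (xinv_sixty h60 hQ hxinv).2 (β : R ⧸ N)
        (by rw [← QuotientGroup.mk_inv, ← QuotientGroup.mk_mul, ← QuotientGroup.mk_mul, hβ, QuotientGroup.mk_inv])
        (by rintro _ ⟨t, ht, rfl⟩; exact ⟨bL * t * bL⁻¹, hTLn bL h.b_mem t ht, by simp [q, hβd]⟩)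
      have hle : Nat.card T ≤ 2 ^ k * 2 ^ k0 := by
        have h1 : TL ≤ N.comap f' := fun t ht => by
          have h2 : q t ∈ TQ := ⟨t, ht, rfl⟩
          rw [hbot, mem_bot] at h2
          exact (QuotientGroup.eq_one_iff (N := N) (f' t)).1 h2
        have h2 : Nat.card (N.comap f') = 2 ^ k * 2 ^ k0 := by
          have h3' := (N.comap f').card_mul_index
          rw [index_comap_of_surjective N hf'surj, hcardL, hk0, ← N.card_mul_index, hk] at h3'
          have hpos : 0 < N.index := by rw [Subgroup.index]; exact Nat.card_pos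
          exact Nat.eq_of_mul_eq_mul_right hpos (h3'.trans (by ring))
        rw [← h2, ← Nat.card_congr (subgroupOfEquivOfLe (h.T_le.trans hCL)).toEquiv]
        exact Subgroup.card_le_of_le h1
      have hpow : 2 ^ (k + k0 + 2) = 4 * (2 ^ k * 2 ^ k0) := by rw [pow_add, pow_add]; ring
      have := Nat.card_pos (α := T)
      omega
    · have hNbot := hsc.core_eq_bot_of_168 N hN3 h168 ha hc hac
      have hk' : k = 0 := by
        rw [hNbot, card_bot] at hk
        exact (Nat.pow_eq_one.1 hk.symm).resolve_left (by norm_num)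
      have hL : Nat.card L = 21 * 2 ^ (k0 + 3) := by
        rw [hcardL, hRcard, h168, hk0, hk', pow_zero, pow_add]; ring
      have hS := two_part S hSL (by decide) hL
      rw [h.card_S] at hS
      obtain ⟨d, y, hd, hy, hyd⟩ := exists_seven_three (k0 + 3) hL
      have hd1 : f' d ≠ 1 := fun e => by
        have h1 := Subgroup.orderOf_dvd_natCard K0 (hker_eq d e)
        rw [orderOf_coe, hd, hk0] at h1
        have := (by norm_num : Nat.Prime 7).dvd_of_dvd_pow h1
        norm_num at this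
      have hy1 : f' y ≠ 1 := fun e => hK03 (by
        have h1 := Subgroup.orderOf_dvd_natCard K0 (hker_eq y e)
        rwa [orderOf_coe, hy] at h1)
      have hne : (y : G) * d * (y : G)⁻¹ ≠ d := by
        intro e
        have hoy : orderOf (f' y) = 3 := orderOf_eq_prime (hp := ⟨Nat.prime_three⟩)
          (by rw [← map_pow, ← hy, pow_orderOf_eq_one, map_one]) hy1
        have hyd' : f' d * f' y = f' y * f' d := by
          rw [← map_mul, ← map_mul]
          exact congrArg f' (Subtype.ext (mul_inv_eq_iff_eq_mul.1 e).symm)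
        obtain ⟨m, hm⟩ := (hsc.of_orderOf hoy).cent _ hyd'
        have h1 : orderOf (f' d) ∣ 3 := hoy ▸ (orderOf_dvd_of_pow_eq_one (by
          rw [← hm]
          show (f' y ^ m) ^ orderOf (f' y) = 1
          rw [← zpow_natCast, ← zpow_mul, mul_comm, zpow_mul, zpow_natCast, pow_orderOf_eq_one, one_zpow]))
        exact hd1 (orderOf_eq_one_iff.1 (Nat.eq_one_of_dvd_coprimes (show Nat.Coprime 7 3 by norm_num)
          (hd ▸ orderOf_map_dvd f' d) h1))
      have h8 := (D.card_eq_eight (h.two.to_le hK0T) hK0mod.1 (d := (d : G)) (y := (y : G))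
        (by rw [orderOf_coe, hd]) (by rw [orderOf_coe, hy])
        (Subgroup.mem_normalizer_fintype fun q hq => hK0n _ d.2 q hq)
        (Subgroup.mem_normalizer_fintype fun q hq => hK0n _ y.2 q hq)
        (by
          obtain ⟨m, hm⟩ := hyd
          exact ⟨m, by simpa using congrArg Subtype.val hm⟩)
        hne h.not_seven).1
      have hk03 : k0 = 3 := Nat.pow_right_injective le_rfl (show 2 ^ k0 = 2 ^ 3 by rw [← hk0, h8])
      refine ⟨?_, K0, h8, hK0mem⟩
      rw [hk03] at hS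
      omega

end Small

end CfsgLib.SelfCentralSix
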