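import Cfsg.Agent.Lib.SelfCentralSix.Eight
import Cfsg.Agent.Lib.SelfCentralSix.Layer
import Cfsg.Agent.Lib.Involutions.StronglyEmbedded

/-!
# `T` has no second central involution
-/

set_option autoImplicit false
set_option linter.style.haveILetI false

namespace CfsgLib.SelfCentralSix

open Subgroup CfsgLib.SelfThree29

universe u

variable {G : Type u} [Group G]

namespace Small

variable [Finite G] {D : Ctx G} {S : Sylow 2 G} {T : Subgroup G} {b : G}

theorem conj_inverter (h : Small D S T b) (w : G) :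
    b * (D.x * w * D.x⁻¹) * b⁻¹ = D.x⁻¹ * (b * w * b⁻¹) * D.x⁻¹⁻¹ :=
  calc b * (D.x * w * D.x⁻¹) * b⁻¹ = b * D.x * b⁻¹ * (b * w * b⁻¹) * (b * D.x * b⁻¹)⁻¹ := by group
    _ = _ := by rw [h.b_x]

/-- `C` is `S⟨x⟩`. -/
theorem decompose (h : Small D S T b) {c : G} (hc : c ∈ D.C) :
    ∃ k : Fin 3, c * (D.x ^ (k : ℕ))⁻¹ ∈ (S : Subgroup G) := by
  classical
  let m : ↥(S : Subgroup G) × Fin 3 → D.C := fun p =>
    ⟨(p.1 : G) * D.x ^ (p.2 : ℕ), mul_mem (h.S_le p.1.2) (pow_mem D.x_mem _)⟩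
  have hm : Function.Injective m := by
    intro p q e
    have e' : (p.1 : G) * D.x ^ (p.2 : ℕ) = q.1 * D.x ^ (q.2 : ℕ) := congrArg Subtype.val e
    have h1 : (q.1 : G)⁻¹ * p.1 = D.x ^ (q.2 : ℕ) * (D.x ^ (p.2 : ℕ))⁻¹ := by
      rw [eq_mul_inv_iff_mul_eq, mul_assoc, e', inv_mul_cancel_left]
    have hz : D.x ^ (q.2 : ℕ) * (D.x ^ (p.2 : ℕ))⁻¹ ∈ zpowers D.x :=
      mul_mem (pow_mem (mem_zpowers _) _) (inv_mem (pow_mem (mem_zpowers _) _))
    obtain ⟨n, hn⟩ := IsPGroup.iff_orderOf.1 S.2 ⟨_, mul_mem (inv_mem q.1.2) p.1.2⟩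
    rw [orderOf_mk] at hn
    have hd := Subgroup.orderOf_dvd_natCard _ (h1 ▸ hz)
    rw [Nat.card_zpowers, D.ox, hn] at hd
    have h0 : (q.1 : G)⁻¹ * p.1 = 1 := by
      rw [← orderOf_eq_one_iff, hn]
      rcases (Nat.dvd_prime Nat.prime_three).1 hd with e0 | e0
      · exact e0
      · exfalso
        have := Nat.prime_three.dvd_of_dvd_pow (dvd_of_eq e0.symm)
        norm_num at this
    have h2 : (p.1 : G) = q.1 := (inv_mul_eq_one.1 h0).symm
    rw [h2] at e'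
    have h4 := pow_inj_mod.1 (mul_left_cancel e')
    rw [D.ox, Nat.mod_eq_of_lt p.2.2, Nat.mod_eq_of_lt q.2.2] at h4
    exact Prod.ext (Subtype.ext h2) (Fin.ext h4)
  have hbij : Function.Bijective m := (Nat.bijective_iff_injective_and_card m).2 ⟨hm, by
    rw [Nat.card_prod, Nat.card_fin, h.card, h.card_S]; ring⟩
  obtain ⟨p, hp⟩ := hbij.2 ⟨c, hc⟩
  have hp' : (p.1 : G) * D.x ^ (p.2 : ℕ) = c := congrArg Subtype.val hp
  exact ⟨p.2, by rw [← hp', mul_inv_cancel_right]; exact p.1.2⟩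

/-- `x` does not normalize `S`. -/
theorem x_notMem_normalizer (h : Small D S T b) : D.x ∉ normalizer ((S : Subgroup G) : Set G) := by
  intro hx
  have h1 := mul_mem ((mem_normalizer_iff.1 hx b).1 h.b_mem_S) (inv_mem h.b_mem_S)
  rw [show D.x * b * D.x⁻¹ * b⁻¹ = D.x * (b * D.x * b⁻¹)⁻¹ by group, h.b_x, inv_inv] at h1
  obtain ⟨m, hm⟩ := IsPGroup.iff_orderOf.1 S.2 ⟨_, h1⟩
  rw [orderOf_mk, ← sq, orderOf_pow' _ two_ne_zero, D.ox] at hm
  norm_num at hm
  have := Nat.prime_three.dvd_of_dvd_pow (dvd_of_eq hm)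
  norm_num at this

theorem normalizer_inf_C (h : Small D S T b) :
    normalizer ((S : Subgroup G) : Set G) ⊓ D.C = (S : Subgroup G) := by
  refine le_antisymm ?_ (le_inf le_normalizer h.S_le)
  rintro c ⟨hcN, hcC⟩
  obtain ⟨k, hk⟩ := h.decompose hcC
  have hxk : D.x ^ (k : ℕ) ∈ normalizer ((S : Subgroup G) : Set G) := by
    have := mul_mem (inv_mem (le_normalizer hk)) hcN
    rwa [mul_inv_rev, inv_inv, inv_mul_cancel_right] at this
  have hk0 : (k : ℕ) = 0 := by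
    by_contra hk0
    refine h.x_notMem_normalizer ?_
    have hlt := k.2
    rcases (show (k : ℕ) = 1 ∨ (k : ℕ) = 2 by omega) with e | e <;> rw [e] at hxk
    · rwa [pow_one] at hxk
    · have h2 := mul_mem hxk hxk
      rwa [← pow_add, pow_succ, D.x_pow, one_mul] at h2
  rwa [hk0, pow_zero, inv_one, mul_one] at hk

set_option maxHeartbeats 2000000 in
/-- `T` has no second central involution. -/
theorem no_central (h : Small D S T b) {z0 : G} (hz0 : z0 ∈ zInv T) (hz01 : z0 ≠ 1) (hz0i : z0 ≠ D.i) :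
    False := by
  classical
  haveI : Fact (Nat.Prime 2) := ⟨Nat.prime_two⟩
  have hic : ∀ t ∈ T, t * D.i = D.i * t := fun t ht => D.mem_C.1 (h.T_le ht)
  have hiZ : D.i ∈ zInv T := ⟨h.i_mem, D.i_sq, hic⟩
  have hxT := h.normalizer_T D.x_mem
  have hxZ := zInv_normalized hxT
  have hbT := h.normalizer_T h.b_mem
  have hbZ := zInv_normalized hbT
  obtain ⟨-, hfixT⟩ := D.x_fixed h.two hxT h.i_mem
  have hxi : D.x * D.i * D.x⁻¹ = D.i := by rw [← D.mul_comm_ix, mul_inv_cancel_right]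
  have hbi : b * D.i * b⁻¹ = D.i := D.conj_i h.b_mem
  have hbsq : b * b ∈ zInv T := by
    rcases h.b_sq with e | e <;> rw [e]
    exacts [one_mem _, hiZ]
  have hZc : ∀ p ∈ zInv T, ∀ q ∈ zInv T, p * q = q * p := fun p hp q hq => hq.2.2 p hp.1
  have hZinv : ∀ p ∈ zInv T, p⁻¹ = p := fun p hp => inv_eq_of_mul_eq_one_right hp.2.1
  -- `b` is nontrivial on the central involutions
  have hbne : ∃ z ∈ zInv T, b * z * b⁻¹ ≠ z := by
    by_contra hall
    push Not at hall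
    have hz1 : D.x * z0 * D.x⁻¹ ∈ zInv T := (mem_normalizer_iff.1 hxZ z0).1 hz0
    have h1 : D.x⁻¹ * z0 * D.x⁻¹⁻¹ = D.x * z0 * D.x⁻¹ := by
      have h2 := h.conj_inverter z0
      rw [hall _ hz1, hall z0 hz0] at h2
      exact h2.symm
    have hfx : z0 * D.x = D.x * z0 := by
      have h2 : z0 = D.x * D.x * z0 * (D.x * D.x)⁻¹ := by
        calc z0 = D.x * (D.x⁻¹ * z0 * D.x⁻¹⁻¹) * D.x⁻¹ := by group
          _ = D.x * (D.x * z0 * D.x⁻¹) * D.x⁻¹ := by rw [h1]
          _ = _ := by group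
      have h3 : Commute z0 (D.x * D.x) := (mul_inv_eq_iff_eq_mul.1 h2.symm).symm
      have h4 := Commute.mul_right h3 h3
      rwa [show D.x * D.x * (D.x * D.x) = D.x by
        rw [show D.x * D.x * (D.x * D.x) = D.x ^ 3 * D.x by simp [pow_succ, mul_assoc], D.x_pow, one_mul]] at h4
    exact (hfixT z0 hz0.1 hfx).elim hz01 hz0i
  by_cases h8 : Nat.card T ≤ 8
  · have hd : Nat.card T = 8 := by
      obtain ⟨k, hk⟩ := h.exists_pow
      have hmod := (D.x_fixed h.two hxT h.i_mem).1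
      letI : Fintype T := Fintype.ofFinite T
      have h3 : ({1, ⟨D.i, h.i_mem⟩, ⟨z0, hz0.1⟩} : Finset T).card ≤ Nat.card T := by
        rw [Nat.card_eq_fintype_card]; exact Finset.card_le_univ _
      rw [Finset.card_insert_of_notMem, Finset.card_pair] at h3
      · rw [hk] at h3 hmod h8 ⊢
        have hk3 : k ≤ 3 := (Nat.pow_le_pow_iff_right (by norm_num : 1 < 2)).1 (show 2 ^ k ≤ 2 ^ 3 from h8)
        interval_cases k <;> simp_all
      · exact fun e => hz0i (congrArg Subtype.val e).symm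
      · simp only [Finset.mem_insert, Finset.mem_singleton, Subtype.ext_iff, Subgroup.coe_one]
        rintro (e | e)
        · exact D.i_ne e.symm
        · exact hz01 e.symm
    obtain ⟨z, hz, hzne⟩ := hbne
    exact D.false_of_eight S h.T_le_S hd
      (D.eight_elementary h.two h.T_le hxT h.i_mem hd hz0.1 hz0.2.1 hz01 hz0i)
      h.b_mem_S (fun t ht => h.T_conj b h.b_mem t ht) hbsq.1 h.cover ⟨z, hz.1, hzne⟩
  push Not at h8
  -- `N(T) = C`
  have hNT : normalizer (T : Set G) ≤ D.C := by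
    refine (h.layer (Y := zInv T) (h.normalizer_T) (fun z hz => hz.1) (fun g hg z hz =>
      (mem_normalizer_iff.1 (zInv_normalized hg) z).1 hz) (fun z hz => hz.2.1) hiZ hz0 hz01 hz0i).resolve_right ?_
    rintro ⟨hT32, K0, hK8, hK0⟩
    have hTK : T ≤ K0 := fun t ht => (hK0 t).2 ⟨le_normalizer ht, fun y hy => mul_inv_eq_iff_eq_mul.2 (hy.2.2 t ht)⟩
    have hle := Subgroup.card_le_of_le hTK
    omega
  -- the fixed vectors
  have hEmem : ∀ e, e ∈ zInv (S : Subgroup G) ↔ e ∈ zInv T ∧ b * e * b⁻¹ = e := by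
    intro e
    constructor
    · rintro ⟨heS, he2, hec⟩
      have heT : e ∈ T := by
        by_contra heT
        have := h.outer heS heT le_rfl (by omega) fun v hv => hec v (h.T_le_S hv)
        omega
      exact ⟨⟨heT, he2, fun p hp => hec p (h.T_le_S hp)⟩, mul_inv_eq_iff_eq_mul.2 (hec b h.b_mem_S)⟩
    · rintro ⟨⟨heT, he2, hec⟩, hbe⟩
      refine ⟨h.T_le_S heT, he2, fun s hs => ?_⟩
      rcases h.cover s hs with q | q
      · exact hec s q
      · have h4 : Commute (s * b⁻¹ * b) e :=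
          Commute.mul_left (hec _ q) (mul_inv_eq_iff_eq_mul.1 hbe)
        rw [inv_mul_cancel_right] at h4
        exact h4.eq
  have hEZ : zInv (S : Subgroup G) ≤ zInv T := fun e he => ((hEmem e).1 he).1
  have hiE : D.i ∈ zInv (S : Subgroup G) := (hEmem _).2 ⟨hiZ, hbi⟩
  set E := zInv (S : Subgroup G) with hE
  set Z := zInv T with hZ
  -- every central involution is conjugate under `x` into `E`
  have hcover : ∀ z ∈ Z, ∃ k : Fin 3, D.x ^ (k : ℕ) * z * (D.x ^ (k : ℕ))⁻¹ ∈ E := by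
    intro z hz
    by_cases hz1 : z = 1
    · exact ⟨0, by subst hz1; simpa using one_mem E⟩
    obtain ⟨w, hw⟩ := D.exists_fused (orderOf_two hz.2.1 hz1)
    set Cz := centralizer ({z} : Set G) with hCz
    have hTCz : T ≤ Cz := fun t ht => mem_centralizer_singleton_iff.2 (hz.2.2 t ht)
    obtain ⟨P, hP⟩ : ∃ P : Sylow 2 Cz, T.subgroupOf Cz ≤ (P : Subgroup Cz) :=
      (h.two.of_equiv (subgroupOfEquivOfLe hTCz).symm).exists_le_sylow
    have hmapS : (S : Subgroup G).map (MulAut.conj w).toMonoidHom ≤ Cz := by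
      rintro _ ⟨s, hs, rfl⟩
      refine mem_centralizer_singleton_iff.2 ?_
      show w * s * w⁻¹ * z = z * (w * s * w⁻¹)
      rw [← hw]
      exact conj_comm (D.mem_C.1 (h.S_le hs))
    set P' := (P : Subgroup Cz).map Cz.subtype with hP'
    have hTP : T ≤ P' := fun t ht => ⟨⟨t, hTCz ht⟩, hP (mem_subgroupOf.2 ht), rfl⟩
    have hlt : T < P' := by
      refine lt_of_le_of_ne hTP fun e => ?_
      obtain ⟨s, hs⟩ := IsPGroup.iff_card.1 S.2
      have h1 : Nat.card (S : Subgroup G) ∣ Nat.card Cz := by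
        rw [← card_map_of_injective (f := (MulAut.conj w).toMonoidHom) (MulAut.conj w).injective]
        exact card_dvd_of_le hmapS
      rw [hs] at h1
      have h2 : Nat.card (S : Subgroup G) ≤ Nat.card T := by
        rw [e, hP', card_map_of_injective Cz.subtype_injective, P.card_eq_multiplicity, hs]
        exact Nat.pow_le_pow_right two_pos ((Nat.prime_two.pow_dvd_iff_le_factorization Nat.card_pos.ne').1 h1)
      have := h.card_S
      have := Nat.card_pos (α := T)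
      omega
    obtain ⟨p, hpP, hpT, hpN⟩ := CfsgLib.Involutions.exists_mem_normalizer_notMem (P.2.map _) hlt
    have hpC := hNT hpN
    obtain ⟨q, hq⟩ := IsPGroup.iff_orderOf.1 (P.2.map Cz.subtype) ⟨p, hpP⟩
    rw [orderOf_mk] at hq
    have hp2 : IsPGroup 2 (zpowers (⟨p, hpC⟩ : D.C)) :=
      IsPGroup.of_card (n := q) (by rw [Nat.card_zpowers, orderOf_mk, hq])
    obtain ⟨Q, hQ⟩ := hp2.exists_le_sylow
    obtain ⟨c, hc⟩ := MulAction.exists_smul_eq D.C Q (S.subtype h.S_le)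
    have hcp : (c : G) * p * (c : G)⁻¹ ∈ (S : Subgroup G) := by
      have h1 : c * ⟨p, hpC⟩ * c⁻¹ ∈ ((c • Q : Sylow 2 D.C) : Subgroup D.C) := by
        rw [Sylow.coe_subgroup_smul]
        exact ⟨⟨p, hpC⟩, hQ (mem_zpowers _), rfl⟩
      rw [hc, Sylow.coe_subtype] at h1
      exact mem_subgroupOf.1 h1
    have hcpT : (c : G) * p * (c : G)⁻¹ ∉ T := fun e => hpT (by
      have h1 := h.T_conj _ (inv_mem c.2) _ e
      rwa [show (c : G)⁻¹ * ((c : G) * p * (c : G)⁻¹) * (c : G)⁻¹⁻¹ = p by group] at h1)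
    have hzp : p * z = z * p := by
      obtain ⟨a, -, ha⟩ := hpP
      rw [← ha]
      exact mem_centralizer_singleton_iff.1 a.2
    set z' := (c : G) * z * (c : G)⁻¹ with hz'
    have hz'Z : z' ∈ Z := (mem_normalizer_iff.1 (zInv_normalized (h.normalizer_T c.2)) z).1 hz
    have hz'E : z' ∈ E := by
      refine (hEmem _).2 ⟨hz'Z, mul_inv_eq_iff_eq_mul.2 ?_⟩
      have h1 : Commute ((c : G) * p * (c : G)⁻¹) z' := conj_comm hzp
      have h2 := (h.cover _ hcp).resolve_left hcpT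
      have h3 : Commute (((c : G) * p * (c : G)⁻¹ * b⁻¹)⁻¹ * ((c : G) * p * (c : G)⁻¹)) z' :=
        Commute.mul_left (Commute.inv_left (hz'Z.2.2 _ h2)) h1
      rw [show ((c : G) * p * (c : G)⁻¹ * b⁻¹)⁻¹ * ((c : G) * p * (c : G)⁻¹) = b by group] at h3
      exact h3.eq
    obtain ⟨k, hk⟩ := h.decompose c.2
    refine ⟨k, ?_⟩
    set s := (c : G) * (D.x ^ (k : ℕ))⁻¹ with hs
    have h5 : D.x ^ (k : ℕ) * z * (D.x ^ (k : ℕ))⁻¹ = s⁻¹ * z' * s⁻¹⁻¹ := by rw [hs, hz']; group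
    rw [h5]
    exact (mem_normalizer_iff.1 (zInv_normalized (le_normalizer (inv_mem hk))) z').1 hz'E
  have hdisj : ∀ e ∈ E, D.x⁻¹ * e * D.x⁻¹⁻¹ ∈ E → e = 1 ∨ e = D.i := by
    intro e he he'
    obtain ⟨heZ, hbe⟩ := (hEmem e).1 he
    obtain ⟨-, hbe'⟩ := (hEmem _).1 he'
    refine hfixT e heZ.1 ?_
    have h1 : Commute b e := mul_inv_eq_iff_eq_mul.1 hbe
    have h2 : Commute (D.x * b * D.x⁻¹) e := by
      have h3 := conj_comm (g := D.x) (mul_inv_eq_iff_eq_mul.1 hbe')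
      rwa [show D.x * (D.x⁻¹ * e * D.x⁻¹⁻¹) * D.x⁻¹ = e by group] at h3
    have h3 := h2.mul_left h1.inv_left
    rw [show D.x * b * D.x⁻¹ * b⁻¹ = D.x * (b * D.x * b⁻¹)⁻¹ by group, h.b_x, inv_inv] at h3
    have h4 := h3.mul_left h3
    rw [show D.x * D.x * (D.x * D.x) = D.x by
      rw [show D.x * D.x * (D.x * D.x) = D.x ^ 3 * D.x by simp [pow_succ, mul_assoc], D.x_pow, one_mul]] at h4
    exact h4.symm.eq
  -- counting: `|E| = 4`, `|Z| = 8`
  obtain ⟨hE4, hZ8⟩ : Nat.card E = 4 ∧ Nat.card Z = 8 := by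
    letI : Fintype G := Fintype.ofFinite G
    let Ef : Finset G := (Finset.univ.filter fun g => g ∈ E ∧ g ≠ 1 ∧ g ≠ D.i)
    let Zf : Finset G := (Finset.univ.filter fun g => g ∈ Z ∧ g ≠ 1 ∧ g ≠ D.i)
    have cardEZ : ∀ P : Subgroup G, D.i ∈ P →
        (Finset.univ.filter fun g => g ∈ P ∧ g ≠ 1 ∧ g ≠ D.i).card + 2 = Nat.card P := by
      intro P hP
      rw [Nat.card_eq_fintype_card, Fintype.card_subtype,
        show (Finset.univ.filter fun g => g ∈ P) = insert 1 (insert D.i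
          (Finset.univ.filter fun g => g ∈ P ∧ g ≠ 1 ∧ g ≠ D.i)) by
          ext g
          simp only [Finset.mem_filter, Finset.mem_univ, true_and, Finset.mem_insert]
          constructor
          · intro hg
            by_cases h1 : g = 1
            · exact Or.inl h1
            by_cases h2 : g = D.i
            · exact Or.inr (Or.inl h2)
            exact Or.inr (Or.inr ⟨hg, h1, h2⟩)
          · rintro (rfl | rfl | hg)
            exacts [one_mem P, hP, hg.1],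
        Finset.card_insert_of_notMem (by simp [D.i_ne.symm]), Finset.card_insert_of_notMem (by simp)]
    let F : Fin 3 → Finset G := fun k => Ef.image fun e => (D.x ^ (k : ℕ))⁻¹ * e * D.x ^ (k : ℕ)
    have hxk : ∀ k : ℕ, D.x ^ k ∈ normalizer (Z : Set G) := fun k => pow_mem hxZ k
    have hU : Zf = Finset.univ.biUnion F := by
      ext g
      simp only [Zf, Ef, F, Finset.mem_filter, Finset.mem_univ, true_and, Finset.mem_biUnion, Finset.mem_image]
      constructor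
      · rintro ⟨hg, hg1, hgi⟩
        obtain ⟨k, hk⟩ := hcover g hg
        refine ⟨k, _, ⟨hk, fun e => hg1 (conj_eq_one_iff.1 e), fun e => hgi ?_⟩, by group⟩
        have h1 : D.x ^ (k : ℕ) * D.i * (D.x ^ (k : ℕ))⁻¹ = D.i := D.conj_i (pow_mem D.x_mem _)
        exact (MulAut.conj (D.x ^ (k : ℕ))).injective (e.trans h1.symm)
      · rintro ⟨k, e, ⟨he, he1, hei⟩, rfl⟩
        refine ⟨?_, fun q => he1 ?_, fun q => hei ?_⟩
        · have := (mem_normalizer_iff.1 (inv_mem (hxk (k : ℕ))) e).1 (hEZ he)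
          rwa [inv_inv] at this
        · calc e = D.x ^ (k : ℕ) * ((D.x ^ (k : ℕ))⁻¹ * e * D.x ^ (k : ℕ)) * (D.x ^ (k : ℕ))⁻¹ := by group
            _ = 1 := by rw [q]; group
        · calc e = D.x ^ (k : ℕ) * ((D.x ^ (k : ℕ))⁻¹ * e * D.x ^ (k : ℕ)) * (D.x ^ (k : ℕ))⁻¹ := by group
            _ = D.i := by rw [q]; exact D.conj_i (pow_mem D.x_mem _)
    have hdis : ∀ k l : Fin 3, k ≠ l → Disjoint (F k) (F l) := by
      intro k l hkl
      rw [Finset.disjoint_left]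
      intro g hk hl
      simp only [F, Ef, Finset.mem_image, Finset.mem_filter, Finset.mem_univ, true_and] at hk hl
      obtain ⟨e, ⟨he, he1, hei⟩, hge⟩ := hk
      obtain ⟨e', ⟨he', he'1, he'i⟩, hge'⟩ := hl
      have step : ∀ e e' : G, e ∈ E → e' ∈ E → e ≠ 1 → e ≠ D.i → e' = D.x⁻¹ * e * D.x → False :=
        fun e e' he he' h1 h2 q => (hdisj e he (by rw [inv_inv, ← q]; exact he')).elim h1 h2
      have hinv : D.x ^ 2 = D.x⁻¹ := eq_inv_of_mul_eq_one_left (by rw [← pow_succ, D.x_pow])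
      have hrel : e' = D.x ^ (l : ℕ) * (D.x ^ (k : ℕ))⁻¹ * e * (D.x ^ (l : ℕ) * (D.x ^ (k : ℕ))⁻¹)⁻¹ := by
        calc e' = D.x ^ (l : ℕ) * ((D.x ^ (l : ℕ))⁻¹ * e' * D.x ^ (l : ℕ)) * (D.x ^ (l : ℕ))⁻¹ := by group
          _ = D.x ^ (l : ℕ) * ((D.x ^ (k : ℕ))⁻¹ * e * D.x ^ (k : ℕ)) * (D.x ^ (l : ℕ))⁻¹ := by rw [hge', ← hge]
          _ = _ := by group
      have hrel' : e = D.x ^ (k : ℕ) * (D.x ^ (l : ℕ))⁻¹ * e' * (D.x ^ (k : ℕ) * (D.x ^ (l : ℕ))⁻¹)⁻¹ := by
        rw [hrel]; group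
      fin_cases k <;> fin_cases l <;> simp only [pow_zero, pow_one, inv_one, mul_one, one_mul, hinv,
        mul_inv_cancel, inv_inv] at hrel hrel'
      · exact hkl rfl
      · exact step e' e he' he he'1 he'i hrel'
      · exact step e e' he he' he1 hei hrel
      · exact step e e' he he' he1 hei hrel
      · exact hkl rfl
      · have hxx : D.x * D.x = D.x⁻¹ := by rw [← sq]; exact hinv
        rw [hxx, inv_inv] at hrel'
        exact step e' e he' he he'1 he'i hrel'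
      · exact step e' e he' he he'1 he'i hrel'
      · have hxx : D.x * D.x = D.x⁻¹ := by rw [← sq]; exact hinv
        rw [hxx, inv_inv] at hrel
        exact step e e' he he' he1 hei hrel
      · exact hkl rfl
    have hcardU : Zf.card = 3 * Ef.card := by
      have hF : ∀ k ∈ (Finset.univ : Finset (Fin 3)), (F k).card = Ef.card := fun k _ =>
        Finset.card_image_of_injective _ fun a c e => mul_left_cancel (mul_right_cancel e)
      rw [hU, Finset.card_biUnion fun k _ l _ hkl => hdis k l hkl, Finset.sum_const_nat hF]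
      simp
    have h1 := cardEZ Z hiZ
    have h2 := cardEZ E hiE
    change Zf.card + 2 = _ at h1
    change Ef.card + 2 = _ at h2
    obtain ⟨m, hm⟩ := IsPGroup.iff_card.1 (h.two.to_le (show Z ≤ T from fun z hz => hz.1))
    obtain ⟨e, he⟩ := IsPGroup.iff_card.1 (h.two.to_le (show E ≤ T from fun z hz => (hEZ hz).1))
    have hne2 : Ef.card ≠ 0 := fun q => by
      have hz0' : z0 ∈ Zf := Finset.mem_filter.2 ⟨Finset.mem_univ _, hz0, hz01, hz0i⟩
      have := Finset.card_pos.2 ⟨z0, hz0'⟩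
      omega
    have he2 : 2 ≤ e := by
      by_contra q
      interval_cases e <;> omega
    have hm3 : 3 ≤ m := by
      by_contra q
      have : 2 ^ m ≤ 4 := (Nat.pow_le_pow_right two_pos (show m ≤ 2 by omega))
      have : 4 ≤ 2 ^ e := Nat.pow_le_pow_right two_pos he2
      omega
    obtain ⟨e', rfl⟩ : ∃ e', e = e' + 2 := ⟨e - 2, by omega⟩
    obtain ⟨m', rfl⟩ : ∃ m', m = m' + 3 := ⟨m - 3, by omega⟩
    rw [pow_add, show (2 : ℕ) ^ 2 = 4 from rfl] at he
    rw [pow_add, show (2 : ℕ) ^ 3 = 8 from rfl] at hm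
    have he' : e' = 0 := by
      by_contra q
      obtain ⟨r, rfl⟩ : ∃ r, e' = r + 1 := ⟨e' - 1, by omega⟩
      rw [pow_succ] at he
      omega
    subst he'
    rw [pow_zero, one_mul] at he
    exact ⟨he, by omega⟩
  -- `E = {1, i, k, j}`
  obtain ⟨w, hwZ, hwb⟩ := hbne
  have hwE : w ∉ E := fun e => hwb ((hEmem w).1 e).2
  set k := w * (b * w * b⁻¹) with hk
  have hbw : b * w * b⁻¹ ∈ Z := (mem_normalizer_iff.1 hbZ w).1 hwZ
  have hbb : ∀ z ∈ Z, b * (b * z * b⁻¹) * b⁻¹ = z := fun z hz => by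
    rw [show b * (b * z * b⁻¹) * b⁻¹ = b * b * z * (b * b)⁻¹ by group, hZc _ hbsq z hz, mul_inv_cancel_right]
  have hkE : k ∈ E := (hEmem k).2 ⟨mul_mem hwZ hbw, by
    rw [hk, show b * (w * (b * w * b⁻¹)) * b⁻¹ = b * w * b⁻¹ * (b * (b * w * b⁻¹) * b⁻¹) by group, hbb w hwZ,
      hZc _ hbw w hwZ]⟩
  have hk1 : k ≠ 1 := fun e => hwb (by
    rw [← inv_eq_of_mul_eq_one_right (show w * (b * w * b⁻¹) = 1 from e), hZinv w hwZ])
  have hkw : b * w * b⁻¹ = w * k := by rw [hk, ← mul_assoc, hwZ.2.1, one_mul]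
  set w1 := D.x * w * D.x⁻¹ with hw1
  set w2 := D.x * w1 * D.x⁻¹ with hw2
  have hw1Z : w1 ∈ Z := (mem_normalizer_iff.1 hxZ w).1 hwZ
  have hw2Z : w2 ∈ Z := (mem_normalizer_iff.1 hxZ w1).1 hw1Z
  have hw2' : D.x⁻¹ * w * D.x⁻¹⁻¹ = w2 := by
    conv_lhs => rw [← conj_triple D.x w D.x_pow, ← hw1, ← hw2]
    group
  have hbw1 : b * w1 * b⁻¹ = D.x⁻¹ * (b * w * b⁻¹) * D.x⁻¹⁻¹ := h.conj_inverter w
  have hP := (three_mod hxT D.x_pow h.i_mem D.i_sq hic D.mul_comm_ix hfixT hwZ.1).1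
  rw [← hw1, ← hw2] at hP
  have hPfix : b * (w * w1 * w2) * b⁻¹ = w * w1 * w2 := by
    rcases hP with e | e <;> rw [e]
    · group
    · exact hbi
  have hki : k ≠ D.i := by
    intro e
    have e' : b * w * b⁻¹ = w * D.i := e ▸ hkw
    have e1 : b * w1 * b⁻¹ = w2 * D.i := by
      rw [hbw1, e', show D.x⁻¹ * (w * D.i) * D.x⁻¹⁻¹ = D.x⁻¹ * w * D.x⁻¹⁻¹ * (D.x⁻¹ * D.i * D.x⁻¹⁻¹) by group,
        hw2', D.conj_i (inv_mem D.x_mem)]
    have e2 : b * w2 * b⁻¹ = w1 * D.i := by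
      calc b * w2 * b⁻¹ = b * (b * w1 * b⁻¹) * b⁻¹ * (b * D.i * b⁻¹)⁻¹ := by rw [e1]; group
        _ = w1 * D.i := by rw [hbb w1 hw1Z, hbi, D.i_inv]
    rw [show b * (w * w1 * w2) * b⁻¹ = b * w * b⁻¹ * (b * w1 * b⁻¹) * (b * w2 * b⁻¹) by group, e', e1, e2,
      show w * D.i * (w2 * D.i) * (w1 * D.i) = w * (D.i * w2) * (D.i * w1) * D.i by group,
      ← hic w2 hw2Z.1, ← hic w1 hw1Z.1,
      show w * (w2 * D.i) * (w1 * D.i) * D.i = w * w2 * (D.i * w1) * (D.i * D.i) by group, ← hic w1 hw1Z.1,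
      D.i_sq, mul_one, show w * w2 * (w1 * D.i) = w * (w2 * w1) * D.i by group, hZc w2 hw2Z w1 hw1Z,
      ← mul_assoc] at hPfix
    exact D.i_ne (mul_eq_left.1 hPfix)
  set j := k * D.i with hj
  have hjE : j ∈ E := mul_mem hkE hiE
  have hj1 : j ≠ 1 := fun e => hki (by rw [eq_inv_of_mul_eq_one_left e, D.i_inv])
  have hji : j ≠ D.i := fun e => hk1 (mul_eq_right.1 e)
  have hkj : k ≠ j := fun e => D.i_ne (mul_eq_left.1 e.symm)
  have hEelts : ∀ e ∈ E, e = 1 ∨ e = D.i ∨ e = k ∨ e = j := by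
    intro e he
    by_contra hc
    push Not at hc
    obtain ⟨h1, h2, h3, h4⟩ := hc
    letI : Fintype E := Fintype.ofFinite E
    have h5 : ({1, ⟨D.i, hiE⟩, ⟨k, hkE⟩, ⟨j, hjE⟩, ⟨e, he⟩} : Finset E).card ≤ Nat.card E := by
      rw [Nat.card_eq_fintype_card]; exact Finset.card_le_univ _
    rw [Finset.card_insert_of_notMem, Finset.card_insert_of_notMem, Finset.card_insert_of_notMem,
      Finset.card_pair, hE4] at h5
    · omega
    · exact fun q => h4 (congrArg Subtype.val q).symm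
    · simp only [Finset.mem_insert, Finset.mem_singleton, Subtype.ext_iff]
      rintro (q | q)
      · exact hkj q
      · exact h3 q.symm
    · simp only [Finset.mem_insert, Finset.mem_singleton, Subtype.ext_iff]
      rintro (q | q | q)
      · exact hki q.symm
      · exact hji q.symm
      · exact h2 q.symm
    · simp only [Finset.mem_insert, Finset.mem_singleton, Subtype.ext_iff, Subgroup.coe_one]
      rintro (q | q | q | q)
      · exact D.i_ne q.symm
      · exact hk1 q.symm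
      · exact hj1 q.symm
      · exact h1 q.symm
  -- an element of order three in `N(S)`
  set NS := normalizer ((S : Subgroup G) : Set G) with hNS
  obtain ⟨d, hdN, hd3, hdk⟩ : ∃ d ∈ NS, d ^ 3 = 1 ∧ d * k * d⁻¹ = D.i := by
    have hcard := D.card_zInv_mul S h.S_le
    rw [← hE, hE4, h.normalizer_inf_C] at hcard
    haveI : Fact (Nat.Prime 3) := ⟨Nat.prime_three⟩
    obtain ⟨⟨d, hdN⟩, hd⟩ := exists_prime_orderOf_dvd_card' (G := NS) 3 (hcard ▸ Dvd.intro _ rfl)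
    rw [orderOf_mk] at hd
    have hd3 : d ^ 3 = 1 := hd ▸ pow_orderOf_eq_one d
    have hdE := zInv_normalized hdN
    have hdC : d ∉ D.C := fun hdC => by
      have h1 : d ∈ (S : Subgroup G) := h.normalizer_inf_C ▸ mem_inf.2 ⟨hdN, hdC⟩
      obtain ⟨m, hm⟩ := IsPGroup.iff_orderOf.1 S.2 ⟨d, h1⟩
      rw [orderOf_mk, hd] at hm
      have := Nat.prime_three.dvd_of_dvd_pow (dvd_of_eq hm)
      norm_num at this
    have hdi : ∀ g : G, d * g * d⁻¹ = g → g ≠ D.i := fun g hg e => hdC (D.mem_C.2 (mul_inv_eq_iff_eq_mul.1 (e ▸ hg)))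
    have hd2 : ∀ g : G, d * (d * g * d⁻¹) * d⁻¹ = g → d * g * d⁻¹ = g := fun g hg => by
      have h1 := conj_triple d g hd3
      rwa [hg] at h1
    rcases hEelts _ ((mem_normalizer_iff.1 hdE _).1 hiE) with e | e | e | e
    · exact absurd (conj_eq_one_iff.1 e) D.i_ne
    · exact absurd rfl (hdi _ e)
    · refine ⟨d⁻¹, inv_mem hdN, by rw [inv_pow, hd3, inv_one], ?_⟩
      rw [← e]; group
    · refine ⟨d, hdN, hd3, ?_⟩
      rcases hEelts _ ((mem_normalizer_iff.1 hdE _).1 hjE) with q | q | q | q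
      · exact absurd (conj_eq_one_iff.1 q) hj1
      · exfalso
        have h1 := hd2 D.i (by rw [e, q])
        rw [e] at h1
        exact hji h1
      · have h1 := conj_triple d D.i hd3
        rwa [e, q] at h1
      · exfalso
        have h1 := conj_triple d D.i hd3
        rw [e, q, q] at h1
        exact hji h1
  have hdkj : d * d * k * (d * d)⁻¹ = j := by
    have hdE := zInv_normalized hdN
    rw [show d * d * k * (d * d)⁻¹ = d * (d * k * d⁻¹) * d⁻¹ by group, hdk]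
    rcases hEelts _ ((mem_normalizer_iff.1 hdE _).1 hiE) with e | e | e | e
    · exact absurd (conj_eq_one_iff.1 e) D.i_ne
    · exfalso
      exact hki ((MulAut.conj d).injective (show d * k * d⁻¹ = d * D.i * d⁻¹ by rw [hdk, e]))
    · exfalso
      have h1 := conj_triple d k hd3
      rw [hdk, e, hdk] at h1
      exact hki h1.symm
    · exact e
  set g := d * d with hg
  have hgN : g ∈ NS := mul_mem hdN hdN
  have hback : ∀ s ∈ (S : Subgroup G), g⁻¹ * s * g ∈ (S : Subgroup G) := fun s hs => by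
    have := (mem_normalizer_iff.1 (inv_mem hgN) s).1 hs; rwa [inv_inv] at this
  -- the conjugate of `w`
  set v := g * w * g⁻¹ with hv
  have hvS : v ∈ (S : Subgroup G) := (mem_normalizer_iff.1 hgN w).1 (h.T_le_S hwZ.1)
  have hvT : v ∈ T := by
    by_contra hvT
    set T' := T.map (MulAut.conj g).toMonoidHom with hT'
    have hT'S : T' ≤ (S : Subgroup G) := by
      rintro _ ⟨t, ht, rfl⟩
      exact (mem_normalizer_iff.1 hgN t).1 (h.T_le_S ht)
    have hidx : Nat.card T ≤ 2 * Nat.card ↥(T' ⊓ T) := by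
      have h1 : T'.relIndex (S : Subgroup G) = 2 := by
        have h2 := (T'.subgroupOf (S : Subgroup G)).card_mul_index
        rw [Nat.card_congr (subgroupOfEquivOfLe hT'S).toEquiv, hT',
          card_map_of_injective (MulAut.conj g).injective, h.card_S, mul_comm 2] at h2
        exact Nat.eq_of_mul_eq_mul_left Nat.card_pos h2
      have h3 : T'.relIndex T ≤ 2 :=
        h1 ▸ Subgroup.relIndex_le_of_le_right h.T_le_S (by rw [h1]; norm_num)
      have h4 := ((T' ⊓ T).subgroupOf T).card_mul_index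
      rw [Nat.card_congr (subgroupOfEquivOfLe inf_le_right).toEquiv] at h4
      have h5 : ((T' ⊓ T).subgroupOf T).index = T'.relIndex T := by
        rw [← Subgroup.inf_relIndex_right]; rfl
      rw [h5] at h4
      calc Nat.card T = Nat.card ↥(T' ⊓ T) * T'.relIndex T := h4.symm
        _ ≤ Nat.card ↥(T' ⊓ T) * 2 := Nat.mul_le_mul_left _ h3
        _ = _ := mul_comm _ _
    have := h.outer hvS hvT inf_le_right hidx (by
      rintro _ ⟨⟨t, ht, rfl⟩, -⟩
      exact conj_comm (hwZ.2.2 t ht))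
    omega
  have hvT' : ∀ τ ∈ (S : Subgroup G), τ * v * τ⁻¹ = v ∨ τ * v * τ⁻¹ = v * j := by
    intro τ hτ
    have e : τ * v * τ⁻¹ = g * ((g⁻¹ * τ * g) * w * (g⁻¹ * τ * g)⁻¹) * g⁻¹ := by rw [hv]; group
    rw [e]
    rcases h.cover _ (hback τ hτ) with q | q
    · left
      rw [mul_inv_eq_iff_eq_mul.2 (hwZ.2.2 _ q)]
    · right
      rw [show g⁻¹ * τ * g * w * (g⁻¹ * τ * g)⁻¹ =
        (g⁻¹ * τ * g * b⁻¹) * (b * w * b⁻¹) * (g⁻¹ * τ * g * b⁻¹)⁻¹ by group, hkw,
        mul_inv_eq_iff_eq_mul.2 ((mul_mem hwZ (hEZ hkE)).2.2 _ q),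
        show g * (w * k) * g⁻¹ = g * w * g⁻¹ * (g * k * g⁻¹) by group, ← hv, hdkj]
  -- the product of the three translates of `v`
  set v1 := D.x * v * D.x⁻¹ with hv1
  set v2 := D.x * v1 * D.x⁻¹ with hv2
  have hvP := (three_mod hxT D.x_pow h.i_mem D.i_sq hic D.mul_comm_ix hfixT hvT).1
  rw [← hv1, ← hv2] at hvP
  have hjZ : j ∈ Z := hEZ hjE
  set j1 := D.x * j * D.x⁻¹ with hj1d
  set j2 := D.x * j1 * D.x⁻¹ with hj2d
  have hj1Z : j1 ∈ Z := (mem_normalizer_iff.1 hxZ j).1 hjZ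
  have hj2Z : j2 ∈ Z := (mem_normalizer_iff.1 hxZ j1).1 hj1Z
  -- `j j1 j2 = i`
  have hj3 : j * j1 * j2 = D.i := by
    set k1 := D.x * k * D.x⁻¹ with hk1d
    set k2 := D.x * k1 * D.x⁻¹ with hk2d
    have hkZ := hEZ hkE
    have hk3 : k * k1 * k2 = 1 := by
      have hb2' : b * w1 * b⁻¹ = D.x * (D.x * (b * w * b⁻¹) * D.x⁻¹) * D.x⁻¹ := by
        rw [hbw1]
        conv_lhs => rw [← conj_triple D.x (b * w * b⁻¹) D.x_pow]
        group
      have hb1' : b * w2 * b⁻¹ = D.x * (b * w * b⁻¹) * D.x⁻¹ := by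
        calc b * w2 * b⁻¹ = D.x⁻¹ * (b * w1 * b⁻¹) * D.x⁻¹⁻¹ := h.conj_inverter w1
          _ = _ := by rw [hb2']; group
      have a1 : k1 = w1 * (b * w2 * b⁻¹) := by rw [hb1', hk1d, hk, hw1]; group
      have a2 : k2 = w2 * (b * w1 * b⁻¹) := by rw [hb2', hk2d, hk1d, hk, hw2, hw1]; group
      have hbw1Z : b * w1 * b⁻¹ ∈ Z := (mem_normalizer_iff.1 hbZ w1).1 hw1Z
      have hbw2Z : b * w2 * b⁻¹ ∈ Z := (mem_normalizer_iff.1 hbZ w2).1 hw2Z
      rw [a1, a2, hk, show w * (b * w * b⁻¹) * (w1 * (b * w2 * b⁻¹)) * (w2 * (b * w1 * b⁻¹)) =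
        w * ((b * w * b⁻¹) * w1) * ((b * w2 * b⁻¹) * w2) * (b * w1 * b⁻¹) by group,
        hZc _ hbw _ hw1Z, hZc _ hbw2Z _ hw2Z,
        show w * (w1 * (b * w * b⁻¹)) * (w2 * (b * w2 * b⁻¹)) * (b * w1 * b⁻¹) =
          w * w1 * ((b * w * b⁻¹) * w2) * ((b * w2 * b⁻¹) * (b * w1 * b⁻¹)) by group,
        hZc _ hbw _ hw2Z, hZc _ hbw2Z _ hbw1Z,
        show w * w1 * (w2 * (b * w * b⁻¹)) * (b * w1 * b⁻¹ * (b * w2 * b⁻¹)) =
          (w * w1 * w2) * (b * (w * w1 * w2) * b⁻¹) by group, hPfix]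
      rcases hP with q | q <;> rw [q]
      · exact one_mul 1
      · exact D.i_sq
    have hm : ∀ q, D.x * (q * D.i) * D.x⁻¹ = D.x * q * D.x⁻¹ * D.i := fun q => by
      rw [show D.x * (q * D.i) * D.x⁻¹ = D.x * q * D.x⁻¹ * (D.x * D.i * D.x⁻¹) by group, hxi]
    have hk1Z : k1 ∈ Z := (mem_normalizer_iff.1 hxZ k).1 hkZ
    have hk2Z : k2 ∈ Z := (mem_normalizer_iff.1 hxZ k1).1 hk1Z
    rw [hj2d, hj1d, hj, hm, ← hk1d, hm, ← hk2d,
      show k * D.i * (k1 * D.i) * (k2 * D.i) = k * (D.i * k1) * (D.i * k2) * D.i by group,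
      ← hic k1 hk1Z.1, ← hic k2 hk2Z.1,
      show k * (k1 * D.i) * (k2 * D.i) * D.i = k * k1 * (D.i * k2) * (D.i * D.i) by group, ← hic k2 hk2Z.1,
      D.i_sq, mul_one, show k * k1 * (k2 * D.i) = k * k1 * k2 * D.i by group, hk3, one_mul]
  have hjfix : j1 ≠ j := fun e => (hfixT j hjZ.1 (mul_inv_eq_iff_eq_mul.1 e).symm).elim hj1 hji
  have hjfix2 : j2 ≠ j := fun e => hjfix (by
    have h1 := conj_triple D.x j D.x_pow
    rwa [← hj1d, ← hj2d, e, ← hj1d] at h1)
  have htr : ∀ (q q' : G), (∀ τ ∈ T, τ * q * τ⁻¹ = q ∨ τ * q * τ⁻¹ = q * q') →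
      ∀ τ ∈ T, τ * (D.x * q * D.x⁻¹) * τ⁻¹ = D.x * q * D.x⁻¹ ∨
        τ * (D.x * q * D.x⁻¹) * τ⁻¹ = D.x * q * D.x⁻¹ * (D.x * q' * D.x⁻¹) := by
    intro q q' hq τ hτ
    have hτ' : D.x⁻¹ * τ * D.x ∈ T := by
      have := (mem_normalizer_iff.1 (inv_mem hxT) τ).1 hτ; rwa [inv_inv] at this
    rw [show τ * (D.x * q * D.x⁻¹) * τ⁻¹ = D.x * ((D.x⁻¹ * τ * D.x) * q * (D.x⁻¹ * τ * D.x)⁻¹) * D.x⁻¹ by group]
    rcases hq _ hτ' with e | e <;> rw [e]
    · exact Or.inl rfl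
    · right; group
  have hvc : ∀ τ ∈ T, τ * v = v * τ := by
    intro τ hτ
    have h0 := fun t (ht : t ∈ T) => hvT' t (h.T_le_S ht)
    have h1 := htr v j h0
    have h2 := htr v1 j1 h1
    rcases h0 τ hτ with a | a
    · exact mul_inv_eq_iff_eq_mul.1 a
    exfalso
    have hfixP : τ * (v * v1 * v2) * τ⁻¹ = v * v1 * v2 := by
      rcases hvP with e | e <;> rw [e]
      · group
      · exact D.conj_i (h.T_le hτ)
    rw [show τ * (v * v1 * v2) * τ⁻¹ = τ * v * τ⁻¹ * (τ * v1 * τ⁻¹) * (τ * v2 * τ⁻¹) by group, a] at hfixP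
    have hv1T : v1 ∈ T := (mem_normalizer_iff.1 hxT v).1 hvT
    have hv2T : v2 ∈ T := (mem_normalizer_iff.1 hxT v1).1 hv1T
    have cj : ∀ t ∈ T, t * j = j * t := hjZ.2.2
    have cj1 : ∀ t ∈ T, t * j1 = j1 * t := hj1Z.2.2
    rcases h1 τ hτ with c | c <;> rcases h2 τ hτ with e | e <;> rw [← hv1] at c <;>
      rw [← hv2] at e <;> rw [c, e] at hfixP
    · rw [show v * j * v1 * v2 = v * (j * (v1 * v2)) by group, ← cj _ (mul_mem hv1T hv2T),
        show v * (v1 * v2 * j) = v * v1 * v2 * j by group] at hfixP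
      exact hj1 (mul_eq_left.1 hfixP)
    · rw [show v * j * v1 * (v2 * j2) = v * (j * (v1 * v2)) * j2 by group, ← cj _ (mul_mem hv1T hv2T),
        show v * (v1 * v2 * j) * j2 = v * v1 * v2 * (j * j2) by group] at hfixP
      exact hjfix2 (by rw [← hZinv j hjZ]; exact (inv_eq_of_mul_eq_one_right (mul_eq_left.1 hfixP)).symm)
    · rw [show v * j * (v1 * j1) * v2 = v * (j * v1) * (j1 * v2) by group, ← cj _ hv1T, ← cj1 _ hv2T,
        show v * (v1 * j) * (v2 * j1) = v * v1 * (j * v2) * j1 by group, ← cj _ hv2T,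
        show v * v1 * (v2 * j) * j1 = v * v1 * v2 * (j * j1) by group] at hfixP
      exact hjfix (by rw [← hZinv j hjZ]; exact (inv_eq_of_mul_eq_one_right (mul_eq_left.1 hfixP)).symm)
    · rw [show v * j * (v1 * j1) * (v2 * j2) = v * (j * v1) * (j1 * v2) * j2 by group, ← cj _ hv1T, ← cj1 _ hv2T,
        show v * (v1 * j) * (v2 * j1) * j2 = v * v1 * (j * v2) * (j1 * j2) by group, ← cj _ hv2T,
        show v * v1 * (v2 * j) * (j1 * j2) = v * v1 * v2 * (j * j1 * j2) by group, hj3] at hfixP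
      exact D.i_ne (mul_eq_left.1 hfixP)
  -- contradiction
  have hvZ : v ∈ Z := ⟨hvT, by
    rw [hv, show g * w * g⁻¹ * (g * w * g⁻¹) = g * (w * w) * g⁻¹ by group, hwZ.2.1]; group, hvc⟩
  have hvE : v ∉ E := fun e => hwE ((mem_normalizer_iff.1 (zInv_normalized hgN) w).2 e)
  obtain ⟨e, he, hve⟩ : ∃ e, e ∈ E ∧ v = w * e := by
    refine ⟨w * v, ?_, by rw [← mul_assoc, hwZ.2.1, one_mul]⟩
    have hEZ' : (E.subgroupOf Z).index = 2 := by
      have h1 := (E.subgroupOf Z).card_mul_index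
      rw [Nat.card_congr (subgroupOfEquivOfLe hEZ).toEquiv, hE4, hZ8] at h1
      omega
    have h1 := mul_mem_iff_of_index_two hEZ' (a := ⟨w, hwZ⟩) (b := ⟨v, hvZ⟩)
    exact mem_subgroupOf.1 (h1.2 (iff_of_false (fun q => hwE (mem_subgroupOf.1 q)) fun q => hvE (mem_subgroupOf.1 q)))
  have hbv : b * v * b⁻¹ = v * k := by
    rw [hve, show b * (w * e) * b⁻¹ = b * w * b⁻¹ * (b * e * b⁻¹) by group, hkw, ((hEmem e).1 he).2,
      mul_assoc, hZc k (hEZ hkE) e (hEZ he), ← mul_assoc]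
  rcases hvT' b h.b_mem_S with q | q <;> rw [hbv] at q
  · exact hk1 (mul_eq_left.1 q)
  · exact hkj (mul_left_cancel q)

end Small

end CfsgLib.SelfCentralSix
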