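import Cfsg.Agent.Lib.SelfCentralSix.Tools

/-!
# An involution which is central modulo `i`
-/

set_option autoImplicit false
set_option linter.style.haveILetI false

namespace CfsgLib.SelfCentralSix

open Subgroup CfsgLib.SelfThree29

universe u

variable {G : Type u} [Group G]

namespace Ctx

variable [Finite G] (D : Ctx G)
include D

theorem x_fixed {P : Subgroup G} (hP : IsPGroup 2 P) (hx : D.x ∈ normalizer (P : Set G)) (hi : D.i ∈ P) :
    Nat.card P % 3 = 2 ∧ ∀ p ∈ P, p * D.x = D.x * p → p = 1 ∨ p = D.i := by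
  rcases D.fixed_cases hP D.ox hx with ⟨-, hf⟩ | ⟨hm, f, -, -, -, hf⟩
  · exact absurd (hf _ hi D.mul_comm_ix) D.i_ne
  · refine ⟨hm, fun p hp hc => ?_⟩
    have hif : D.i = f := (hf _ hi D.mul_comm_ix).resolve_left D.i_ne
    rw [hif]
    exact hf p hp hc

/-- A normal subgroup containing `i` properly has an element central modulo `i`, with square in `⟨i⟩`. -/
theorem exists_mod_central {P R : Subgroup G} (hP : IsPGroup 2 P) (hPC : P ≤ D.C) (hRP : R ≤ P)
    (hi : D.i ∈ R) (hnorm : ∀ p ∈ P, ∀ r ∈ R, p * r * p⁻¹ ∈ R) {w : G} (hw : w ∈ R) (hw1 : w ≠ 1)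
    (hwi : w ≠ D.i) :
    ∃ r ∈ R, r ≠ 1 ∧ r ≠ D.i ∧ (r * r = 1 ∨ r * r = D.i) ∧
      ∀ p ∈ P, p * r * p⁻¹ = r ∨ p * r * p⁻¹ = r * D.i := by
  classical
  set iP : P := ⟨D.i, hRP hi⟩ with hiP
  haveI : (zpowers iP).Normal := ⟨by
    rintro a ⟨k, rfl⟩ g
    refine ⟨k, Subtype.ext ?_⟩
    show (((iP ^ k : P) : G)) = (g : G) * ((iP ^ k : P) : G) * ((g⁻¹ : P) : G)
    rw [SubgroupClass.coe_zpow, InvMemClass.coe_inv]
    have h : (g : G) * (iP : G) = (iP : G) * g := D.mem_C.1 (hPC g.2)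
    rw [(Commute.zpow_right (show Commute (g : G) (iP : G) from h) k).eq, mul_inv_cancel_right]⟩
  set f := QuotientGroup.mk' (zpowers iP) with hf
  have hker : ∀ q : P, f q = 1 → (q : G) = 1 ∨ (q : G) = D.i := by
    intro q hq
    rw [hf, QuotientGroup.mk'_apply, QuotientGroup.eq_one_iff] at hq
    obtain ⟨k, hk⟩ := hq
    refine D.mem_zi_iff.1 ⟨k, ?_⟩
    have := congrArg Subtype.val hk
    simpa [hiP] using this
  set N := (R.subgroupOf P).map f with hN
  have hNne : N ≠ ⊥ := fun e => by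
    have h1 : f ⟨w, hRP hw⟩ ∈ N := ⟨_, mem_subgroupOf.2 hw, rfl⟩
    rw [e, mem_bot] at h1
    exact (hker _ h1).elim hw1 hwi
  have hnN : (⊤ : Subgroup (P ⧸ zpowers iP)) ≤ normalizer (N : Set (P ⧸ zpowers iP)) := by
    intro q _
    obtain ⟨p, rfl⟩ := QuotientGroup.mk'_surjective (zpowers iP) q
    refine Subgroup.mem_normalizer_fintype ?_
    rintro _ ⟨r, hr, rfl⟩
    refine ⟨p * r * p⁻¹, ?_, by rw [map_mul, map_mul, map_inv]⟩
    exact mem_subgroupOf.2 (hnorm p p.2 r (mem_subgroupOf.1 hr))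
  obtain ⟨_, ⟨r, hr, rfl⟩, hz, ho⟩ :=
    exists_zInv_mem ((hP.to_quotient _).of_equiv Subgroup.topEquiv.symm) le_top hNne hnN
  have hne : f r ≠ 1 := fun e => by rw [e, orderOf_one] at ho; omega
  refine ⟨r, mem_subgroupOf.1 hr, fun e => hne (by rw [show r = 1 from Subtype.ext e, map_one]),
    fun e => hne (by
      rw [show r = iP from Subtype.ext e, hf, QuotientGroup.mk'_apply, QuotientGroup.eq_one_iff]
      exact mem_zpowers _), ?_, fun p hp => ?_⟩
  · have h2 := hker (r * r) (by rw [map_mul]; exact hz.2.1)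
    simpa using h2
  · have h2 := hker (r⁻¹ * (⟨p, hp⟩ * r * ⟨p, hp⟩⁻¹)) (by
      rw [map_mul, map_mul, map_mul, hz.2.2 _ (mem_top _), map_inv, map_inv]
      group)
    rcases h2 with e | e
    · exact Or.inl (eq_of_inv_mul_eq_one e).symm
    · right
      rw [← e]
      simp [mul_assoc]

/-- If `x` normalizes `P` and `P` has a second involution, then some involution is central modulo `i`. -/
theorem singular {P : Subgroup G} (hP : IsPGroup 2 P) (hPC : P ≤ D.C) (hx : D.x ∈ normalizer (P : Set G))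
    (hi : D.i ∈ P) {f : G} (hf : f ∈ P) (hf2 : f * f = 1) (hf1 : f ≠ 1) (hfi : f ≠ D.i) :
    ∃ j ∈ P, j * j = 1 ∧ j ≠ 1 ∧ j ≠ D.i ∧ ∀ p ∈ P, p * j * p⁻¹ = j ∨ p * j * p⁻¹ = j * D.i := by
  by_contra hno
  push Not at hno
  have hsq : ∀ r ∈ P, r ≠ 1 → r ≠ D.i → (r * r = 1 ∨ r * r = D.i) →
      (∀ p ∈ P, p * r * p⁻¹ = r ∨ p * r * p⁻¹ = r * D.i) → r * r = D.i := by
    intro r hr h1 h2 h3 h4
    refine h3.resolve_left fun e => ?_
    obtain ⟨p, hp, hp1, hp2⟩ := hno r hr e h1 h2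
    exact (h4 p hp).elim hp1 hp2
  have hic : ∀ p ∈ P, p * D.i = D.i * p := fun p hp => D.mem_C.1 (hPC hp)
  obtain ⟨u, huP, hu1, hui, husq, huc⟩ :=
    D.exists_mod_central hP hPC le_rfl hi (fun p hp r hr => mul_mem (mul_mem hp hr) (inv_mem hp)) hf hf1 hfi
  have hu2 := hsq u huP hu1 hui husq huc
  have hxi : D.x * D.i * D.x⁻¹ = D.i := by rw [← D.mul_comm_ix, mul_inv_cancel_right]
  set v := D.x * u * D.x⁻¹ with hv
  have hvP : v ∈ P := (mem_normalizer_iff.1 hx u).1 huP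
  have hv2 : v * v = D.i := by
    rw [hv, show D.x * u * D.x⁻¹ * (D.x * u * D.x⁻¹) = D.x * (u * u) * D.x⁻¹ by group, hu2, hxi]
  have hvc : ∀ p ∈ P, p * v * p⁻¹ = v ∨ p * v * p⁻¹ = v * D.i := by
    intro p hp
    have hp' : D.x⁻¹ * p * D.x ∈ P := by
      have := (mem_normalizer_iff.1 (inv_mem hx) p).1 hp; rwa [inv_inv] at this
    have e : p * v * p⁻¹ = D.x * ((D.x⁻¹ * p * D.x) * u * (D.x⁻¹ * p * D.x)⁻¹) * D.x⁻¹ := by rw [hv]; group
    rcases huc _ hp' with e' | e' <;> rw [e, e']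
    · exact Or.inl rfl
    · right
      rw [show D.x * (u * D.i) * D.x⁻¹ = D.x * u * D.x⁻¹ * (D.x * D.i * D.x⁻¹) by group, hxi]
  have huinv : u⁻¹ = u * D.i := inv_eq_of_mul_eq_one_right (by rw [← mul_assoc, hu2, D.i_sq])
  have hvu : v ≠ u := fun e => by
    rcases (D.x_fixed hP hx hi).2 u huP (mul_inv_eq_iff_eq_mul.1 e).symm with h | h
    · exact hu1 h
    · exact hui h
  have hvui : v ≠ u * D.i := fun e => by
    have h := conj_triple D.x u D.x_pow
    have hm : ∀ w, D.x * (w * D.i) * D.x⁻¹ = D.x * w * D.x⁻¹ * D.i := fun w => by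
      rw [show D.x * (w * D.i) * D.x⁻¹ = D.x * w * D.x⁻¹ * (D.x * D.i * D.x⁻¹) by group, hxi]
    rw [← hv, e, hm, ← hv, e, mul_assoc u, D.i_sq, mul_one, ← hv, e] at h
    exact D.i_ne (mul_eq_left.1 h)
  -- the product
  have huv : v * u * v⁻¹ = u * D.i := by
    rcases huc v hvP with e | e
    · exfalso
      have e' : v * u = u * v := mul_inv_eq_iff_eq_mul.1 e
      have h1 : u * v * (u * v) = 1 := by
        rw [show u * v * (u * v) = u * (v * u) * v by group, e', show u * (u * v) * v = (u * u) * (v * v) by group,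
          hu2, hv2, D.i_sq]
      have hne1 : u * v ≠ 1 := fun e'' => hvui (by rw [← huinv]; exact (inv_eq_of_mul_eq_one_right e'').symm)
      have hnei : u * v ≠ D.i := fun e'' => hvu (by
        rw [show v = u⁻¹ * (u * v) by group, e'', huinv, mul_assoc, D.i_sq, mul_one])
      obtain ⟨p, hp, hp1, hp2⟩ := hno (u * v) (mul_mem huP hvP) h1 hne1 hnei
      have hm : p * (u * v) * p⁻¹ = p * u * p⁻¹ * (p * v * p⁻¹) := by group
      rcases huc p hp with a | a <;> rcases hvc p hp with c | c <;> rw [hm, a, c] at hp1 hp2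
      · exact hp1 rfl
      · exact hp2 (by group)
      · exact hp2 (by rw [mul_assoc u D.i v, ← hic v hvP, ← mul_assoc])
      · refine hp1 ?_
        rw [show u * D.i * (v * D.i) = u * (D.i * v) * D.i by group, ← hic v hvP,
          show u * (v * D.i) * D.i = u * v * (D.i * D.i) by group, D.i_sq, mul_one]
    · exact e
  have huvu : u * v * u⁻¹ = v * D.i := by
    calc u * v * u⁻¹ = (v * u * v⁻¹ * u⁻¹)⁻¹ * v := by group
      _ = (u * D.i * u⁻¹)⁻¹ * v := by rw [huv]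
      _ = v * D.i := by rw [hic u huP, mul_inv_cancel_right, D.i_inv, hic v hvP]
  set R := P ⊓ centralizer ({u, v} : Set G) with hR
  have hRmem : ∀ {r : G}, r ∈ R ↔ r ∈ P ∧ r * u = u * r ∧ r * v = v * r := fun {r} => by
    rw [hR, mem_inf, mem_centralizer_iff]
    refine and_congr_right fun _ => ⟨fun h => ⟨(h u (by simp)).symm, (h v (by simp)).symm⟩, ?_⟩
    rintro ⟨h1, h2⟩ w (rfl | rfl)
    exacts [h1.symm, h2.symm]
  have hRnorm : ∀ p ∈ P, ∀ r ∈ R, p * r * p⁻¹ ∈ R := by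
    intro p hp r hr
    obtain ⟨hrP, hru, hrv⟩ := hRmem.1 hr
    have hri : Commute r D.i := hic r hrP
    have key : ∀ w : G, r * w = w * r → (p⁻¹ * w * p = w ∨ p⁻¹ * w * p = w * D.i) →
        p * r * p⁻¹ * w = w * (p * r * p⁻¹) := by
      intro w hw hc
      have h1 : r * (p⁻¹ * w * p) = p⁻¹ * w * p * r := by
        rcases hc with e | e <;> rw [e]
        · exact hw
        · exact (Commute.mul_right (show Commute r w from hw) hri).eq
      have h2 := conj_comm (g := p) h1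
      rwa [show p * (p⁻¹ * w * p) * p⁻¹ = w by group] at h2
    refine hRmem.2 ⟨mul_mem (mul_mem hp hrP) (inv_mem hp), key u hru ?_, key v hrv ?_⟩
    · have := huc p⁻¹ (inv_mem hp); rwa [inv_inv] at this
    · have := hvc p⁻¹ (inv_mem hp); rwa [inv_inv] at this
  have hiR : D.i ∈ R := hRmem.2 ⟨hi, (hic u huP).symm, (hic v hvP).symm⟩
  have hRbot : ∀ r ∈ R, r = 1 ∨ r = D.i := by
    intro w hw
    by_contra hc
    push Not at hc
    obtain ⟨r, hr, hr1, hri, hrsq, hrc⟩ := D.exists_mod_central hP hPC inf_le_left hiR hRnorm hw hc.1 hc.2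
    obtain ⟨hrP, hru, hrv⟩ := hRmem.1 hr
    have hr2 := hsq r hrP hr1 hri hrsq hrc
    have hru2 : r * u * (r * u) = 1 := by
      rw [show r * u * (r * u) = r * (u * r) * u by group, ← hru,
        show r * (r * u) * u = r * r * (u * u) by group, hr2, hu2, D.i_sq]
    have hne : ∀ e : G, r * e = e * r → r ≠ u ∧ r ≠ u * D.i := by
      intro _ _
      constructor
      · rintro rfl
        rw [← hrv, mul_inv_cancel_right] at huv
        exact D.i_ne (mul_eq_left.1 huv.symm)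
      · rintro rfl
        have h2 : v * (u * D.i) * v⁻¹ = u * D.i := by rw [← hrv, mul_inv_cancel_right]
        rw [show v * (u * D.i) * v⁻¹ = v * u * v⁻¹ * (v * D.i * v⁻¹) by group, huv, D.conj_i (hPC hvP),
          mul_assoc, D.i_sq, mul_one] at h2
        exact D.i_ne (mul_eq_left.1 h2.symm)
    obtain ⟨hne1, hne2⟩ := hne v hrv
    have h1' : r * u ≠ 1 := fun e => hne2 (by rw [← huinv]; exact eq_inv_of_mul_eq_one_left e)
    have h2' : r * u ≠ D.i := fun e => hne1 (by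
      rw [show r = r * u * u⁻¹ by group, e, huinv, ← mul_assoc, ← hic u huP, mul_assoc, D.i_sq, mul_one])
    obtain ⟨p, hp, hp1, hp2⟩ := hno (r * u) (mul_mem hrP huP) hru2 h1' h2'
    have hm : p * (r * u) * p⁻¹ = p * r * p⁻¹ * (p * u * p⁻¹) := by group
    rcases hrc p hp with a | a <;> rcases huc p hp with c | c <;> rw [hm, a, c] at hp1 hp2
    · exact hp1 rfl
    · exact hp2 (by group)
    · exact hp2 (by rw [mul_assoc r D.i u, ← hic u huP, ← mul_assoc])
    · refine hp1 ?_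
      rw [show r * D.i * (u * D.i) = r * (D.i * u) * D.i by group, ← hic u huP,
        show r * (u * D.i) * D.i = r * u * (D.i * D.i) by group, D.i_sq, mul_one]
  -- a representative of the coset of `f`
  have hcomm : ∀ {a b c : G}, a * b * a⁻¹ = c → c * a = a * b := fun e => by rw [← e]; group
  have hvu2 : v * u * (v * u) = D.i := by
    calc v * u * (v * u) = (v * u * v⁻¹) * (v * v) * u := by group
      _ = u * (D.i * D.i) * u := by rw [huv, hv2]; group
      _ = D.i := by rw [D.i_sq, mul_one, hu2]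
  obtain ⟨w, hwP, hw, hwu, hwv⟩ : ∃ w, w ∈ P ∧ (w = 1 ∨ w * w = D.i) ∧
      f * w * u = u * (f * w) ∧ f * w * v = v * (f * w) := by
    have hfi' : f * D.i * f⁻¹ = D.i := D.conj_i (hPC hf)
    have conjfw : ∀ w a : G, f * (w * a * w⁻¹) * f⁻¹ = f * w * a * (f * w)⁻¹ := fun w a => by group
    have hmi : ∀ a, f * (a * D.i) * f⁻¹ = f * a * f⁻¹ * D.i := fun a => by
      rw [show f * (a * D.i) * f⁻¹ = f * a * f⁻¹ * (f * D.i * f⁻¹) by group, hfi']
    have hfin : ∀ w, f * (w * u * w⁻¹) * f⁻¹ = u → f * (w * v * w⁻¹) * f⁻¹ = v →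
        f * w * u = u * (f * w) ∧ f * w * v = v * (f * w) := fun w e1 e2 =>
      ⟨(hcomm (conjfw w u ▸ e1)).symm, (hcomm (conjfw w v ▸ e2)).symm⟩
    rcases huc f hf with a | a <;> rcases hvc f hf with c | c
    · exact ⟨1, one_mem P, Or.inl rfl, hfin 1 (by simpa using a) (by simpa using c)⟩
    · refine ⟨u, huP, Or.inr hu2, hfin u ?_ ?_⟩
      · rw [mul_inv_cancel_right, a]
      · rw [huvu, hmi, c, mul_assoc, D.i_sq, mul_one]
    · refine ⟨v, hvP, Or.inr hv2, hfin v ?_ ?_⟩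
      · rw [huv, hmi, a, mul_assoc, D.i_sq, mul_one]
      · rw [mul_inv_cancel_right, c]
    · refine ⟨v * u, mul_mem hvP huP, Or.inr hvu2, hfin _ ?_ ?_⟩
      · rw [show v * u * u * (v * u)⁻¹ = v * u * v⁻¹ by group, huv, hmi, a, mul_assoc, D.i_sq, mul_one]
      · rw [show v * u * v * (v * u)⁻¹ = v * (u * v * u⁻¹) * v⁻¹ by group, huvu,
          show v * (v * D.i) * v⁻¹ = v * v * (D.i * v⁻¹) by group, ← hic v⁻¹ (inv_mem hvP),
          show v * v * (v⁻¹ * D.i) = v * D.i by group, hmi, c, mul_assoc, D.i_sq, mul_one]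
  have hR' := hRbot _ (hRmem.2 ⟨mul_mem hf hwP, hwu, hwv⟩)
  rcases hw with rfl | hw
  · rw [mul_one] at hR'
    exact hR'.elim hf1 hfi
  · rcases hR' with e | e
    · refine D.i_ne ?_
      rw [← hw, ← inv_eq_of_mul_eq_one_right e, ← mul_inv_rev, hf2, inv_one]
    · refine D.i_ne ?_
      have e' : w = f * D.i := by rw [← e, ← mul_assoc, hf2, one_mul]
      rw [← hw, e', show f * D.i * (f * D.i) = f * (D.i * f) * D.i by group, ← hic f hf,
        show f * (f * D.i) * D.i = f * f * (D.i * D.i) by group, hf2, D.i_sq, one_mul]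

end Ctx

end CfsgLib.SelfCentralSix
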