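import Cfsg.Agent.Lib.SelfCentralSix.Dec
import Cfsg.Agent.Lib.SelfCentralSix.Singular
import Cfsg.Agent.Lib.Involutions.StronglyEmbedded
import Cfsg.Agent.Lib.Involutions.Basic
import Cfsg.Agent.S1221

/-!
# A second involution in `T` kills `O(C)`
-/

set_option autoImplicit false
set_option linter.style.haveILetI false

namespace CfsgLib.SelfCentralSix

open Subgroup CfsgLib.SelfThree29

universe u

variable {G : Type u} [Group G]

namespace Ctx

variable [Finite G] (D : Ctx G)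
include D

/-- An involution of `T` central modulo `i` and fixed by the inverter modulo `i`. -/
theorem singular_inverter {T : Subgroup G} (hT : IsPGroup 2 T) (hTC : T ≤ D.C)
    (hnT : ∀ c ∈ D.C, ∀ t ∈ T, c * t * c⁻¹ ∈ T) (hi : D.i ∈ T) {b : G} (hbC : b ∈ D.C)
    (hb : b * D.x * b⁻¹ = D.x⁻¹) (hb2 : b * b = 1 ∨ b * b = D.i)
    {f : G} (hf : f ∈ T) (hf2 : f * f = 1) (hf1 : f ≠ 1) (hfi : f ≠ D.i) :
    ∃ j ∈ T, j * j = 1 ∧ j ≠ 1 ∧ j ≠ D.i ∧ (∀ t ∈ T, t * j * t⁻¹ = j ∨ t * j * t⁻¹ = j * D.i) ∧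
      (b * j * b⁻¹ = j ∨ b * j * b⁻¹ = j * D.i) := by
  classical
  have hx : D.x ∈ normalizer (T : Set G) :=
    Subgroup.mem_normalizer_fintype fun t ht => hnT _ D.x_mem t ht
  obtain ⟨j0, hj0T, hj02, hj01, hj0i, hj0c⟩ := D.singular hT hTC hx hi hf hf2 hf1 hfi
  by_contra hno
  push Not at hno
  let m : D.C → D.C ⧸ zpowers D.iC := QuotientGroup.mk' (zpowers D.iC)
  have mk : ∀ {a c : D.C}, m a = m c ↔ (c : G) = a ∨ (c : G) = a * D.i := fun {a c} => D.mk_eq_iff
  set bC : D.C := ⟨b, hbC⟩ with hbCdef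
  -- the vectors
  let Good : D.C → Prop := fun a => (a : G) ∈ T ∧ ∀ t : D.C, (t : G) ∈ T → m t * m a = m a * m t
  have good_iff : ∀ a : D.C, Good a → ∀ t ∈ T, t * (a : G) * t⁻¹ = a ∨ t * (a : G) * t⁻¹ = a * D.i := by
    intro a ha t ht
    have h := ha.2 ⟨t, hTC ht⟩ ht
    rcases mk.1 (show m a = m (⟨t, hTC ht⟩ * a * ⟨t, hTC ht⟩⁻¹) by
      rw [show m (⟨t, hTC ht⟩ * a * ⟨t, hTC ht⟩⁻¹) = m ⟨t, hTC ht⟩ * m a * (m ⟨t, hTC ht⟩)⁻¹ by
        simp [m], h, mul_inv_cancel_right]) with e | e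
    · exact Or.inl e
    · exact Or.inr e
  have good_conj : ∀ c a : D.C, Good a → Good (c * a * c⁻¹) := by
    intro c a ha
    refine ⟨hnT c c.2 a ha.1, fun t ht => ?_⟩
    have h := ha.2 (c⁻¹ * t * c) (by simpa using hnT _ (inv_mem c.2) t ht)
    have h' := conj_comm (g := m c) h
    simpa [m, mul_assoc] using h'
  have good_mul : ∀ a c : D.C, Good a → Good c → Good (a * c) := by
    intro a c ha hc
    refine ⟨mul_mem ha.1 hc.1, fun t ht => ?_⟩
    rw [show m (a * c) = m a * m c from map_mul _ a c, ← mul_assoc, ha.2 t ht, mul_assoc, hc.2 t ht, mul_assoc]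
  set a0 : D.C := ⟨j0, hTC hj0T⟩ with ha0
  have hgood0 : Good a0 := by
    refine ⟨hj0T, fun t ht => ?_⟩
    have h2 : m a0 = m (t * a0 * t⁻¹) := mk.2 (hj0c t ht)
    conv_rhs => rw [h2]
    simp [m]
  set xC := D.xC with hxC
  set a1 := xC * a0 * xC⁻¹ with ha1
  set a2 := xC * a1 * xC⁻¹ with ha2
  have hgood1 : Good a1 := good_conj _ _ hgood0
  have hgood2 : Good a2 := good_conj _ _ hgood1
  have hxi : D.x * D.i * D.x⁻¹ = D.i := by rw [← D.mul_comm_ix, mul_inv_cancel_right]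
  have hxC' : ∀ a : D.C, ((xC * a * xC⁻¹ : D.C) : G) = D.x * a * D.x⁻¹ := fun a => rfl
  have hinv : ∀ a : D.C, (a : G) * a = 1 → (a : G) ≠ 1 → (a : G) ≠ D.i →
      ((xC * a * xC⁻¹ : D.C) : G) * (xC * a * xC⁻¹ : D.C) = 1 ∧
        ((xC * a * xC⁻¹ : D.C) : G) ≠ 1 ∧ ((xC * a * xC⁻¹ : D.C) : G) ≠ D.i := by
    intro a h1 h2 h3
    rw [hxC']
    refine ⟨?_, fun e => h2 (conj_eq_one_iff.1 e), fun e => h3 ?_⟩
    · rw [show D.x * (a : G) * D.x⁻¹ * (D.x * a * D.x⁻¹) = D.x * (a * a) * D.x⁻¹ by group, h1]; group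
    · exact (MulAut.conj D.x).injective (show D.x * (a : G) * D.x⁻¹ = D.x * D.i * D.x⁻¹ by rw [e, hxi])
  obtain ⟨h11, h12, h13⟩ := hinv a0 hj02 hj01 hj0i
  obtain ⟨h21, h22, h23⟩ := hinv a1 h11 h12 h13
  -- the fixed vectors
  have hv : ∀ a : D.C, Good a → (a : G) * a = 1 → (a : G) ≠ 1 → (a : G) ≠ D.i →
      Good (a * (bC * a * bC⁻¹)) ∧
        ((a * (bC * a * bC⁻¹) : D.C) : G) * (a * (bC * a * bC⁻¹) : D.C) = D.i ∧
        m bC * m (a * (bC * a * bC⁻¹)) = m (a * (bC * a * bC⁻¹)) * m bC := by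
    intro a ha h1 h2 h3
    set a' := bC * a * bC⁻¹ with ha'
    have hg' : Good a' := good_conj _ _ ha
    have hgv := good_mul _ _ ha hg'
    obtain ⟨hn1, hn2⟩ := hno (a : G) ha.1 h1 h2 h3 (good_iff a ha)
    have hbb : m bC * m bC = 1 := by
      rw [show m bC * m bC = m (bC * bC) from (map_mul _ _ _).symm, show (1 : D.C ⧸ zpowers D.iC) = m 1 from
        (map_one (QuotientGroup.mk' (zpowers D.iC))).symm]
      refine (mk (a := 1) (c := bC * bC)).2 ?_ |>.symm
      rcases hb2 with e | e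
      · exact Or.inl e
      · exact Or.inr (by rw [OneMemClass.coe_one, one_mul]; exact e)
    have hbinv : (m bC)⁻¹ = m bC := inv_eq_of_mul_eq_one_right hbb
    have hma' : m a' = m bC * m a * m bC := by
      conv_rhs => arg 2; rw [← hbinv]
      simp [ha', m]
    have hcomm : m bC * m (a * a') = m (a * a') * m bC := by
      have h5 : m a' * m a = m a * m a' := ha.2 a' hg'.1
      rw [show m (a * a') = m a * m a' from map_mul _ a a']
      calc m bC * (m a * m a') = (m bC * m a * m bC) * (m bC * m a') := by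
            rw [show m bC * m a * m bC * (m bC * m a') = m bC * m a * (m bC * m bC) * m a' by group, hbb,
              mul_one, mul_assoc]
        _ = m a' * (m a * m bC) := by
            rw [← hma']
            congr 1
            rw [hma', show m bC * (m bC * m a * m bC) = (m bC * m bC) * (m a * m bC) by group, hbb, one_mul]
        _ = (m a * m a') * m bC := by rw [← mul_assoc, h5]
    refine ⟨hgv, ?_, hcomm⟩
    have hbfix : b * ((a * a' : D.C) : G) * b⁻¹ = (a * a' : D.C) ∨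
        b * ((a * a' : D.C) : G) * b⁻¹ = (a * a' : D.C) * D.i := by
      have h6 : m (a * a') = m (bC * (a * a') * bC⁻¹) := by
        rw [show m (bC * (a * a') * bC⁻¹) = m bC * m (a * a') * (m bC)⁻¹ by simp [m], hcomm, mul_inv_cancel_right]
      exact mk.1 h6
    by_cases hsq : ((a * a' : D.C) : G) * (a * a' : D.C) = 1
    · exfalso
      have hne : ((a * a' : D.C) : G) ≠ 1 ∧ ((a * a' : D.C) : G) ≠ D.i := by
        have hainv : (a : G)⁻¹ = a := inv_eq_of_mul_eq_one_right h1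
        constructor <;> intro e <;> rw [Subgroup.coe_mul] at e
        · refine hn1 ?_
          have e2 : (a' : G) = a := by rw [← hainv]; exact (inv_eq_of_mul_eq_one_right e).symm
          exact e2
        · refine hn2 ?_
          have e2 : (a' : G) = a * D.i := by rw [← e, ← mul_assoc, h1, one_mul]
          exact e2
      obtain ⟨hm1, hm2⟩ := hno _ hgv.1 hsq hne.1 hne.2 (good_iff _ hgv)
      exact hbfix.elim hm1 hm2
    · rcases good_iff a' hg' (a : G) ha.1 with e | e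
      · refine absurd ?_ hsq
        have e' : (a : G) * a' = a' * a := mul_inv_eq_iff_eq_mul.1 e
        have h8 : (a' : G) * a' = 1 := by
          show b * (a : G) * b⁻¹ * (b * a * b⁻¹) = 1
          rw [show b * (a : G) * b⁻¹ * (b * a * b⁻¹) = b * (a * a) * b⁻¹ by group, h1]; group
        rw [Subgroup.coe_mul, show (a : G) * a' * (a * a') = a * (a' * a) * a' by group, ← e',
          show (a : G) * (a * a') * a' = (a * a) * (a' * a') by group, h1, h8, one_mul]
      · have h8 : (a' : G) * a' = 1 := by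
          show b * (a : G) * b⁻¹ * (b * a * b⁻¹) = 1
          rw [show b * (a : G) * b⁻¹ * (b * a * b⁻¹) = b * (a * a) * b⁻¹ by group, h1]; group
        have hainv : (a : G)⁻¹ = a := inv_eq_of_mul_eq_one_right h1
        rw [hainv] at e
        rw [Subgroup.coe_mul, show (a : G) * a' * (a * a') = (a * a' * a) * a' by group, e, mul_assoc,
          ← D.mem_C.1 a'.2, ← mul_assoc, h8, one_mul]
  obtain ⟨hV0, hq0, hc0⟩ := hv a0 hgood0 hj02 hj01 hj0i
  obtain ⟨hV1, hq1, hc1⟩ := hv a1 hgood1 h11 h12 h13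
  obtain ⟨hV2, hq2, -⟩ := hv a2 hgood2 h21 h22 h23
  set v0 := a0 * (bC * a0 * bC⁻¹) with hv0
  set v1 := a1 * (bC * a1 * bC⁻¹) with hv1
  set v2 := a2 * (bC * a2 * bC⁻¹) with hv2
  -- the three products
  have hfixT := D.x_fixed hT hx hi
  have hzc : ∀ t ∈ T, t * D.i = D.i * t := fun t ht => D.mem_C.1 (hTC ht)
  have hsum : m a0 * m a1 * m a2 = 1 := by
    have h := (three_mod hx D.x_pow hi D.i_sq hzc D.mul_comm_ix hfixT.2 hj0T).1
    rw [show m a0 * m a1 * m a2 = m (a0 * a1 * a2) by simp [m],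
      show (1 : D.C ⧸ zpowers D.iC) = m 1 from (map_one (QuotientGroup.mk' (zpowers D.iC))).symm]
    refine (mk (a := 1) (c := a0 * a1 * a2)).2 ?_ |>.symm
    rcases h with e | e
    · exact Or.inl e
    · exact Or.inr (by rw [OneMemClass.coe_one, one_mul]; exact e)
  have hsum' : m (v0 * v1 * v2) = 1 := by
    have hg0' := (good_conj bC _ hgood0)
    have hg1' := (good_conj bC _ hgood1)
    have c1 : m (bC * a0 * bC⁻¹) * m a1 = m a1 * m (bC * a0 * bC⁻¹) := hgood1.2 _ hg0'.1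
    have c2 : m (bC * a0 * bC⁻¹) * m a2 = m a2 * m (bC * a0 * bC⁻¹) := hgood2.2 _ hg0'.1
    have c3 : m (bC * a1 * bC⁻¹) * m a2 = m a2 * m (bC * a1 * bC⁻¹) := hgood2.2 _ hg1'.1
    have hs' : m (bC * a0 * bC⁻¹) * m (bC * a1 * bC⁻¹) * m (bC * a2 * bC⁻¹) = 1 := by
      rw [show m (bC * a0 * bC⁻¹) * m (bC * a1 * bC⁻¹) * m (bC * a2 * bC⁻¹) =
        m bC * (m a0 * m a1 * m a2) * (m bC)⁻¹ by simp [m, mul_assoc], hsum, mul_one, mul_inv_cancel]
    rw [hv0, hv1, hv2, show m (a0 * (bC * a0 * bC⁻¹) * (a1 * (bC * a1 * bC⁻¹)) * (a2 * (bC * a2 * bC⁻¹))) =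
      m a0 * (m (bC * a0 * bC⁻¹) * m a1) * (m (bC * a1 * bC⁻¹) * m a2) * m (bC * a2 * bC⁻¹) by
        simp [m, mul_assoc], c1, c3,
      show m a0 * (m a1 * m (bC * a0 * bC⁻¹)) * (m a2 * m (bC * a1 * bC⁻¹)) * m (bC * a2 * bC⁻¹) =
        m a0 * m a1 * (m (bC * a0 * bC⁻¹) * m a2) * m (bC * a1 * bC⁻¹) * m (bC * a2 * bC⁻¹) by group, c2,
      show m a0 * m a1 * (m a2 * m (bC * a0 * bC⁻¹)) * m (bC * a1 * bC⁻¹) * m (bC * a2 * bC⁻¹) =
        (m a0 * m a1 * m a2) * (m (bC * a0 * bC⁻¹) * m (bC * a1 * bC⁻¹) * m (bC * a2 * bC⁻¹)) by group,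
      hsum, hs', one_mul]
  -- the first two commute
  have hiso : (v0 : G) * v1 = v1 * v0 := by
    set w1 := xC * v1 * xC⁻¹ with hw1
    set w2 := xC * w1 * xC⁻¹ with hw2
    have hgw1 : Good w1 := good_conj _ _ hV1
    have hgw2 : Good w2 := good_conj _ _ hgw1
    have hz := (three_mod hx D.x_pow hi D.i_sq hzc D.mul_comm_ix hfixT.2 hV1.1).1
    have hswap : m bC * m w1 * (m bC)⁻¹ = m w2 := by
      have hbx : bC * xC * bC⁻¹ = xC⁻¹ := Subtype.ext hb
      have hx3 : xC ^ 3 = 1 := Subtype.ext D.x_pow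
      have hxx : xC⁻¹ = xC * xC := inv_eq_of_mul_eq_one_right (by rw [← mul_assoc, ← pow_three', hx3])
      rw [show m bC * m w1 * (m bC)⁻¹ = m (bC * xC * bC⁻¹) * (m bC * m v1 * (m bC)⁻¹) * (m (bC * xC * bC⁻¹))⁻¹ by
        simp [hw1, m, mul_assoc], hc1, mul_inv_cancel_right, hbx, hxx]
      simp [hw2, hw1, m, mul_assoc]
    -- the commutation with `v0` of the three translates
    set P := fun w : G => (v0 : G) * w * (v0 : G)⁻¹ = w with hP
    have hdich : ∀ w : D.C, Good w → P w ∨ (v0 : G) * w * (v0 : G)⁻¹ = w * D.i := fun w hw =>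
      good_iff w hw _ hV0.1
    have htr : P w1 → P w2 := by
      intro h1
      have e0 : m v0 = m (bC * v0 * bC⁻¹) := by
        rw [show m (bC * v0 * bC⁻¹) = m bC * m v0 * (m bC)⁻¹ by simp [m], hc0, mul_inv_cancel_right]
      have e2 : m w2 = m (bC * w1 * bC⁻¹) := by rw [← hswap]; simp [m]
      have h1' : Commute (bC * v0 * bC⁻¹ : D.C) (bC * w1 * bC⁻¹) :=
        conj_comm (Subtype.ext (mul_inv_eq_iff_eq_mul.1 h1))
      have h1'' : Commute ((bC * v0 * bC⁻¹ : D.C) : G) ((bC * w1 * bC⁻¹ : D.C) : G) :=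
        congrArg Subtype.val h1'.eq
      have hci : ∀ c : D.C, Commute (c : G) D.i := fun c => D.mem_C.1 c.2
      have hcI : ∀ c : D.C, ∀ z : G, (z = c ∨ z = (c : G) * D.i) → ∀ w : G, Commute z w → Commute w D.i →
          Commute (c : G) w := by
        intro c z hz w hzw hwi
        rcases hz with rfl | rfl
        · exact hzw
        · have h9 : Commute ((c : G) * D.i * D.i⁻¹) w := Commute.mul_left hzw (Commute.inv_left hwi.symm)
          rwa [mul_inv_cancel_right] at h9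
      have h2 := hcI v0 _ (mk.1 e0) _ h1'' (hci _)
      have h3 := hcI w2 _ (mk.1 e2) _ h2.symm (hci _)
      exact mul_inv_eq_iff_eq_mul.2 h3.symm.eq
    have hmul3 : ∀ a c e : G, (v0 : G) * (a * c * e) * (v0 : G)⁻¹ =
        (v0 : G) * a * (v0 : G)⁻¹ * ((v0 : G) * c * (v0 : G)⁻¹) * ((v0 : G) * e * (v0 : G)⁻¹) := fun a c e => by group
    have hzfix : (v0 : G) * ((v1 : G) * w1 * w2) * (v0 : G)⁻¹ = (v1 : G) * w1 * w2 := by
      rcases hz with e | e
      · rw [show (v1 : G) * w1 * w2 = 1 from e]; group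
      · rw [show (v1 : G) * w1 * w2 = D.i from e]; exact D.conj_i v0.2
    rw [hmul3] at hzfix
    have hi0 : ∀ c : D.C, (c : G) * D.i = D.i * c := fun c => D.mem_C.1 c.2
    refine mul_inv_eq_iff_eq_mul.1 ?_
    rcases hdich v1 hV1 with e | e
    · exact e
    exfalso
    rcases hdich w1 hgw1 with e1 | e1
    · rw [e, e1, htr e1, show (v1 : G) * D.i * w1 * w2 = v1 * (D.i * w1) * w2 by group, ← hi0 w1,
        show (v1 : G) * (w1 * D.i) * w2 = v1 * w1 * (D.i * w2) by group, ← hi0 w2,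
        show (v1 : G) * w1 * (w2 * D.i) = v1 * w1 * w2 * D.i by group] at hzfix
      exact D.i_ne (mul_eq_left.1 hzfix)
    · rcases hdich w2 hgw2 with e2 | e2
      · -- apply the inverter backwards
        have h' : (v0 : G) * w1 * (v0 : G)⁻¹ = w1 := by
          rcases good_iff w1 hgw1 _ hV0.1 with q | q
          · exact q
          · exfalso
            have e0 : m v0 = m (bC⁻¹ * v0 * bC) := by
              rw [show m (bC⁻¹ * v0 * bC) = (m bC)⁻¹ * (m v0 * m bC) by simp [m, mul_assoc], ← hc0,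
                inv_mul_cancel_left]
            have e3 : m w1 = m (bC⁻¹ * w2 * bC) := by
              rw [show m (bC⁻¹ * w2 * bC) = (m bC)⁻¹ * m w2 * m bC by simp [m], ← hswap]
              group
            have h2' : ((bC⁻¹ * v0 * bC : D.C) : G) * (bC⁻¹ * w2 * bC : D.C) =
                ((bC⁻¹ * w2 * bC : D.C) : G) * (bC⁻¹ * v0 * bC : D.C) := by
              have := conj_comm (g := b⁻¹) (mul_inv_eq_iff_eq_mul.1 e2)
              simpa [hbCdef, mul_assoc] using this
            have key : ∀ z w z' w' : G, (z' = z ∨ z' = z * D.i) → (w' = w ∨ w' = w * D.i) →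
                Commute z' w' → Commute z D.i → Commute w D.i → Commute z w := by
              intro z w z' w' hz' hw' hc hz hw
              have h10 : Commute z w' := by
                rcases hz' with rfl | rfl
                · exact hc
                · have hw'i : Commute w' D.i := by
                    rcases hw' with rfl | rfl
                    · exact hw
                    · exact hw.mul_left (Commute.refl _)
                  have h9 : Commute (z * D.i * D.i⁻¹) w' := Commute.mul_left hc (Commute.inv_left hw'i.symm)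
                  rwa [mul_inv_cancel_right] at h9
              rcases hw' with rfl | rfl
              · exact h10
              · have h9 : Commute z (w * D.i * D.i⁻¹) := Commute.mul_right h10 hz.inv_right
                rwa [mul_inv_cancel_right] at h9
            have hcc := key _ _ _ _ (mk.1 e0) (mk.1 e3) h2' (hi0 v0) (hi0 w1)
            rw [mul_inv_eq_iff_eq_mul.2 hcc.eq] at q
            exact D.i_ne (mul_eq_left.1 q.symm)
        rw [h'] at e1
        exact D.i_ne (mul_eq_left.1 e1.symm)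
      · rw [e, e1, e2, show (v1 : G) * D.i * ((w1 : G) * D.i) * ((w2 : G) * D.i) =
          v1 * (D.i * w1) * (D.i * w2) * D.i by group, ← hi0 w1, ← hi0 w2,
          show (v1 : G) * (w1 * D.i) * (w2 * D.i) * D.i = v1 * w1 * (D.i * w2) * (D.i * D.i) by group, ← hi0 w2,
          D.i_sq, mul_one, ← mul_assoc] at hzfix
        exact D.i_ne (mul_eq_left.1 hzfix)
  -- conclusion
  have hc01 : (v0 : G) * v1 * ((v0 : G) * v1) = 1 := by
    rw [show (v0 : G) * v1 * ((v0 : G) * v1) = v0 * (v1 * v0) * v1 by group, ← hiso,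
      show (v0 : G) * ((v0 : G) * v1) * v1 = (v0 * v0) * (v1 * v1) by group, hq0, hq1, D.i_sq]
  have hu : ((v0 * v1 * v2 : D.C) : G) = 1 ∨ ((v0 * v1 * v2 : D.C) : G) = D.i := by
    rcases mk.1 (show m 1 = m (v0 * v1 * v2) by rw [hsum']; exact map_one (QuotientGroup.mk' (zpowers D.iC))) with e | e
    · exact Or.inl e
    · exact Or.inr (by rwa [OneMemClass.coe_one, one_mul] at e)
  have hinv01 : ((v0 : G) * v1)⁻¹ = v0 * v1 := inv_eq_of_mul_eq_one_right hc01
  rw [Subgroup.coe_mul, Subgroup.coe_mul] at hu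
  have hv2eq : (v2 : G) = ((v0 : G) * v1) ∨ (v2 : G) = (v0 : G) * v1 * D.i := by
    rcases hu with e | e
    · exact Or.inl (by rw [← hinv01]; exact (inv_eq_of_mul_eq_one_right e).symm)
    · exact Or.inr (by rw [← e, ← mul_assoc, hc01, one_mul])
  apply D.i_ne
  rw [← hq2]
  rcases hv2eq with e | e <;> rw [e]
  · exact hc01
  · rw [show (v0 : G) * v1 * D.i * ((v0 : G) * v1 * D.i) = (v0 : G) * v1 * (D.i * ((v0 : G) * v1)) * D.i by group,
      ← D.mem_C.1 (mul_mem v0.2 v1.2), show (v0 : G) * v1 * ((v0 : G) * v1 * D.i) * D.i =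
        (v0 : G) * v1 * ((v0 : G) * v1) * (D.i * D.i) by group, hc01, D.i_sq, one_mul]

/-- A second involution in `T` kills `O`. -/
theorem O_eq_bot {T O : Subgroup G} (h : Dec D T O) {f : G} (hf : f ∈ T) (hf2 : f * f = 1)
    (hf1 : f ≠ 1) (hfi : f ≠ D.i) : O = ⊥ := by
  classical
  by_contra hOne
  haveI : Fact (Nat.Prime 2) := ⟨Nat.prime_two⟩
  haveI := D.simple
  set H := normalizer (O : Set G) with hH
  have hCH : D.C ≤ H := fun c hc => Subgroup.mem_normalizer_fintype fun o ho => h.O_conj c hc o ho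
  -- involutions of `T`
  have hA : ∀ w : G, w * D.i * w⁻¹ ∈ T → w ∈ H := by
    intro w hw
    have key : ∀ o ∈ O, w⁻¹ * o * w⁻¹⁻¹ ∈ O := by
      intro o ho
      rw [inv_inv]
      refine h.mem_O _ (D.mem_C.2 ?_) ?_
      · have h1 := conj_comm (g := w⁻¹) (h.comm _ hw o ho).symm
        simp only [inv_inv] at h1
        rwa [show w⁻¹ * (w * D.i * w⁻¹) * w = D.i by group] at h1
      · have h2 := orderOf_cj w⁻¹ o
        rw [inv_inv] at h2
        rw [h2]; exact h.coprime o ho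
    exact inv_mem_iff.1 (Subgroup.mem_normalizer_fintype key)
  -- the Sylow subgroup and its involutions
  have hS : ∃ S : Sylow 2 G, (S : Subgroup G) ≤ D.C ∧
      ∀ a ∈ (S : Subgroup G), orderOf a = 2 → ∀ w : G, w * D.i * w⁻¹ = a → w ∈ H := by
    rcases h.card with hc | ⟨hc, b, hbC, hb, hb2⟩
    · obtain ⟨S, hS⟩ := D.exists_sylow_three h hc
      refine ⟨S, hS ▸ h.T_le, fun a ha _ w hw => hA w ?_⟩
      rw [hw, ← hS]; exact ha
    obtain ⟨S, hSC, hTS, -, hcov, -⟩ := D.exists_sylow_six h hbC hb hb2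
    refine ⟨S, hSC, fun a ha hao w hw => ?_⟩
    rcases hcov a ha with haT | hat
    · exact hA w (by rw [hw]; exact haT)
    obtain ⟨j, hjT, hj2, hj1, hji, hjc, hjb⟩ :=
      D.singular_inverter h.two h.T_le h.T_conj h.i_mem hbC hb hb2 hf hf2 hf1 hfi
    set t := a * b⁻¹ with ht
    have hat' : a = t * b := by rw [ht, inv_mul_cancel_right]
    have hiT : ∀ s ∈ T, s * D.i * s⁻¹ = D.i := fun s hs => D.conj_i (h.T_le hs)
    have ha2 : a * a = 1 := by rw [← sq, ← hao, pow_orderOf_eq_one]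
    -- `a` centralizes `j`
    have haj : a * j * a⁻¹ = j := by
      have hdi : a * j * a⁻¹ = j ∨ a * j * a⁻¹ = j * D.i := by
        rw [hat', show t * b * j * (t * b)⁻¹ = t * (b * j * b⁻¹) * t⁻¹ by group]
        rcases hjb with e | e <;> rw [e]
        · exact hjc t hat
        · rcases hjc t hat with q | q
          · right
            rw [show t * (j * D.i) * t⁻¹ = t * j * t⁻¹ * (t * D.i * t⁻¹) by group, q, hiT t hat]
          · left
            rw [show t * (j * D.i) * t⁻¹ = t * j * t⁻¹ * (t * D.i * t⁻¹) by group, q, hiT t hat, mul_assoc,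
              D.i_sq, mul_one]
      refine hdi.resolve_right fun haji => ?_
      set j1 := D.x * j * D.x⁻¹ with hj1d
      set j2 := D.x * j1 * D.x⁻¹ with hj2d
      have hxT : D.x ∈ normalizer (T : Set G) := D.x_mem_normalizer h D.x_mem
      have hxi : D.x * D.i * D.x⁻¹ = D.i := by rw [← D.mul_comm_ix, mul_inv_cancel_right]
      have hj2T : j2 ∈ T := (mem_normalizer_iff.1 hxT _).1 ((mem_normalizer_iff.1 hxT _).1 hjT)
      have hxinv : D.x⁻¹ = D.x * D.x := inv_eq_of_mul_eq_one_right (by rw [← mul_assoc, ← pow_three', D.x_pow])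
      have hj2' : D.x⁻¹ * j * D.x⁻¹⁻¹ = j2 := by
        conv_lhs => rw [← conj_triple D.x j D.x_pow, ← hj1d, ← hj2d]
        group
      have hxi' : D.x⁻¹ * D.i * D.x⁻¹⁻¹ = D.i := D.conj_i (inv_mem D.x_mem)
      -- the image of `j1`
      have hb1 : b * j1 * b⁻¹ = j2 ∨ b * j1 * b⁻¹ = j2 * D.i := by
        have e0 : b * j1 * b⁻¹ = (b * D.x * b⁻¹) * (b * j * b⁻¹) * (b * D.x * b⁻¹)⁻¹ := by rw [hj1d]; group
        rw [e0, hb]
        rcases hjb with e | e <;> rw [e]
        · exact Or.inl hj2'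
        · right
          rw [show D.x⁻¹ * (j * D.i) * D.x⁻¹⁻¹ = D.x⁻¹ * j * D.x⁻¹⁻¹ * (D.x⁻¹ * D.i * D.x⁻¹⁻¹) by group, hj2', hxi']
      have hj2c : ∀ s ∈ T, s * j2 * s⁻¹ = j2 ∨ s * j2 * s⁻¹ = j2 * D.i := by
        intro s hs
        have hs' : D.x * s * D.x⁻¹ ∈ T := h.T_conj _ D.x_mem s hs
        rw [show s * j2 * s⁻¹ = D.x⁻¹ * ((D.x * s * D.x⁻¹) * j * (D.x * s * D.x⁻¹)⁻¹) * D.x⁻¹⁻¹ by
          rw [← hj2']; group]
        rcases hjc _ hs' with e | e <;> rw [e]
        · exact Or.inl hj2'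
        · right
          rw [show D.x⁻¹ * (j * D.i) * D.x⁻¹⁻¹ = D.x⁻¹ * j * D.x⁻¹⁻¹ * (D.x⁻¹ * D.i * D.x⁻¹⁻¹) by group, hj2', hxi']
      obtain ⟨ε, hε, hε'⟩ : ∃ ε, (ε = 1 ∨ ε = D.i) ∧ a * j1 * a⁻¹ = j2 * ε := by
        have e0 : a * j1 * a⁻¹ = t * (b * j1 * b⁻¹) * t⁻¹ := by rw [hat']; group
        rw [e0]
        rcases hb1 with e | e <;> rcases hj2c t hat with q | q <;> rw [e]
        · exact ⟨1, Or.inl rfl, by rw [q, mul_one]⟩
        · exact ⟨D.i, Or.inr rfl, q⟩
        · exact ⟨D.i, Or.inr rfl, by rw [show t * (j2 * D.i) * t⁻¹ = t * j2 * t⁻¹ * (t * D.i * t⁻¹) by group, q, hiT t hat]⟩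
        · exact ⟨1, Or.inl rfl, by rw [show t * (j2 * D.i) * t⁻¹ = t * j2 * t⁻¹ * (t * D.i * t⁻¹) by group, q, hiT t hat,
            mul_assoc, D.i_sq, mul_one]⟩
      have hεc : ∀ s ∈ T, Commute s ε := fun s hs => by
        rcases hε with rfl | rfl
        · exact Commute.one_right _
        · exact D.mem_C.1 (h.T_le hs)
      have hεa : a * ε * a⁻¹ = ε := by
        rcases hε with rfl | rfl
        · group
        · exact D.conj_i (hSC ha)
      have hε2 : ε * ε = 1 := by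
        rcases hε with rfl | rfl
        · exact one_mul 1
        · exact D.i_sq
      have hj1T : j1 ∈ T := (mem_normalizer_iff.1 hxT _).1 hjT
      have haj2 : a * j2 * a⁻¹ = j1 * ε := by
        have hj2e : j2 = a * j1 * a⁻¹ * ε := by rw [hε', mul_assoc, hε2, mul_one]
        calc a * j2 * a⁻¹ = (a * a) * j1 * (a * a)⁻¹ * (a * ε * a⁻¹) := by rw [hj2e]; group
          _ = j1 * ε := by rw [ha2, hεa]; group
      have hz := (three_mod hxT D.x_pow h.i_mem D.i_sq (fun p hp => D.mem_C.1 (h.T_le hp)) D.mul_comm_ix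
        (D.x_fixed h.two hxT h.i_mem).2 hjT).1
      rw [← hj1d, ← hj2d] at hz
      have hj12 : (j * j1 * j2) = 1 ∨ (j * j1 * j2) = D.i := hz
      have hazfix : a * (j * j1 * j2) * a⁻¹ = j * j1 * j2 := by
        rcases hj12 with e | e <;> rw [e]
        · group
        · exact D.conj_i (hSC ha)
      rw [show a * (j * j1 * j2) * a⁻¹ = a * j * a⁻¹ * (a * j1 * a⁻¹) * (a * j2 * a⁻¹) by group, haji, hε', haj2,
        show j * D.i * (j2 * ε) * (j1 * ε) = j * (D.i * j2) * (ε * j1) * ε by group, ← (hεc j1 hj1T).eq,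
        ← D.mem_C.1 (h.T_le hj2T), show j * (j2 * D.i) * (j1 * ε) * ε = j * j2 * (D.i * j1) * (ε * ε) by group,
        ← D.mem_C.1 (h.T_le hj1T), hε2, mul_one] at hazfix
      -- `j1` and `j2` commute
      have hsw : j1 * j2 = j2 * j1 := by
        have hj1s : j1 * j1 = 1 := by
          rw [hj1d, show D.x * j * D.x⁻¹ * (D.x * j * D.x⁻¹) = D.x * (j * j) * D.x⁻¹ by group, hj2]; group
        have hj2s : j2 * j2 = 1 := by
          rw [hj2d, show D.x * j1 * D.x⁻¹ * (D.x * j1 * D.x⁻¹) = D.x * (j1 * j1) * D.x⁻¹ by group, hj1s]; group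
        have h12 : j1 * j2 = j * (j * j1 * j2) := by
          rw [show j * (j * j1 * j2) = (j * j) * (j1 * j2) by group, hj2, one_mul]
        have hsq : j1 * j2 * (j1 * j2) = 1 := by
          rw [h12]
          rcases hj12 with e | e <;> rw [e]
          · rw [mul_one, hj2]
          · rw [show j * D.i * (j * D.i) = j * (D.i * j) * D.i by group, ← D.mem_C.1 (h.T_le hjT),
              show j * (j * D.i) * D.i = j * j * (D.i * D.i) by group, hj2, D.i_sq, one_mul]
        calc j1 * j2 = (j1 * j2)⁻¹ := (inv_eq_of_mul_eq_one_right hsq).symm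
          _ = j2 * j1 := by
            rw [mul_inv_rev, inv_eq_of_mul_eq_one_right hj1s, inv_eq_of_mul_eq_one_right hj2s]
      rw [show j * j2 * (j1 * D.i) = j * (j2 * j1) * D.i by group, ← hsw, ← mul_assoc] at hazfix
      exact D.i_ne (mul_eq_left.1 hazfix)
    -- a four group around `a`
    have hwai : w⁻¹ * D.i * w ∈ D.C := by
      have h1 : D.i * a = a * D.i := (D.mem_C.1 (hSC ha)).symm
      rw [← hw] at h1
      have h2 := conj_comm (g := w⁻¹) h1
      simp only [inv_inv] at h2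
      rw [show w⁻¹ * (w * D.i * w⁻¹) * w = D.i by group] at h2
      exact D.mem_C.2 h2
    have hwaj : w⁻¹ * j * w ∈ D.C := by
      have h1 : j * a = a * j := (mul_inv_eq_iff_eq_mul.1 haj).symm
      rw [← hw] at h1
      have h2 := conj_comm (g := w⁻¹) h1
      simp only [inv_inv] at h2
      rw [show w⁻¹ * (w * D.i * w⁻¹) * w = D.i by group] at h2
      exact D.mem_C.2 h2
    have hjiC : j * D.i = D.i * j := D.mem_C.1 (h.T_le hjT)
    obtain ⟨e, heT, he2, hew⟩ : ∃ e, e ∈ T ∧ orderOf e = 2 ∧ w⁻¹ * e * w ∈ T := by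
      by_contra hne
      push Not at hne
      haveI : (T.subgroupOf D.C).Normal := ⟨fun s hs g => h.T_conj _ g.2 _ hs⟩
      let q := QuotientGroup.mk' (T.subgroupOf D.C)
      set u : D.C := ⟨_, hwai⟩ with hu
      set v : D.C := ⟨_, hwaj⟩ with hv
      have hne' : ∀ e, e ∈ T → orderOf e = 2 → ∀ hm : w⁻¹ * e * w ∈ D.C, q ⟨_, hm⟩ ≠ 1 := fun e h1 h2 hm hq =>
        hne e h1 h2 (mem_subgroupOf.1 ((QuotientGroup.eq_one_iff _).1 hq))
      have hsq : ∀ e, e * e = 1 → ∀ hm : w⁻¹ * e * w ∈ D.C, q ⟨_, hm⟩ * q ⟨_, hm⟩ = 1 := by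
        intro e he hm
        rw [← map_mul, show (⟨_, hm⟩ * ⟨_, hm⟩ : D.C) = 1 from Subtype.ext (by
          show w⁻¹ * e * w * (w⁻¹ * e * w) = 1
          rw [show w⁻¹ * e * w * (w⁻¹ * e * w) = w⁻¹ * (e * e) * w by group, he]; group), map_one]
      have hji2 : j * D.i * (j * D.i) = 1 := by
        rw [show j * D.i * (j * D.i) = j * (D.i * j) * D.i by group, ← hjiC,
          show j * (j * D.i) * D.i = j * j * (D.i * D.i) by group, hj2, D.i_sq, one_mul]
      have hji1 : j * D.i ≠ 1 := fun e' => hji (by rw [eq_inv_of_mul_eq_one_left e', D.i_inv])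
      have huv' : (u * v : D.C) = (⟨w⁻¹ * (j * D.i) * w, by
          rw [show w⁻¹ * (j * D.i) * w = w⁻¹ * j * w * (w⁻¹ * D.i * w) by group]
          exact mul_mem hwaj hwai⟩ : D.C) := Subtype.ext (by
        show w⁻¹ * D.i * w * (w⁻¹ * j * w) = w⁻¹ * (j * D.i) * w
        rw [hjiC]; group)
      have ou : orderOf (q u) = 2 := orderOf_two (hsq _ D.i_sq hwai) (hne' _ h.i_mem D.oi hwai)
      have ov : orderOf (q v) = 2 := orderOf_two (hsq _ hj2 hwaj) (hne' _ hjT (orderOf_two hj2 hj1) hwaj)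
      have ouv : orderOf (q u * q v) = 2 := by
        rw [← map_mul, huv']
        exact orderOf_two (hsq _ hji2 _) (hne' _ (mul_mem hjT h.i_mem) (orderOf_two hji2 hji1) _)
      have h4 := CfsgLib.Involutions.card_closure_pair ou ov
      rw [ouv] at h4
      have hd := card_subgroup_dvd_card (Subgroup.closure {q u, q v})
      rw [h4] at hd
      have hidx := (T.subgroupOf D.C).card_mul_index
      rw [Nat.card_congr (subgroupOfEquivOfLe h.T_le).toEquiv, hc,
        show 6 * (Nat.card T * Nat.card O) = Nat.card T * (6 * Nat.card O) by ring] at hidx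
      rw [← Subgroup.index, Nat.eq_of_mul_eq_mul_left Nat.card_pos hidx] at hd
      obtain ⟨k, hk⟩ := h.odd
      omega
    obtain ⟨v, hv⟩ := D.exists_fused he2
    have hvH : v ∈ H := hA v (by rw [hv]; exact heT)
    have hwv : w⁻¹ * v ∈ H := hA _ (by
      rw [show w⁻¹ * v * D.i * (w⁻¹ * v)⁻¹ = w⁻¹ * (v * D.i * v⁻¹) * w by group, hv]; exact hew)
    have h3 := mul_mem hvH (inv_mem hwv)
    rwa [show v * (w⁻¹ * v)⁻¹ = w by group] at h3
  obtain ⟨S, hSC, hB⟩ := hS
  -- all involutions of `H`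
  have hall : ∀ a ∈ H, orderOf a = 2 → ∀ w : G, w * D.i * w⁻¹ = a → w ∈ H := by
    intro a haH hao w hw
    have hp : IsPGroup 2 (zpowers (⟨a, haH⟩ : H)) :=
      IsPGroup.of_card (n := 1) (by rw [Nat.card_zpowers, orderOf_mk, hao, pow_one])
    obtain ⟨P, hP⟩ := hp.exists_le_sylow
    obtain ⟨g, hg⟩ := MulAction.exists_smul_eq H P (S.subtype (hSC.trans hCH))
    have hmem : (g : G) * a * (g : G)⁻¹ ∈ (S : Subgroup G) := by
      have h1 : g * ⟨a, haH⟩ * g⁻¹ ∈ ((g • P : Sylow 2 H) : Subgroup H) := by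
        rw [Sylow.coe_subgroup_smul]
        exact ⟨⟨a, haH⟩, hP (mem_zpowers _), rfl⟩
      rw [hg, Sylow.coe_subtype] at h1
      exact mem_subgroupOf.1 h1
    have h2 := hB _ hmem (by rw [orderOf_cj, hao]) ((g : G) * w) (by rw [← hw]; group)
    have h3 := mul_mem (inv_mem g.2) h2
    rwa [inv_mul_cancel_left] at h3
  have hse : Cfsg.IsStronglyEmbedded H := by
    rw [CfsgLib.Involutions.isStronglyEmbedded_iff]
    refine ⟨fun e => ?_, ?_, fun g hg t htH hto hc => hg ?_⟩
    · rcases (normalizer_eq_top_iff.1 e).eq_bot_or_eq_top with e' | e'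
      · exact hOne e'
      · refine D.x_notMem h ?_
        exfalso
        have h1 := h.odd
        rw [e', card_top, Nat.odd_iff] at h1
        have h2 : 2 ∣ Nat.card G := D.oi ▸ orderOf_dvd_natCard D.i
        omega
    · exact CfsgLib.Involutions.even_card_of_involution_mem (hCH D.i_mem) D.oi
    · obtain ⟨w, hw⟩ := D.exists_fused hto
      have hwH := hall t htH hto w hw
      have h2 := hall _ hc (by
        rw [show g⁻¹ * t * g = g⁻¹ * t * g⁻¹⁻¹ by rw [inv_inv], orderOf_cj, hto]) (g⁻¹ * w) (by rw [← hw]; group)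
      have h3 := mul_mem hwH (inv_mem h2)
      rwa [show w * (g⁻¹ * w)⁻¹ = g by group] at h3
  have hcore := Cfsg.Agent.S1221.result H hse
  have hOH : O ≤ H := le_normalizer
  have hbot : Cfsg.oddCore G = ⊥ := by
    haveI := Cfsg.pPrimeCore_normal 2 G
    refine (inferInstance : (Cfsg.oddCore G).Normal).eq_bot_or_eq_top.resolve_right fun e => ?_
    have h1 := CfsgLib.PCore.not_dvd_card_pPrimeCore (p := 2) (G := G)
    rw [show Cfsg.pPrimeCore 2 G = ⊤ from e, card_top] at h1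
    exact h1 (D.oi ▸ orderOf_dvd_natCard D.i)
  apply hOne
  rw [eq_bot_iff, ← hbot]
  refine le_trans ?_ hcore
  intro o ho
  refine ⟨⟨o, hOH ho⟩, ?_, rfl⟩
  refine CfsgLib.PCore.le_pPrimeCore_of_not_dvd (N := O.subgroupOf H) ?_ ?_ (mem_subgroupOf.2 ho)
  · exact ⟨fun m hm g => mem_subgroupOf.2 ((mem_normalizer_iff.1 g.2 _).1 (mem_subgroupOf.1 hm))⟩
  · rw [Nat.card_congr (subgroupOfEquivOfLe hOH).toEquiv, ← even_iff_two_dvd, Nat.not_even_iff_odd]
    exact h.odd

end Ctx

end CfsgLib.SelfCentralSix
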