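import Cfsg.Agent.Lib.SelfCentralSix.Tools

/-!
# The four group `⟨i, j⟩` for an involution `j` commuting with `S` modulo `i`
-/

set_option autoImplicit false
set_option linter.style.haveILetI false

namespace CfsgLib.SelfCentralSix

open Subgroup CfsgLib.SelfThree29

universe u

variable {G : Type u} [Group G]

theorem card_eq_two_mul {S Q : Subgroup G} (hQS : Q ≤ S) {s0 : G} (hs0 : s0 ∈ S) (hs0Q : s0 ∉ Q)
    (h : ∀ s ∈ S, s ∈ Q ∨ s * s0 ∈ Q) : Nat.card S = 2 * Nat.card Q := by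
  have h2 : (Q.subgroupOf S).index = 2 := by
    refine Subgroup.index_eq_two_iff.2 ⟨⟨s0, hs0⟩, fun b => ?_⟩
    rcases h b b.2 with hb | hb
    · exact Or.inr ⟨mem_subgroupOf.2 hb, fun e => hs0Q (by
        have := Q.mul_mem (Q.inv_mem hb) (mem_subgroupOf.1 e)
        simpa using this)⟩
    · exact Or.inl ⟨mem_subgroupOf.2 hb, fun e => hs0Q (by
        have := Q.mul_mem (Q.inv_mem (mem_subgroupOf.1 e)) hb
        simpa using this)⟩
  have h3 := (Q.subgroupOf S).index_mul_card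
  rw [h2, Nat.card_congr (subgroupOfEquivOfLe hQS).toEquiv] at h3
  omega

/-- The data at an involution `j`. -/
structure Four (D : Ctx G) (S : Sylow 2 G) (j : G) where
  s0 : G
  g : G
  s0_mem : s0 ∈ (S : Subgroup G)
  s0_conj : s0 * j * s0⁻¹ = j * D.i
  ord : orderOf g = 3
  g_i : g * D.i * g⁻¹ = D.i * j
  g_j : g * j * g⁻¹ = D.i
  g_mem : g ∈ normalizer (((S : Subgroup G) ⊓ centralizer ({j} : Set G) : Subgroup G) : Set G)
  card_eq : Nat.card (S : Subgroup G) = 2 * Nat.card ↥((S : Subgroup G) ⊓ centralizer ({j} : Set G))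
  zInv_le : ∀ z ∈ zInv ((S : Subgroup G) ⊓ centralizer ({j} : Set G)),
    z = 1 ∨ z = D.i ∨ z = j ∨ z = D.i * j

namespace Ctx

variable [Finite G] (D : Ctx G)

/-- The hypotheses on `j`. -/
structure IsFourPoint (S : Sylow 2 G) (j : G) : Prop where
  le : (S : Subgroup G) ≤ D.C
  omega : ∀ a ∈ zInv (S : Subgroup G), a = 1 ∨ a = D.i
  mem : j ∈ (S : Subgroup G)
  ord : orderOf j = 2
  ne : j ≠ D.i
  comm : ∀ s ∈ (S : Subgroup G), s * j * s⁻¹ = j ∨ s * j * s⁻¹ = j * D.i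
  stab : ∀ c ∈ D.C, c * j = j * c → c ∈ (S : Subgroup G)

theorem exists_four {S : Sylow 2 G} {j : G} (h : D.IsFourPoint S j) : Nonempty (Four D S j) := by
  classical
  have : Fact (Nat.Prime 2) := ⟨Nat.prime_two⟩
  have hj2 : j * j = 1 := by rw [← sq, ← h.ord, pow_orderOf_eq_one]
  have hjinv : j⁻¹ = j := inv_eq_of_mul_eq_one_right hj2
  have hji : j * D.i = D.i * j := D.mem_C.1 (h.le h.mem)
  obtain ⟨s0, hs0, hs0j⟩ : ∃ s ∈ (S : Subgroup G), s * j * s⁻¹ = j * D.i := by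
    by_contra hc
    push Not at hc
    rcases h.omega j ⟨h.mem, hj2, fun s hs =>
      mul_inv_eq_iff_eq_mul.1 ((h.comm s hs).resolve_right (hc s hs))⟩ with e | e
    · have := h.ord
      rw [e, orderOf_one] at this
      omega
    · exact h.ne e
  set Q := (S : Subgroup G) ⊓ centralizer ({j} : Set G) with hQdef
  have hQmem : ∀ {q : G}, q ∈ Q ↔ q ∈ (S : Subgroup G) ∧ q * j = j * q := fun {q} => by
    rw [hQdef, mem_inf, mem_centralizer_singleton_iff]
  have hs0i : s0 * D.i * s0⁻¹ = D.i := D.conj_i (h.le hs0)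
  have hs0Q : s0 ∉ Q := fun e => D.i_ne (by
    have h1 : s0 * j * s0⁻¹ = j := mul_inv_eq_iff_eq_mul.2 (hQmem.1 e).2
    rw [hs0j] at h1
    exact mul_eq_left.1 h1)
  have hjQ : j ∈ Q := hQmem.2 ⟨h.mem, rfl⟩
  have hcover : ∀ s ∈ (S : Subgroup G), s ∈ Q ∨ s * s0 ∈ Q := by
    intro s hs
    rcases h.comm s hs with e | e
    · exact Or.inl (hQmem.2 ⟨hs, mul_inv_eq_iff_eq_mul.1 e⟩)
    · refine Or.inr (hQmem.2 ⟨mul_mem hs hs0, mul_inv_eq_iff_eq_mul.1 ?_⟩)
      calc s * s0 * j * (s * s0)⁻¹ = s * (s0 * j * s0⁻¹) * s⁻¹ := by group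
        _ = (s * j * s⁻¹) * (s * D.i * s⁻¹) := by rw [hs0j]; group
        _ = j := by rw [e, D.conj_i (h.le hs), mul_assoc, D.i_sq, mul_one]
  have hcard : Nat.card (S : Subgroup G) = 2 * Nat.card Q := card_eq_two_mul inf_le_left hs0 hs0Q hcover
  have hs0N : s0 ∈ normalizer (Q : Set G) := by
    have key : ∀ w : G, w ∈ (S : Subgroup G) → ∀ q ∈ Q, w * q * w⁻¹ ∈ Q := by
      intro w hw q hq
      refine hQmem.2 ⟨mul_mem (mul_mem hw (hQmem.1 hq).1) (inv_mem hw), ?_⟩
      have hw' : w⁻¹ * j * w = j ∨ w⁻¹ * j * w = j * D.i := by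
        have := h.comm w⁻¹ (inv_mem hw); rwa [inv_inv] at this
      have hqi : q * D.i = D.i * q := D.mem_C.1 (h.le (hQmem.1 hq).1)
      have h1 : q * (w⁻¹ * j * w) = (w⁻¹ * j * w) * q := by
        rcases hw' with e | e <;> rw [e]
        · exact (hQmem.1 hq).2
        · exact (Commute.mul_right (show Commute q j from (hQmem.1 hq).2) hqi).eq
      have h2 := conj_comm (g := w) h1
      rwa [show w * (w⁻¹ * j * w) * w⁻¹ = j by group] at h2
    rw [mem_normalizer_iff]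
    refine fun q => ⟨key s0 hs0 q, fun hq => ?_⟩
    have := key s0⁻¹ (inv_mem hs0) _ hq
    rwa [show s0⁻¹ * (s0 * q * s0⁻¹) * s0⁻¹⁻¹ = q by group] at this
  have hz : ∀ z ∈ zInv Q, z = 1 ∨ z = D.i ∨ z = j ∨ z = D.i * j := by
    intro z hz
    have hz' : s0 * z * s0⁻¹ ∈ zInv Q := (mem_normalizer_iff.1 (zInv_normalized hs0N) z).1 hz
    set z' := s0 * z * s0⁻¹ with hz'def
    have hc := mul_mem hz hz'
    have hsq : s0 * s0 ∈ Q := (hcover s0 hs0).resolve_left hs0Q
    have hback : s0 * z' * s0⁻¹ = z := by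
      rw [hz'def, show s0 * (s0 * z * s0⁻¹) * s0⁻¹ = s0 * s0 * z * (s0 * s0)⁻¹ by group]
      exact mul_inv_eq_iff_eq_mul.2 (hz.2.2 _ hsq)
    have hcs : z * z' ∈ zInv (S : Subgroup G) := by
      refine ⟨hc.1.1, hc.2.1, fun s hs => ?_⟩
      have h0 : s0 * (z * z') = z * z' * s0 := by
        refine mul_inv_eq_iff_eq_mul.1 ?_
        rw [show s0 * (z * z') * s0⁻¹ = (s0 * z * s0⁻¹) * (s0 * z' * s0⁻¹) by group, hback]
        exact hz.2.2 z' hz'.1
      rcases hcover s hs with hq | hq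
      · exact hc.2.2 s hq
      · have h5 : Commute (s * s0 * s0⁻¹) (z * z') :=
          Commute.mul_left (hc.2.2 _ hq) (Commute.inv_left (show Commute s0 (z * z') from h0))
        rw [mul_inv_cancel_right] at h5
        exact h5.eq
    have hz2 : z * z = 1 := hz.2.1
    rcases h.omega _ hcs with e | e
    · have hzz : z' = z := by
        calc z' = z * (z * z') := by rw [← mul_assoc, hz2, one_mul]
          _ = z := by rw [e, mul_one]
      have hzS : z ∈ zInv (S : Subgroup G) := by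
        refine ⟨hz.1.1, hz2, fun s hs => ?_⟩
        have h0 : s0 * z = z * s0 := mul_inv_eq_iff_eq_mul.1 hzz
        rcases hcover s hs with hq | hq
        · exact hz.2.2 s hq
        · have h5 : Commute (s * s0 * s0⁻¹) z :=
            Commute.mul_left (hz.2.2 _ hq) (Commute.inv_left (show Commute s0 z from h0))
          rw [mul_inv_cancel_right] at h5
          exact h5.eq
      rcases h.omega z hzS with e' | e'
      · exact Or.inl e'
      · exact Or.inr (Or.inl e')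
    · have hzz : z' = z * D.i := by
        calc z' = z * (z * z') := by rw [← mul_assoc, hz2, one_mul]
          _ = _ := by rw [e]
      have hjc : z * j = j * z := (hQmem.1 hz.1).2
      have hzj : z * j ∈ zInv (S : Subgroup G) := by
        refine ⟨mul_mem hz.1.1 h.mem, ?_, fun s hs => ?_⟩
        · rw [show z * j * (z * j) = z * (j * z) * j by group, ← hjc,
            show z * (z * j) * j = (z * z) * (j * j) by group, hz2, hj2, one_mul]
        · have hq0 : ∀ q ∈ Q, Commute q (z * j) := fun q hq =>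
            Commute.mul_right (hz.2.2 q hq) (hQmem.1 hq).2
          have h0 : Commute s0 (z * j) := by
            refine mul_inv_eq_iff_eq_mul.1 ?_
            rw [show s0 * (z * j) * s0⁻¹ = (s0 * z * s0⁻¹) * (s0 * j * s0⁻¹) by group, ← hz'def, hzz, hs0j,
              hji, show z * D.i * (D.i * j) = z * (D.i * D.i) * j by group, D.i_sq, mul_one]
          rcases hcover s hs with hq | hq
          · exact (hq0 s hq).eq
          · have h5 := Commute.mul_left (hq0 _ hq) (Commute.inv_left h0)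
            rw [mul_inv_cancel_right] at h5
            exact h5.eq
      rcases h.omega _ hzj with e' | e'
      · refine Or.inr (Or.inr (Or.inl ?_))
        rw [eq_inv_of_mul_eq_one_left e', hjinv]
      · refine Or.inr (Or.inr (Or.inr ?_))
        rw [← e', mul_assoc, hj2, mul_one]
  -- a Sylow subgroup of the centralizer of `j` above `Q`
  obtain ⟨w, hw⟩ := D.exists_fused h.ord
  set Cj := centralizer ({j} : Set G) with hCj
  have hQC : Q ≤ Cj := inf_le_right
  have hQp : IsPGroup 2 Q := S.2.to_le inf_le_left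
  obtain ⟨P, hP⟩ : ∃ P : Sylow 2 Cj, Q.subgroupOf Cj ≤ (P : Subgroup Cj) :=
    (hQp.comap_subtype (H := Q) (K := Cj)).exists_le_sylow
  have hSle : Nat.card (S : Subgroup G) ≤ Nat.card (P : Subgroup Cj) := by
    have hsub : (S : Subgroup G).map (MulAut.conj w).toMonoidHom ≤ Cj := by
      rintro _ ⟨s, hs, rfl⟩
      refine mem_centralizer_singleton_iff.2 ?_
      show w * s * w⁻¹ * j = j * (w * s * w⁻¹)
      rw [← hw]
      exact conj_comm (D.mem_C.1 (h.le hs))
    have h2 : Nat.card (S : Subgroup G) ∣ Nat.card Cj := by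
      rw [← card_map_of_injective (f := (MulAut.conj w).toMonoidHom) (MulAut.conj w).injective]
      exact card_dvd_of_le hsub
    obtain ⟨k, hk⟩ := IsPGroup.iff_card.1 S.2
    rw [hk] at h2 ⊢
    rw [P.card_eq_multiplicity]
    exact Nat.pow_le_pow_right two_pos ((Nat.prime_two.pow_dvd_iff_le_factorization Nat.card_pos.ne').1 h2)
  have hPle : Nat.card (P : Subgroup Cj) ≤ Nat.card (S : Subgroup G) := by
    rw [← card_map_of_injective Cj.subtype_injective]
    obtain ⟨k, hk⟩ := IsPGroup.iff_card.1 (P.2.map Cj.subtype)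
    rw [hk, S.card_eq_multiplicity]
    refine Nat.pow_le_pow_right two_pos ((Nat.prime_two.pow_dvd_iff_le_factorization Nat.card_pos.ne').1 ?_)
    rw [← hk]
    exact card_subgroup_dvd_card _
  have hidx : ((Q.subgroupOf Cj).subgroupOf (P : Subgroup Cj)).index = 2 := by
    have h1 := ((Q.subgroupOf Cj).subgroupOf (P : Subgroup Cj)).index_mul_card
    rw [Nat.card_congr (subgroupOfEquivOfLe hP).toEquiv, Nat.card_congr (subgroupOfEquivOfLe hQC).toEquiv,
      le_antisymm hPle hSle, hcard] at h1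
    exact Nat.eq_of_mul_eq_mul_right Nat.card_pos h1
  haveI := normal_of_index_eq_two hidx
  obtain ⟨⟨hh, hhP⟩, hhQ⟩ : ∃ p : (P : Subgroup Cj), p ∉ (Q.subgroupOf Cj).subgroupOf (P : Subgroup Cj) := by
    by_contra hc
    push Not at hc
    rw [(eq_top_iff' _).2 hc, index_top] at hidx
    omega
  have hhQ' : (hh : G) ∉ Q := fun e => hhQ (mem_subgroupOf.2 (mem_subgroupOf.2 e))
  have hhj : (hh : G) * j * (hh : G)⁻¹ = j := mul_inv_eq_iff_eq_mul.2 (mem_centralizer_singleton_iff.1 hh.2)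
  have hhN : (hh : G) ∈ normalizer (Q : Set G) := by
    have key : ∀ p : (P : Subgroup Cj), ∀ q ∈ Q, ((p : Cj) : G) * q * ((p : Cj) : G)⁻¹ ∈ Q := fun p q hq => by
      have h' := (inferInstance : ((Q.subgroupOf Cj).subgroupOf (P : Subgroup Cj)).Normal).conj_mem
        ⟨⟨q, hQC hq⟩, hP (mem_subgroupOf.2 hq)⟩ (mem_subgroupOf.2 (mem_subgroupOf.2 hq)) p
      exact mem_subgroupOf.1 (mem_subgroupOf.1 h')
    rw [mem_normalizer_iff]
    refine fun q => ⟨key ⟨hh, hhP⟩ q, fun hq => ?_⟩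
    have h' := key (⟨hh, hhP⟩ : (P : Subgroup Cj))⁻¹ _ hq
    simpa [mul_assoc] using h'
  have hiZ : D.i ∈ zInv Q :=
    ⟨hQmem.2 ⟨D.i_mem_sylow h.le, hji.symm⟩, D.i_sq, fun q hq => D.mem_C.1 (h.le (hQmem.1 hq).1)⟩
  have hhi : (hh : G) * D.i * (hh : G)⁻¹ = D.i * j := by
    rcases hz _ ((mem_normalizer_iff.1 (zInv_normalized hhN) _).1 hiZ) with e | e | e | e
    · exact absurd (conj_eq_one_iff.1 e) D.i_ne
    · exfalso
      exact hhQ' (hQmem.2 ⟨h.stab _ (D.mem_C.2 (mul_inv_eq_iff_eq_mul.1 e))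
        (mem_centralizer_singleton_iff.1 hh.2), mem_centralizer_singleton_iff.1 hh.2⟩)
    · exfalso
      have : D.i = j := MulAut.conj (hh : G) |>.injective (by
        show (hh : G) * D.i * (hh : G)⁻¹ = (hh : G) * j * (hh : G)⁻¹
        rw [e, hhj])
      exact h.ne this.symm
    · exact e
  set g0 := (hh : G) * s0 with hg0
  have g0i : g0 * D.i * g0⁻¹ = D.i * j := by
    rw [hg0, show (hh : G) * s0 * D.i * ((hh : G) * s0)⁻¹ = (hh : G) * (s0 * D.i * s0⁻¹) * (hh : G)⁻¹ by group,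
      hs0i, hhi]
  have g0j : g0 * j * g0⁻¹ = D.i := by
    rw [hg0, show (hh : G) * s0 * j * ((hh : G) * s0)⁻¹ = (hh : G) * (s0 * j * s0⁻¹) * (hh : G)⁻¹ by group,
      hs0j, show (hh : G) * (j * D.i) * (hh : G)⁻¹ = ((hh : G) * j * (hh : G)⁻¹) * ((hh : G) * D.i * (hh : G)⁻¹) by group,
      hhj, hhi, ← mul_assoc, hji, mul_assoc, hj2, mul_one]
  have hmul : ∀ a b : G, g0 * (a * b) * g0⁻¹ = g0 * a * g0⁻¹ * (g0 * b * g0⁻¹) := fun a b => by group
  have g0ij : g0 * (D.i * j) * g0⁻¹ = j := by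
    rw [hmul, g0i, g0j, mul_assoc, hji, ← mul_assoc, D.i_sq, one_mul]
  have g03j : g0 ^ 3 * j * (g0 ^ 3)⁻¹ = j := by
    rw [show g0 ^ 3 * j * (g0 ^ 3)⁻¹ = g0 * (g0 * (g0 * j * g0⁻¹) * g0⁻¹) * g0⁻¹ by
      simp only [pow_succ, pow_zero, one_mul, mul_inv_rev, mul_assoc], g0j, g0i, g0ij]
  have g03i : g0 ^ 3 * D.i * (g0 ^ 3)⁻¹ = D.i := by
    rw [show g0 ^ 3 * D.i * (g0 ^ 3)⁻¹ = g0 * (g0 * (g0 * D.i * g0⁻¹) * g0⁻¹) * g0⁻¹ by
      simp only [pow_succ, pow_zero, one_mul, mul_inv_rev, mul_assoc], g0i, g0ij, g0j]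
  have hg03 : g0 ^ 3 ∈ (S : Subgroup G) :=
    h.stab _ (D.mem_C.2 (mul_inv_eq_iff_eq_mul.1 g03i)) (mul_inv_eq_iff_eq_mul.1 g03j)
  obtain ⟨k, hk⟩ := S.2 ⟨_, hg03⟩
  have hk' : (g0 ^ 3) ^ 2 ^ k = 1 := congrArg Subtype.val hk
  set g := g0 ^ (4 ^ k : ℕ) with hgdef
  have h4 : ∃ m, 4 ^ k = 3 * m + 1 := ⟨4 ^ k / 3, by
    have : 4 ^ k % 3 = 1 := by rw [Nat.pow_mod]; norm_num
    omega⟩
  obtain ⟨m, hm⟩ := h4
  have hg3 : g ^ 3 = 1 := by
    rw [hgdef, ← pow_mul, mul_comm, pow_mul, show (4 : ℕ) ^ k = 2 ^ k * 2 ^ k by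
      rw [← mul_pow]; norm_num, pow_mul, hk', one_pow]
  have act : ∀ a b : G, g0 * a * g0⁻¹ = b → g0 ^ 3 * a * (g0 ^ 3)⁻¹ = a → g * a * g⁻¹ = b := by
    intro a b e1 e3
    have e3m : ∀ l : ℕ, g0 ^ (3 * l) * a * (g0 ^ (3 * l))⁻¹ = a := by
      intro l
      induction l with
      | zero => simp
      | succ l ih =>
        rw [show 3 * (l + 1) = 3 * l + 3 by ring, pow_add,
          show g0 ^ (3 * l) * g0 ^ 3 * a * (g0 ^ (3 * l) * g0 ^ 3)⁻¹ =
            g0 ^ (3 * l) * (g0 ^ 3 * a * (g0 ^ 3)⁻¹) * (g0 ^ (3 * l))⁻¹ by group, e3, ih]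
    rw [hgdef, hm, pow_succ', show g0 * g0 ^ (3 * m) * a * (g0 * g0 ^ (3 * m))⁻¹ =
      g0 * (g0 ^ (3 * m) * a * (g0 ^ (3 * m))⁻¹) * g0⁻¹ by group, e3m, e1]
  have gi := act _ _ g0i g03i
  refine ⟨⟨s0, g, hs0, hs0j, orderOf_eq_prime (hp := ⟨Nat.prime_three⟩) hg3 fun e => ?_, gi,
    act _ _ g0j g03j, pow_mem (mul_mem hhN hs0N) _, hcard, hz⟩⟩
  rw [e, one_mul, inv_one, mul_one] at gi
  have h1 : D.i * 1 = D.i * j := by rw [mul_one]; exact gi
  have := h.ord
  rw [← mul_left_cancel h1, orderOf_one] at this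
  omega

include D in
/-- No such `j` exists when `x` normalizes `S`. -/
theorem false_of_fourPoint {S : Sylow 2 G} {j : G} (h : D.IsFourPoint S j)
    (hx : D.x ∈ normalizer ((S : Subgroup G) : Set G)) : False := by
  obtain ⟨F⟩ := D.exists_four h
  set Q := (S : Subgroup G) ⊓ centralizer ({j} : Set G) with hQdef
  have hQmem : ∀ {q : G}, q ∈ Q ↔ q ∈ (S : Subgroup G) ∧ q * j = j * q := fun {q} => by
    rw [hQdef, mem_inf, mem_centralizer_singleton_iff]
  have hji : j * D.i = D.i * j := D.mem_C.1 (h.le h.mem)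
  have hj2 : j * j = 1 := by rw [← sq, ← h.ord, pow_orderOf_eq_one]
  -- fixed points of `x`
  have hxS : ∀ p ∈ (S : Subgroup G), p * D.x = D.x * p → p = 1 ∨ p = D.i := by
    intro p hp hc
    rcases D.fixed_cases S.2 D.ox hx with ⟨-, hf⟩ | ⟨-, f, -, -, -, hf⟩
    · exact Or.inl (hf p hp hc)
    · have hif : D.i = f := (hf _ (D.i_mem_sylow h.le) D.mul_comm_ix).resolve_left D.i_ne
      rw [hif]; exact hf p hp hc
  have hSmod : Nat.card (S : Subgroup G) % 3 = 2 := by
    rcases D.fixed_cases S.2 D.ox hx with ⟨-, hf⟩ | ⟨hm, -⟩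
    · exact absurd (hf _ (D.i_mem_sylow h.le) D.mul_comm_ix) D.i_ne
    · exact hm
  have hQmod : Nat.card Q % 3 = 1 := by
    have : Nat.card (S : Subgroup G) = 2 * Nat.card Q := F.card_eq
    omega
  have hQg : ∀ q ∈ Q, q * F.g = F.g * q → q = 1 := by
    rcases D.fixed_cases (S.2.to_le inf_le_left) F.ord F.g_mem with ⟨-, hf⟩ | ⟨hm, -⟩
    · exact hf
    · replace hm : Nat.card Q % 3 = 2 := hm
      omega
  set y := D.x * j * D.x⁻¹ with hy
  have hxi : D.x * D.i * D.x⁻¹ = D.i := by rw [← D.mul_comm_ix, mul_inv_cancel_right]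
  have hyS : y ∈ (S : Subgroup G) := (mem_normalizer_iff.1 hx j).1 h.mem
  have hy2 : y * y = 1 := by
    rw [hy, show D.x * j * D.x⁻¹ * (D.x * j * D.x⁻¹) = D.x * (j * j) * D.x⁻¹ by group, hj2]; group
  have hycomm : ∀ s ∈ (S : Subgroup G), s * y * s⁻¹ = y ∨ s * y * s⁻¹ = y * D.i := by
    intro s hs
    have hs' : D.x⁻¹ * s * D.x ∈ (S : Subgroup G) := by
      have := (mem_normalizer_iff.1 (inv_mem hx) s).1 hs; rwa [inv_inv] at this
    have e : s * y * s⁻¹ = D.x * ((D.x⁻¹ * s * D.x) * j * (D.x⁻¹ * s * D.x)⁻¹) * D.x⁻¹ := by rw [hy]; group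
    rcases h.comm _ hs' with e' | e' <;> rw [e, e']
    · exact Or.inl rfl
    · right
      rw [show D.x * (j * D.i) * D.x⁻¹ = D.x * j * D.x⁻¹ * (D.x * D.i * D.x⁻¹) by group, hxi]
  -- `y` commutes with `j`
  have hyj : y * j = j * y := by
    set z := D.x * y * D.x⁻¹ with hz
    have hz2 : z * z = 1 := by
      rw [hz, show D.x * y * D.x⁻¹ * (D.x * y * D.x⁻¹) = D.x * (y * y) * D.x⁻¹ by group, hy2]; group
    have hyi : y * D.i = D.i * y := D.mem_C.1 (h.le hyS)
    have h3 := (three_mod hx D.x_pow (D.i_mem_sylow h.le) D.i_sq (fun p hp => D.i_mem_center h.le hp)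
      D.mul_comm_ix hxS h.mem).1
    rw [← hy, ← hz] at h3
    have hw : j * y * (j * y) = 1 := by
      rcases h3 with e | e
      · rw [eq_inv_of_mul_eq_one_left e, inv_eq_of_mul_eq_one_right hz2]
        exact hz2
      · have e' : j * y = D.i * z := by
          rw [← e, mul_assoc, hz2, mul_one]
        have hzi : z * D.i = D.i * z := D.mem_C.1 (h.le ((mem_normalizer_iff.1 hx y).1 hyS))
        rw [e', show D.i * z * (D.i * z) = D.i * (z * D.i) * z by group, hzi,
          show D.i * (D.i * z) * z = (D.i * D.i) * (z * z) by group, D.i_sq, hz2, one_mul]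
    calc y * j = j * (j * y * (j * y)) * y := by
          rw [show j * (j * y * (j * y)) * y = (j * j) * (y * j) * (y * y) by group, hj2, hy2, one_mul, mul_one]
      _ = j * y := by rw [hw, mul_one]
  have hyQ : y ∈ Q := hQmem.2 ⟨hyS, hyj⟩
  set y' := F.g * y * F.g⁻¹ with hy'
  set y'' := F.g * y' * F.g⁻¹ with hy''
  have hgN := fun q => (mem_normalizer_iff.1 F.g_mem q)
  have hprod : y * y' * y'' = 1 := prod_three F.g_mem (F.ord ▸ pow_orderOf_eq_one F.g) hQg hyQ
  have hgij : F.g * (D.i * j) * F.g⁻¹ = j := by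
    rw [show F.g * (D.i * j) * F.g⁻¹ = F.g * D.i * F.g⁻¹ * (F.g * j * F.g⁻¹) by group, F.g_i, F.g_j,
      mul_assoc, hji, ← mul_assoc, D.i_sq, one_mul]
  have hback : ∀ q ∈ Q, F.g⁻¹ * q * F.g ∈ Q := fun q hq => by
    have := (mem_normalizer_iff.1 (inv_mem F.g_mem) q).1 hq; rwa [inv_inv] at this
  have hy'comm : ∀ q ∈ Q, q * y' * q⁻¹ = y' ∨ q * y' * q⁻¹ = y' * (D.i * j) := by
    intro q hq
    have e : q * y' * q⁻¹ = F.g * ((F.g⁻¹ * q * F.g) * y * (F.g⁻¹ * q * F.g)⁻¹) * F.g⁻¹ := by rw [hy']; group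
    rcases hycomm _ (hQmem.1 (hback q hq)).1 with e' | e' <;> rw [e, e']
    · exact Or.inl rfl
    · right
      rw [show F.g * (y * D.i) * F.g⁻¹ = F.g * y * F.g⁻¹ * (F.g * D.i * F.g⁻¹) by group, F.g_i]
  have hy''comm : ∀ q ∈ Q, q * y'' * q⁻¹ = y'' ∨ q * y'' * q⁻¹ = y'' * j := by
    intro q hq
    have e : q * y'' * q⁻¹ = F.g * ((F.g⁻¹ * q * F.g) * y' * (F.g⁻¹ * q * F.g)⁻¹) * F.g⁻¹ := by rw [hy'']; group
    rcases hy'comm _ (hback q hq) with e' | e' <;> rw [e, e']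
    · exact Or.inl rfl
    · right
      rw [show F.g * (y' * (D.i * j)) * F.g⁻¹ = F.g * y' * F.g⁻¹ * (F.g * (D.i * j) * F.g⁻¹) by group, hgij]
  have ne1 : D.i * j ≠ 1 := fun e => h.ne ((inv_eq_of_mul_eq_one_right e).symm.trans D.i_inv)
  have jne1 : j ≠ 1 := fun e => by
    have := h.ord
    rw [e, orderOf_one] at this
    omega
  -- the two centralizers agree
  have hyiff : ∀ q ∈ Q, q * y = y * q ↔ q * y' = y' * q := by
    intro q hq
    have hqi : q * D.i * q⁻¹ = D.i := D.conj_i (h.le (hQmem.1 hq).1)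
    have hprodq : q * y * q⁻¹ * (q * y' * q⁻¹) * (q * y'' * q⁻¹) = 1 := by
      rw [show q * y * q⁻¹ * (q * y' * q⁻¹) * (q * y'' * q⁻¹) = q * (y * y' * y'') * q⁻¹ by group, hprod]
      group
    constructor
    · intro hc
      rw [mul_inv_eq_iff_eq_mul.2 hc] at hprodq
      rcases hy'comm q hq with e | e
      · exact mul_inv_eq_iff_eq_mul.1 e
      · exfalso
        rw [e] at hprodq
        have hy''Q : y'' ∈ Q := (hgN _).1 ((hgN _).1 hyQ)
        have hy''ij : y'' * (D.i * j) = D.i * j * y'' :=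
          (Commute.mul_right (show Commute y'' D.i from D.mem_C.1 (h.le (hQmem.1 hy''Q).1))
            (show Commute y'' j from (hQmem.1 hy''Q).2)).eq
        rcases hy''comm q hq with e' | e' <;> rw [e'] at hprodq
        · apply ne1
          rw [show y * (y' * (D.i * j)) * y'' = y * y' * (D.i * j * y'') by group, ← hy''ij,
            show y * y' * (y'' * (D.i * j)) = (y * y' * y'') * (D.i * j) by group, hprod, one_mul] at hprodq
          exact hprodq
        · apply D.i_ne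
          rw [show y * (y' * (D.i * j)) * (y'' * j) = y * y' * ((D.i * j) * y'') * j by group, ← hy''ij,
            show y * y' * (y'' * (D.i * j)) * j = (y * y' * y'') * D.i * (j * j) by group, hprod, hj2,
            one_mul, mul_one] at hprodq
          exact hprodq
    · intro hc
      rw [mul_inv_eq_iff_eq_mul.2 hc] at hprodq
      rcases hycomm q (hQmem.1 hq).1 with e | e
      · exact mul_inv_eq_iff_eq_mul.1 e
      · exfalso
        rw [e] at hprodq
        have hy'Q : y' ∈ Q := (hgN _).1 hyQ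
        have hy''Q : y'' ∈ Q := (hgN _).1 hy'Q
        have ci : ∀ w ∈ Q, w * D.i = D.i * w := fun w hw => D.mem_C.1 (h.le (hQmem.1 hw).1)
        have e1 : y * D.i * y' * y'' = D.i := by
          rw [show y * D.i * y' * y'' = y * (D.i * y') * y'' by group, ← ci y' hy'Q,
            show y * (y' * D.i) * y'' = y * y' * (D.i * y'') by group, ← ci y'' hy''Q,
            show y * y' * (y'' * D.i) = (y * y' * y'') * D.i by group, hprod, one_mul]
        rcases hy''comm q hq with e' | e' <;> rw [e'] at hprodq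
        · rw [e1] at hprodq
          exact D.i_ne hprodq
        · rw [← mul_assoc, e1] at hprodq
          exact ne1 hprodq
  -- the kernel is invariant of index two
  set K := Q ⊓ centralizer ({y} : Set G) with hK
  have hKmem : ∀ {q : G}, q ∈ K ↔ q ∈ Q ∧ q * y = y * q := fun {q} => by
    rw [hK, mem_inf, mem_centralizer_singleton_iff]
  obtain ⟨q0, hq0, hq0y⟩ : ∃ q ∈ Q, ¬ q * y = y * q := by
    by_contra hc
    push Not at hc
    rcases F.zInv_le y ⟨hyQ, hy2, hc⟩ with e | e | e | e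
    · apply jne1
      exact conj_eq_one_iff.1 (hy ▸ e)
    · exact h.ne ((MulAut.conj D.x).injective (show D.x * j * D.x⁻¹ = D.x * D.i * D.x⁻¹ by rw [hxi, ← hy, e]))
    · have hcx : j * D.x = D.x * j := (mul_inv_eq_iff_eq_mul.1 (hy ▸ e)).symm
      rcases hxS j h.mem hcx with e' | e'
      · exact jne1 e'
      · exact h.ne e'
    · have h1 : D.x * j * D.x⁻¹ = D.i * j := hy ▸ e
      have h3 := conj_triple D.x j D.x_pow
      have h2 : D.x * (D.i * j) * D.x⁻¹ = j := by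
        rw [show D.x * (D.i * j) * D.x⁻¹ = D.x * D.i * D.x⁻¹ * (D.x * j * D.x⁻¹) by group, hxi, h1,
          ← mul_assoc, D.i_sq, one_mul]
      rw [h1, h2, h1] at h3
      exact D.i_ne (mul_eq_right.1 h3)
  have hcover : ∀ q ∈ Q, q ∈ K ∨ q * q0 ∈ K := by
    intro q hq
    by_cases hc : q * y = y * q
    · exact Or.inl (hKmem.2 ⟨hq, hc⟩)
    · refine Or.inr (hKmem.2 ⟨mul_mem hq hq0, mul_inv_eq_iff_eq_mul.1 ?_⟩)
      have hni : ∀ w ∈ Q, ¬ w * y = y * w → w * y * w⁻¹ = y * D.i := fun w hw hn =>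
        (hycomm w (hQmem.1 hw).1).resolve_left fun e => hn (mul_inv_eq_iff_eq_mul.1 e)
      rw [show q * q0 * y * (q * q0)⁻¹ = q * (q0 * y * q0⁻¹) * q⁻¹ by group, hni q0 hq0 hq0y,
        show q * (y * D.i) * q⁻¹ = q * y * q⁻¹ * (q * D.i * q⁻¹) by group, hni q hq hc,
        D.conj_i (h.le (hQmem.1 hq).1), mul_assoc, D.i_sq, mul_one]
  have hKcard : Nat.card Q = 2 * Nat.card K :=
    card_eq_two_mul inf_le_left hq0 (fun e => hq0y (hKmem.1 e).2) hcover
  have hfwd : ∀ q ∈ K, F.g * q * F.g⁻¹ ∈ K := fun q hq => by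
    obtain ⟨hqQ, hqy⟩ := hKmem.1 hq
    have hq' := (hgN q).1 hqQ
    exact hKmem.2 ⟨hq', (hyiff _ hq').2 (conj_comm hqy)⟩
  have hgK : F.g ∈ normalizer (K : Set G) := by
    rw [mem_normalizer_iff]
    refine fun q => ⟨hfwd q, fun hq => ?_⟩
    have := hfwd _ (hfwd _ hq)
    rwa [conj_triple F.g q (F.ord ▸ pow_orderOf_eq_one F.g)] at this
  have hKle : K ⊓ centralizer ({F.g} : Set G) = ⊥ := by
    refine eq_bot_iff.2 fun q hq => mem_bot.2 (hQg q (hKmem.1 hq.1).1 (mem_centralizer_singleton_iff.1 hq.2))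
  have hKmod : Nat.card K % 3 = Nat.card ↥(K ⊓ centralizer ({F.g} : Set G)) % 3 :=
    card_fixed_modEq (F.ord ▸ pow_orderOf_eq_one F.g) hgK
  rw [hKle, card_bot] at hKmod
  omega

end Ctx

end CfsgLib.SelfCentralSix
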