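import Cfsg.Agent.Lib.SelfCentralSix.CaseA
import Cfsg.Agent.Lib.SelfCentralSix.Core
import Cfsg.Agent.Lib.SelfCentralSix.Four
import Cfsg.Agent.Lib.PCore.Basic
import Cfsg.Agent.S2751

/-!
# `zInv T = ⟨i⟩`: the amalgam bounds `T`
-/

set_option autoImplicit false
set_option linter.style.haveILetI false

namespace CfsgLib.SelfCentralSix

open Subgroup CfsgLib.SelfThree29

universe u

/-- An element of order three inverted in a group of order six generates its centralizer. -/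
theorem sc3_of_six {H : Type*} [Group H] [Finite H] (h6 : Nat.card H = 6) {x s : H} (hx : orderOf x = 3)
    (hs : s * x * s⁻¹ = x⁻¹) : SC3 x := by
  refine ⟨hx, fun g hg => ?_⟩
  have hidx : (zpowers x).index = 2 := by
    have h := (zpowers x).card_mul_index
    rw [Nat.card_zpowers, hx, h6] at h
    omega
  by_contra hgx
  have hne : x⁻¹ ≠ x := fun e => by
    have h2 : x * x = 1 := by nth_rewrite 2 [← e]; exact mul_inv_cancel x
    have := orderOf_dvd_of_pow_eq_one (show x ^ 2 = 1 by rw [sq]; exact h2)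
    rw [hx] at this; norm_num at this
  have hsx : s ∉ zpowers x := fun h => by
    obtain ⟨k, rfl⟩ := h
    apply hne
    rw [← hs]; group
  have hm := (mul_mem_iff_of_index_two hidx (a := s) (b := g)).2 (iff_of_false hsx hgx)
  obtain ⟨k, hk⟩ := hm
  apply hne
  rw [← hs]
  have e : s = x ^ k * g⁻¹ := by rw [show x ^ k = s * g from hk, mul_inv_cancel_right]
  rw [e]
  calc x ^ k * g⁻¹ * x * (x ^ k * g⁻¹)⁻¹ = x ^ k * (g⁻¹ * (x * g)) * (x ^ k)⁻¹ := by group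
    _ = x := by rw [← hg]; group

variable {G : Type u} [Group G]

namespace Small

variable [Finite G] {D : Ctx G} {S : Sylow 2 G} {T : Subgroup G} {b : G}

theorem zInv_sylow (h : Small D S T b) (h8 : 8 < Nat.card T) (hZ : ∀ z ∈ zInv T, z = 1 ∨ z = D.i) :
    ∀ a ∈ zInv (S : Subgroup G), a = 1 ∨ a = D.i := by
  rintro a ⟨haS, ha2, hac⟩
  refine hZ a ⟨?_, ha2, fun p hp => hac p (h.T_le_S hp)⟩
  by_contra haT
  have := h.outer haS haT le_rfl (by omega) fun v hv => hac v (h.T_le_S hv)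
  omega

/-- An involution central modulo `i` gives a four point. -/
theorem fourPoint (h : Small D S T b) (h8 : 8 < Nat.card T) (hZ : ∀ z ∈ zInv T, z = 1 ∨ z = D.i) {j : G}
    (hjT : j ∈ T) (hj2 : j * j = 1) (hj1 : j ≠ 1) (hji : j ≠ D.i)
    (hjc : ∀ t ∈ T, t * j * t⁻¹ = j ∨ t * j * t⁻¹ = j * D.i)
    (hjb : b * j * b⁻¹ = j ∨ b * j * b⁻¹ = j * D.i) : D.IsFourPoint S j := by
  classical
  have hji' : j * D.i = D.i * j := D.mem_C.1 (h.T_le hjT)
  have hcomm : ∀ s ∈ (S : Subgroup G), s * j * s⁻¹ = j ∨ s * j * s⁻¹ = j * D.i := by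
    intro s hs
    rcases h.cover s hs with q | q
    · exact hjc s q
    · rw [show s * j * s⁻¹ = (s * b⁻¹) * (b * j * b⁻¹) * (s * b⁻¹)⁻¹ by group]
      rcases hjb with e | e <;> rw [e]
      · exact hjc _ q
      · rw [show s * b⁻¹ * (j * D.i) * (s * b⁻¹)⁻¹ = s * b⁻¹ * j * (s * b⁻¹)⁻¹ * (s * b⁻¹ * D.i * (s * b⁻¹)⁻¹) by
          group, D.conj_i (h.T_le q)]
        rcases hjc _ q with e' | e' <;> rw [e']
        · exact Or.inr rfl
        · left; rw [mul_assoc, D.i_sq, mul_one]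
  refine ⟨h.S_le, h.zInv_sylow h8 hZ, h.T_le_S hjT, orderOf_two hj2 hj1, hji, hcomm, fun c hc hcj => ?_⟩
  let K : Subgroup G :=
    { carrier := {c | c ∈ D.C ∧ (c * j * c⁻¹ = j ∨ c * j * c⁻¹ = j * D.i)}
      one_mem' := ⟨one_mem _, Or.inl (by group)⟩
      mul_mem' := by
        rintro a c ⟨ha, ha'⟩ ⟨hc, hc'⟩
        refine ⟨mul_mem ha hc, ?_⟩
        rw [show a * c * j * (a * c)⁻¹ = a * (c * j * c⁻¹) * a⁻¹ by group]
        rcases hc' with e | e <;> rw [e]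
        · exact ha'
        · rw [show a * (j * D.i) * a⁻¹ = a * j * a⁻¹ * (a * D.i * a⁻¹) by group, D.conj_i ha]
          rcases ha' with e' | e' <;> rw [e']
          · exact Or.inr rfl
          · left; rw [mul_assoc, D.i_sq, mul_one]
      inv_mem' := by
        rintro a ⟨ha, ha'⟩
        refine ⟨inv_mem ha, ?_⟩
        rcases ha' with e | e
        · left
          calc a⁻¹ * j * a⁻¹⁻¹ = a⁻¹ * (a * j * a⁻¹) * a⁻¹⁻¹ := by rw [e]
            _ = j := by group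
        · right
          calc a⁻¹ * j * a⁻¹⁻¹ = a⁻¹ * (a * j * a⁻¹ * D.i) * a⁻¹⁻¹ := by rw [e, mul_assoc j D.i D.i, D.i_sq, mul_one]
            _ = j * (a⁻¹ * D.i * a⁻¹⁻¹) := by group
            _ = j * D.i := by rw [D.conj_i (inv_mem ha)] }
  refine h.le_S (K := K) (fun a ha => ha.1) (fun s hs => ⟨h.S_le hs, hcomm s hs⟩) ?_
    ⟨hc, Or.inl (mul_inv_eq_iff_eq_mul.2 hcj)⟩
  intro h3
  haveI : Fact (Nat.Prime 3) := ⟨Nat.prime_three⟩
  obtain ⟨⟨y, hyC, hyj⟩, hy⟩ := exists_prime_orderOf_dvd_card' (G := K) 3 h3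
  replace hy : orderOf y = 3 := (Subgroup.orderOf_coe _).trans hy
  have hy3 : y ^ 3 = 1 := hy ▸ pow_orderOf_eq_one y
  have hyi := D.conj_i hyC
  have hyj' : y * j * y⁻¹ = j := hyj.resolve_right fun e => by
    have h1 := conj_triple y j hy3
    have hm : ∀ w, y * (w * D.i) * y⁻¹ = y * w * y⁻¹ * D.i := fun w => by
      rw [show y * (w * D.i) * y⁻¹ = y * w * y⁻¹ * (y * D.i * y⁻¹) by group, hyi]
    rw [e, hm, e, mul_assoc j, D.i_sq, mul_one, e] at h1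
    exact D.i_ne (mul_eq_left.1 h1)
  have hle := D.card_le_two (P := T ⊓ centralizer ({y} : Set G)) (h.two.to_le inf_le_left) hy
    fun p hp => mem_centralizer_singleton_iff.1 (mem_inf.1 hp).2
  set P := T ⊓ centralizer ({y} : Set G) with hP
  have hiP : D.i ∈ P := mem_inf.2 ⟨h.i_mem, mem_centralizer_singleton_iff.2 (D.mem_C.1 hyC).symm⟩
  have hjP : j ∈ P :=
    mem_inf.2 ⟨hjT, mem_centralizer_singleton_iff.2 (mul_inv_eq_iff_eq_mul.1 hyj').symm⟩
  letI : Fintype P := Fintype.ofFinite P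
  rw [Nat.card_eq_fintype_card] at hle
  have h3' : ({1, ⟨D.i, hiP⟩, ⟨j, hjP⟩} : Finset P).card ≤ 2 := (Finset.card_le_univ _).trans hle
  rw [Finset.card_insert_of_notMem, Finset.card_pair] at h3'
  · omega
  · exact fun e => hji (congrArg Subtype.val e).symm
  · simp only [Finset.mem_insert, Finset.mem_singleton, Subtype.ext_iff, Subgroup.coe_one]
    rintro (e | e)
    · exact D.i_ne e.symm
    · exact hj1 e.symm

set_option maxHeartbeats 2000000 in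
/-- `T` has order 32. -/
theorem card_T (h : Small D S T b) (h8 : 8 < Nat.card T) (hZ : ∀ z ∈ zInv T, z = 1 ∨ z = D.i) {j : G}
    (hj : D.IsFourPoint S j) (hjT : j ∈ T) : Nat.card T = 32 := by
  classical
  haveI : Fact (Nat.Prime 2) := ⟨Nat.prime_two⟩
  obtain ⟨F⟩ := D.exists_four hj
  set g := F.g with hg
  set s0 := F.s0 with hs0
  have hj1 : j ≠ 1 := fun e => by have := hj.ord; rw [e, orderOf_one] at this; omega
  have hj2 : j * j = 1 := by rw [← sq, ← hj.ord, pow_orderOf_eq_one]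
  have hji : j * D.i = D.i * j := D.mem_C.1 (h.T_le hjT)
  set Q := (S : Subgroup G) ⊓ centralizer ({j} : Set G) with hQ
  have hQmem : ∀ {q : G}, q ∈ Q ↔ q ∈ (S : Subgroup G) ∧ q * j = j * q := fun {q} => by
    rw [hQ, mem_inf, mem_centralizer_singleton_iff]
  have hiQ : D.i ∈ zInv Q := ⟨hQmem.2 ⟨D.i_mem_sylow h.S_le, hji.symm⟩, D.i_sq,
    fun q hq => D.mem_C.1 (h.S_le (hQmem.1 hq).1)⟩
  have hjQ : j ∈ zInv Q := ⟨hQmem.2 ⟨hj.mem, rfl⟩, hj2, fun q hq => (hQmem.1 hq).2⟩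
  have hgN : g ∈ normalizer (Q : Set G) := F.g_mem
  have hg3 : g ^ 3 = 1 := F.ord ▸ pow_orderOf_eq_one g
  have hgi : g * D.i * g⁻¹ = D.i * j := F.g_i
  have hgj : g * j * g⁻¹ = D.i := F.g_j
  have hgij : g * (D.i * j) * g⁻¹ = j := by
    rw [show g * (D.i * j) * g⁻¹ = g * D.i * g⁻¹ * (g * j * g⁻¹) by group, hgi, hgj, mul_assoc, hji,
      ← mul_assoc, D.i_sq, one_mul]
  have hij1 : D.i * j ≠ 1 := fun e => hj.ne ((inv_eq_of_mul_eq_one_right e).symm.trans D.i_inv)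
  have hiji : D.i * j ≠ D.i := fun e => hj1 (mul_eq_left.1 e)
  set M := normalizer (zInv Q : Set G) with hM
  have hQz : ∀ z ∈ zInv Q, z = 1 ∨ z = D.i ∨ z = j ∨ z = D.i * j := F.zInv_le
  have hgM : g ∈ M := zInv_normalized hgN
  have hSM : (S : Subgroup G) ≤ M := by
    intro s hs
    refine Subgroup.mem_normalizer_fintype fun z hz => ?_
    rcases hQz z hz with e | e | e | e <;> rw [e]
    · rw [mul_one, mul_inv_cancel]; exact one_mem _
    · rw [D.conj_i (h.S_le hs)]; exact hiQ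
    · rcases hj.comm s hs with q | q <;> rw [q]
      exacts [hjQ, mul_mem hjQ hiQ]
    · rw [show s * (D.i * j) * s⁻¹ = s * D.i * s⁻¹ * (s * j * s⁻¹) by group, D.conj_i (h.S_le hs)]
      rcases hj.comm s hs with q | q <;> rw [q]
      exacts [mul_mem hiQ hjQ, mul_mem hiQ (mul_mem hjQ hiQ)]
  have hMC : ∀ m ∈ M, m ∈ D.C → m ∈ (S : Subgroup G) := by
    intro m hmM hmC
    have hmj : m * j * m⁻¹ = j ∨ m * j * m⁻¹ = j * D.i := by
      have hinj : ∀ w, m * j * m⁻¹ = m * w * m⁻¹ → j = w := fun w e => (MulAut.conj m).injective e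
      rcases hQz _ ((mem_normalizer_iff.1 hmM j).1 hjQ) with e | e | e | e
      · exact absurd (conj_eq_one_iff.1 e) hj1
      · exact absurd (hinj D.i (by rw [e, D.conj_i hmC])) hj.ne
      · exact Or.inl e
      · exact Or.inr (e.trans hji.symm)
    rcases hmj with e | e
    · exact hj.stab m hmC (mul_inv_eq_iff_eq_mul.1 e)
    · have h1 := hj.stab (s0 * m) (mul_mem (h.S_le F.s0_mem) hmC) (mul_inv_eq_iff_eq_mul.1 (by
        rw [show s0 * m * j * (s0 * m)⁻¹ = s0 * (m * j * m⁻¹) * s0⁻¹ by group, e,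
          show s0 * (j * D.i) * s0⁻¹ = s0 * j * s0⁻¹ * (s0 * D.i * s0⁻¹) by group, F.s0_conj,
          D.conj_i (h.S_le F.s0_mem), mul_assoc, D.i_sq, mul_one]))
      exact (mul_mem_cancel_left F.s0_mem).1 h1
  have hgC : g ∉ D.C := fun e => by
    rw [D.conj_i e] at hgi
    exact hiji hgi.symm
  have hgg : g * g * D.i * (g * g)⁻¹ = j := by
    rw [show g * g * D.i * (g * g)⁻¹ = g * (g * D.i * g⁻¹) * g⁻¹ by group, hgi, hgij]
  have hcardM : Nat.card M = 6 * Nat.card Q := by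
    let f : Fin 3 × (S : Subgroup G) → M := fun p =>
      ⟨g ^ (p.1 : ℕ) * p.2, mul_mem (pow_mem hgM _) (hSM p.2.2)⟩
    have hf : Function.Bijective f := by
      constructor
      · rintro ⟨k, s⟩ ⟨l, t⟩ e
        have e' : g ^ (k : ℕ) * (s : G) = g ^ (l : ℕ) * t := congrArg Subtype.val e
        have hz : (g ^ (l : ℕ))⁻¹ * g ^ (k : ℕ) ∈ D.C := by
          have : (g ^ (l : ℕ))⁻¹ * g ^ (k : ℕ) = (t : G) * (s : G)⁻¹ := by
            rw [eq_mul_inv_iff_mul_eq, mul_assoc, e', inv_mul_cancel_left]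
          rw [this]; exact mul_mem (h.S_le t.2) (inv_mem (h.S_le s.2))
        have hkl : k = l := by
          have hg2 : g ^ 2 ∉ D.C := fun e2 => hgC (by
            have := mul_mem e2 e2
            rwa [← pow_add, pow_succ, hg3, one_mul] at this)
          fin_cases k <;> fin_cases l <;> simp only [pow_zero, pow_one, inv_one, one_mul, mul_one] at hz
          · rfl
          · exact absurd (inv_mem_iff.1 hz) hgC
          · exact absurd (inv_mem_iff.1 hz) hg2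
          · exact absurd hz hgC
          · rfl
          · exact absurd (by have := inv_mem hz; rwa [mul_inv_rev, inv_inv, pow_two, ← mul_assoc, inv_mul_cancel, one_mul] at this) hgC
          · exact absurd hz hg2
          · exact absurd (by rwa [pow_two, ← mul_assoc, inv_mul_cancel, one_mul] at hz) hgC
          · rfl
        subst hkl
        exact Prod.ext rfl (Subtype.ext (mul_left_cancel e'))
      · rintro ⟨m, hm⟩
        obtain ⟨k, hk⟩ : ∃ k : Fin 3, g ^ (k : ℕ) * D.i * (g ^ (k : ℕ))⁻¹ = m * D.i * m⁻¹ := by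
          rcases hQz _ ((mem_normalizer_iff.1 hm _).1 hiQ) with e | e | e | e
          · exact absurd (conj_eq_one_iff.1 e) D.i_ne
          · exact ⟨0, by rw [e]; simp⟩
          · exact ⟨2, by rw [e, Fin.val_two, pow_two, hgg]⟩
          · exact ⟨1, by rw [e, Fin.val_one, pow_one, hgi]⟩
        have hs : (g ^ (k : ℕ))⁻¹ * m ∈ (S : Subgroup G) := hMC _ (mul_mem (inv_mem (pow_mem hgM _)) hm)
          (D.mem_C.2 (mul_inv_eq_iff_eq_mul.1 (by
            rw [show (g ^ (k : ℕ))⁻¹ * m * D.i * ((g ^ (k : ℕ))⁻¹ * m)⁻¹ =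
              (g ^ (k : ℕ))⁻¹ * (m * D.i * m⁻¹) * g ^ (k : ℕ) by group, ← hk]
            group)))
        exact ⟨⟨k, _, hs⟩, Subtype.ext (by show g ^ (k : ℕ) * ((g ^ (k : ℕ))⁻¹ * m) = m; group)⟩
    rw [← Nat.card_eq_of_bijective f hf, Nat.card_prod, Nat.card_fin, F.card_eq]
    ring
  -- `Q` is normal in `M`
  have hQM : Q ≤ M := fun q hq => hSM (hQmem.1 hq).1
  have hQn : ∀ m ∈ M, ∀ q ∈ Q, m * q * m⁻¹ ∈ Q := by
    intro m hm q hq
    have hfix : ∀ z ∈ zInv Q, q * z = z * q := fun z hz => hz.2.2 q hq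
    have hc : ∀ z ∈ zInv Q, m * q * m⁻¹ * z = z * (m * q * m⁻¹) := by
      intro z hz
      have h1 := conj_comm (g := m) (hfix _ ((mem_normalizer_iff.1 (inv_mem hm) z).1 hz))
      rwa [show m * (m⁻¹ * z * m⁻¹⁻¹) * m⁻¹ = z by group] at h1
    exact hQmem.2 ⟨hMC _ (mul_mem (mul_mem hm (hQM hq)) (inv_mem hm)) (D.mem_C.2 (hc _ hiQ)), hc _ hjQ⟩
  haveI hQnM : (Q.subgroupOf M).Normal := ⟨fun q hq m => hQn _ m.2 _ hq⟩
  have hs0M : s0 ∈ M := hSM F.s0_mem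
  have hs0g : s0 * g * s0⁻¹ * g ∈ Q := by
    have hi' : s0⁻¹ * D.i * s0⁻¹⁻¹ = D.i := D.conj_i (inv_mem (h.S_le F.s0_mem))
    have hs0j : s0⁻¹ * j * s0⁻¹⁻¹ = j * D.i := by
      calc s0⁻¹ * j * s0⁻¹⁻¹ = s0⁻¹ * (s0 * j * s0⁻¹ * D.i) * s0⁻¹⁻¹ := by
            rw [F.s0_conj, mul_assoc j D.i D.i, D.i_sq, mul_one]
        _ = j * (s0⁻¹ * D.i * s0⁻¹⁻¹) := by group
        _ = _ := by rw [hi']
    have ei : s0 * g * s0⁻¹ * g * D.i * (s0 * g * s0⁻¹ * g)⁻¹ = D.i := by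
      rw [show s0 * g * s0⁻¹ * g * D.i * (s0 * g * s0⁻¹ * g)⁻¹ =
        s0 * (g * (s0⁻¹ * (g * D.i * g⁻¹) * s0⁻¹⁻¹) * g⁻¹) * s0⁻¹ by group, hgi,
        show s0⁻¹ * (D.i * j) * s0⁻¹⁻¹ = s0⁻¹ * D.i * s0⁻¹⁻¹ * (s0⁻¹ * j * s0⁻¹⁻¹) by group, hi', hs0j, hji,
        ← mul_assoc D.i D.i j, D.i_sq, one_mul, hgj, D.conj_i (h.S_le F.s0_mem)]
    have ej : s0 * g * s0⁻¹ * g * j * (s0 * g * s0⁻¹ * g)⁻¹ = j := by
      rw [show s0 * g * s0⁻¹ * g * j * (s0 * g * s0⁻¹ * g)⁻¹ =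
        s0 * (g * (s0⁻¹ * (g * j * g⁻¹) * s0⁻¹⁻¹) * g⁻¹) * s0⁻¹ by group, hgj, hi', hgi,
        show s0 * (D.i * j) * s0⁻¹ = s0 * D.i * s0⁻¹ * (s0 * j * s0⁻¹) by group,
        D.conj_i (h.S_le F.s0_mem), F.s0_conj, hji, ← mul_assoc D.i D.i j, D.i_sq, one_mul]
    have hC' : s0 * g * s0⁻¹ * g ∈ D.C := D.mem_C.2 (mul_inv_eq_iff_eq_mul.1 ei)
    exact hQmem.2 ⟨hMC _ (mul_mem (mul_mem (mul_mem hs0M hgM) (inv_mem hs0M)) hgM) hC',
      mul_inv_eq_iff_eq_mul.1 ej⟩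
  have hQ2 : IsPGroup 2 Q := S.2.to_le inf_le_left
  have hcoreM : Cfsg.pCore 2 ↥M = Q.subgroupOf M := by
    refine le_antisymm ?_ (CfsgLib.PCore.le_pCore hQnM (hQ2.of_equiv (subgroupOfEquivOfLe hQM).symm))
    intro p hp
    have hS : ∀ q : M, q ∈ Cfsg.pCore 2 ↥M → (q : G) ∈ (S : Subgroup G) := fun q hq =>
      mem_subgroupOf.1 (CfsgLib.PCore.pCore_le_sylow (S.subtype hSM) hq)
    refine mem_subgroupOf.2 (hQmem.2 ⟨hS p hp, ?_⟩)
    rcases hj.comm _ (hS p hp) with e | e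
    · exact mul_inv_eq_iff_eq_mul.1 e
    exfalso
    have h1 := hS _ ((Cfsg.pCore_normal 2 ↥M).conj_mem p hp ⟨g, hgM⟩)
    have h2 : g * (p : G) * g⁻¹ * D.i * (g * (p : G) * g⁻¹)⁻¹ = D.i := D.conj_i (h.S_le h1)
    have hgi' : g⁻¹ * D.i * g = j := by
      calc g⁻¹ * D.i * g = g⁻¹ * (g * j * g⁻¹) * g := by rw [hgj]
        _ = j := by group
    rw [show g * (p : G) * g⁻¹ * D.i * (g * (p : G) * g⁻¹)⁻¹ = g * ((p : G) * (g⁻¹ * D.i * g) * (p : G)⁻¹) * g⁻¹ by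
      group, hgi', e, show g * (j * D.i) * g⁻¹ = g * j * g⁻¹ * (g * D.i * g⁻¹) by group, hgj, hgi, ← mul_assoc,
      D.i_sq, one_mul] at h2
    exact hj.ne h2
  have hT2 : IsPGroup 2 (T.subgroupOf D.C) := h.two.of_equiv (subgroupOfEquivOfLe h.T_le).symm
  haveI hTn : (T.subgroupOf D.C).Normal := ⟨fun t ht c => h.T_conj _ c.2 _ ht⟩
  have hcoreC : Cfsg.pCore 2 ↥D.C = T.subgroupOf D.C := by
    refine le_antisymm ?_ (CfsgLib.PCore.le_pCore hTn hT2)
    intro p hp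
    refine mem_subgroupOf.2 (h.le_T (K := (Cfsg.pCore 2 ↥D.C).map D.C.subtype) (map_subtype_le _) ?_ ?_ ⟨p, hp, rfl⟩)
    · rintro c hc _ ⟨q, hq, rfl⟩
      exact ⟨⟨c, hc⟩ * q * ⟨c, hc⟩⁻¹, (Cfsg.pCore_normal 2 ↥D.C).conj_mem q hq _, rfl⟩
    · rw [card_map_of_injective D.C.subtype_injective]
      obtain ⟨k, hk⟩ := IsPGroup.iff_card.1 (CfsgLib.PCore.pCore_isPGroup (p := 2) (G := ↥D.C))
      rw [hk]
      intro h3
      have := Nat.prime_three.dvd_of_dvd_pow h3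
      norm_num at this
  have hquot : ∀ (L : Subgroup G) (N : Subgroup ↥L) [N.Normal] (y s : L), Nat.card L = 6 * Nat.card N →
      orderOf (y : G) = 3 → y ∉ N → s * y * s⁻¹ * y ∈ N → Nonempty (↥L ⧸ N ≃* Equiv.Perm (Fin 3)) := by
    intro L N _ y s hcard hy hyN hsy
    have h6 : Nat.card (↥L ⧸ N) = 6 := by
      have h1 := N.card_mul_index
      rw [Subgroup.index, hcard, mul_comm 6] at h1
      exact Nat.eq_of_mul_eq_mul_left Nat.card_pos h1
    have ho : orderOf (y : ↥L ⧸ N) = 3 := by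
      refine orderOf_eq_prime (hp := ⟨Nat.prime_three⟩) ?_ fun e => hyN ((QuotientGroup.eq_one_iff y).1 e)
      rw [← QuotientGroup.mk_pow, show y ^ 3 = 1 from Subtype.ext (by
        rw [SubmonoidClass.coe_pow, ← hy, pow_orderOf_eq_one]; rfl)]
      rfl
    have hinv : (s : ↥L ⧸ N) * y * (s : ↥L ⧸ N)⁻¹ = (y : ↥L ⧸ N)⁻¹ :=
      eq_inv_of_mul_eq_one_left ((QuotientGroup.eq_one_iff _).2 hsy)
    exact nonempty_mulEquiv_perm_three h6 (sc3_of_six h6 ho hinv) hinv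
  have hbb1 : Nonempty (↥D.C ⧸ Cfsg.pCore 2 ↥D.C ≃* Equiv.Perm (Fin 3)) := by
    obtain ⟨e⟩ := hquot D.C (T.subgroupOf D.C) D.xC ⟨b, h.b_mem⟩
      (by rw [Nat.card_congr (subgroupOfEquivOfLe h.T_le).toEquiv]; exact h.card) D.ox
      (fun e => h.x_notMem' (mem_subgroupOf.1 e)) (mem_subgroupOf.2 (by
        show b * D.x * b⁻¹ * D.x ∈ T
        rw [h.b_x, inv_mul_cancel]; exact one_mem T))
    exact ⟨(QuotientGroup.quotientMulEquivOfEq hcoreC).trans e⟩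
  have hbb2 : Nonempty (↥M ⧸ Cfsg.pCore 2 ↥M ≃* Equiv.Perm (Fin 3)) := by
    obtain ⟨e⟩ := hquot M (Q.subgroupOf M) ⟨g, hgM⟩ ⟨s0, hs0M⟩
      (by rw [Nat.card_congr (subgroupOfEquivOfLe hQM).toEquiv]; exact hcardM) F.ord
      (fun e => hgC (h.S_le (hQmem.1 (mem_subgroupOf.1 e)).1)) (mem_subgroupOf.2 hs0g)
    exact ⟨(QuotientGroup.quotientMulEquivOfEq hcoreM).trans e⟩
  have hCM : D.C ⊓ M = (S : Subgroup G) :=
    le_antisymm (fun m hm => hMC m (mem_inf.1 hm).2 (mem_inf.1 hm).1) (le_inf h.S_le hSM)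
  obtain ⟨k, hk⟩ := h.exists_pow
  have hmod := (D.x_fixed h.two (h.normalizer_T D.x_mem) h.i_mem).1
  rw [hk] at h8 hmod ⊢
  by_cases hred : ∀ N : Subgroup G, N ≤ D.C ⊓ M → (N.subgroupOf D.C).Normal → (N.subgroupOf M).Normal → N = ⊥
  · have hb := Cfsg.Agent.S2751.result D.C M ⟨S.subtype h.S_le, by rw [Sylow.coe_subtype, hCM]⟩
      ⟨S.subtype hSM, by rw [Sylow.coe_subtype, hCM]⟩ hbb1 hbb2 hred
    rw [hCM, h.card_S, hk, ← pow_succ'] at hb
    have h7 : k + 1 ≤ 7 := (Nat.pow_le_pow_iff_right (by norm_num : 1 < 2)).1 hb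
    have hk6 : k ≤ 6 := by omega
    interval_cases k <;> omega
  push Not at hred
  obtain ⟨N, hNle, hNC, hNM, hNne⟩ := hred
  have hNS : N ≤ (S : Subgroup G) := hNle.trans_eq hCM
  have hconjC : ∀ c ∈ D.C, ∀ n ∈ N, c * n * c⁻¹ ∈ N := fun c hc n hn =>
    mem_subgroupOf.1 (hNC.conj_mem ⟨n, h.S_le (hNS hn)⟩ (mem_subgroupOf.2 hn) ⟨c, hc⟩)
  have hconjM : ∀ m ∈ M, ∀ n ∈ N, m * n * m⁻¹ ∈ N := fun m hm n hn =>
    mem_subgroupOf.1 (hNM.conj_mem ⟨n, hSM (hNS hn)⟩ (mem_subgroupOf.2 hn) ⟨m, hm⟩)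
  have hCL : D.C ≤ normalizer (N : Set G) := fun c hc => Subgroup.mem_normalizer_fintype fun n hn => hconjC c hc n hn
  have hgL : g ∈ normalizer (N : Set G) := Subgroup.mem_normalizer_fintype fun n hn => hconjM g hgM n hn
  obtain ⟨z, hzN, hzS, hz2⟩ := exists_zInv_mem S.2 hNS hNne (h.S_le.trans hCL)
  have hiN : D.i ∈ N := by
    rcases h.zInv_sylow (hk ▸ h8) hZ z hzS with e | e
    · rw [e, orderOf_one] at hz2; omega
    · rwa [← e]
  have hNT : N ≤ T := h.le_T (hNS.trans h.S_le) hconjC (fun h3 => by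
    obtain ⟨m, hm⟩ := IsPGroup.iff_card.1 (S.2.to_le hNS)
    rw [hm] at h3
    have := Nat.prime_three.dvd_of_dvd_pow h3
    norm_num at this)
  set Y := zInv N with hY
  have hiY : D.i ∈ Y := ⟨hiN, D.i_sq, fun n hn => D.mem_C.1 (h.S_le (hNS hn))⟩
  have hjY : j ∈ Y := by
    have h1 := (mem_normalizer_iff.1 (mul_mem (zInv_normalized hgL) (zInv_normalized hgL)) _).1 hiY
    rwa [hgg] at h1
  rcases h.layer (Y := Y) hCL (fun y hy => hNT hy.1) (fun w hw y hy => (mem_normalizer_iff.1 (zInv_normalized hw) y).1 hy)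
    (fun y hy => hy.2.1) hiY hjY hj1 hj.ne with hL | ⟨hT, -⟩
  · exact absurd (hL hgL) hgC
  · rwa [hk] at hT

end Small

end CfsgLib.SelfCentralSix
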