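import Cfsg.Agent.Lib.SelfCentralSix.Tools
import Cfsg.Agent.Lib.SelfThree29.Main

/-!
# The structure of the centralizer of the involution
-/

set_option autoImplicit false
set_option linter.style.haveILetI false

namespace CfsgLib.SelfCentralSix

open Subgroup CfsgLib.SelfThree29

universe u

variable {G : Type u} [Group G]

/-- `C` is nilpotent-by-(`3` or `S₃`). -/
structure NilCase (D : Ctx G) (M : Subgroup G) : Prop where
  le : M ≤ D.C
  conj : ∀ c ∈ D.C, ∀ m ∈ M, c * m * c⁻¹ ∈ M
  i_mem : D.i ∈ M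
  not_three : ¬ 3 ∣ Nat.card M
  nil : Group.IsNilpotent M
  card : Nat.card D.C = 3 * Nat.card M ∨
    (Nat.card D.C = 6 * Nat.card M ∧ ∃ b ∈ D.C, b * D.x * b⁻¹ = D.x⁻¹ ∧ (b * b = 1 ∨ b * b = D.i))

/-- `C` is an extension of a 2-group by a simple group. -/
structure SimpleCase (D : Ctx G) {K : Type u} [Group K] (π : D.C →* K) : Prop where
  surj : Function.Surjective π
  simple : IsSimpleGroup K
  sc3 : SC3 (π D.xC)
  ker : IsPGroup 2 π.ker
  i_ker : D.iC ∈ π.ker
  card : Nat.card K = 60 ∨ (Nat.card K = 168 ∧ Nat.card π.ker = 2)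

namespace Ctx

variable [Finite G] (D : Ctx G)
include D

set_option maxHeartbeats 1000000 in
theorem cases :
    (∃ M, NilCase D M) ∨
      ∃ (K : Type u) (_ : Group K) (_ : Finite K) (π : D.C →* K), SimpleCase D π := by
  classical
  set Z := zpowers D.iC with hZ
  have hx := D.sc3
  set X : D.C ⧸ Z := QuotientGroup.mk D.xC with hX
  have hZc : Z ≤ center D.C := zpowers_le.2 (mem_center_iff.2 fun g => Subtype.ext (D.mem_C.1 g.2))
  have hZ2 : Nat.card Z = 2 := by
    rw [hZ, Nat.card_zpowers, ← orderOf_coe]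
    exact D.oi
  obtain ⟨N, hN, hN3, hred⟩ := exists_core X
  have hQ := hx.quotient N hN3
  have hnil : Group.IsNilpotent N :=
    hx.isNilpotent (by rw [normalizer_eq_top]; exact mem_top X) hN3
  set π : D.C →* (D.C ⧸ Z) ⧸ N := (QuotientGroup.mk' N).comp (QuotientGroup.mk' Z) with hπ
  have hsurj : Function.Surjective π :=
    (QuotientGroup.mk'_surjective N).comp (QuotientGroup.mk'_surjective Z)
  have hmem : ∀ c : D.C, c ∈ π.ker ↔ QuotientGroup.mk' Z c ∈ N := fun c => by
    rw [MonoidHom.mem_ker, hπ, MonoidHom.comp_apply, QuotientGroup.mk'_apply N, QuotientGroup.eq_one_iff]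
  have hiK : D.iC ∈ π.ker := by
    rw [hmem, QuotientGroup.mk'_apply, (QuotientGroup.eq_one_iff _).2 (mem_zpowers _)]
    exact one_mem N
  have hkercard : Nat.card π.ker = 2 * Nat.card N := by
    let f : π.ker →* N :=
      { toFun := fun c => ⟨QuotientGroup.mk' Z c, (hmem c).1 c.2⟩
        map_one' := Subtype.ext (map_one (QuotientGroup.mk' Z))
        map_mul' := fun a b => Subtype.ext (map_mul (QuotientGroup.mk' Z) (a : D.C) b) }
    have hf : Function.Surjective f := by
      rintro ⟨q, hq⟩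
      obtain ⟨c, rfl⟩ := QuotientGroup.mk'_surjective Z q
      exact ⟨⟨c, (hmem c).2 hq⟩, rfl⟩
    have hk : f.ker = Z.subgroupOf π.ker := by
      ext c
      simp [f, MonoidHom.mem_ker, Subtype.ext_iff, mem_subgroupOf, QuotientGroup.eq_one_iff]
    have h := f.ker.card_mul_index
    rw [index_ker, MonoidHom.range_eq_top.2 hf, card_top, hk,
      Nat.card_congr (subgroupOfEquivOfLe (fun z hz => (hmem z).2 (by
        rw [QuotientGroup.mk'_apply, (QuotientGroup.eq_one_iff _).2 hz]; exact one_mem N))).toEquiv, hZ2] at h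
    exact h.symm
  have hcardC : Nat.card D.C = Nat.card ((D.C ⧸ Z) ⧸ N) * Nat.card π.ker := by
    have h := π.ker.card_mul_index
    rw [index_ker, MonoidHom.range_eq_top.2 hsurj, card_top] at h
    rw [← h, mul_comm]
  rcases hQ.reduced_cases hred with h | ⟨h, s, hs⟩ | ⟨hsimp, hbig, -⟩
  rotate_left 2
  · refine Or.inr ⟨(D.C ⧸ Z) ⧸ N, inferInstance, inferInstance, π, hsurj, hsimp, hQ, ?_, hiK, ?_⟩
    · obtain ⟨hcard, a, b, ha, hb, hab⟩ := hQ.good hbig
      rcases hcard with h60 | h168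
      · obtain ⟨-, hsq⟩ := hx.ext_elementary N hN3 ha hb hab
        intro c
        refine ⟨2, Subtype.ext ?_⟩
        have h1 := hsq _ ((hmem c).1 c.2)
        rw [← map_pow, QuotientGroup.mk'_apply, QuotientGroup.eq_one_iff] at h1
        obtain ⟨k, hk⟩ := h1
        simp only at hk
        show (c : D.C) ^ 2 ^ 2 = 1
        rw [show (2 : ℕ) ^ 2 = 2 * 2 from rfl, pow_mul, ← hk, ← zpow_natCast, ← zpow_mul, mul_comm, zpow_mul,
          zpow_natCast, show D.iC ^ 2 = 1 from Subtype.ext (by rw [SubmonoidClass.coe_pow, sq]; exact D.i_sq),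
          one_zpow]
      · have hbot := hx.core_eq_bot_of_168 N hN3 h168 ha hb hab
        exact IsPGroup.of_card (n := 1) (by rw [hkercard, hbot, card_bot]; norm_num)
    · obtain ⟨hcard, a, b, ha, hb, hab⟩ := hQ.good hbig
      rcases hcard with h60 | h168
      · exact Or.inl h60
      · exact Or.inr ⟨h168, by rw [hkercard, hx.core_eq_bot_of_168 N hN3 h168 ha hb hab, card_bot]⟩
  all_goals
    have hMnil : Group.IsNilpotent π.ker := by
      let f : π.ker →* N :=
        { toFun := fun c => ⟨QuotientGroup.mk' Z c, (hmem c).1 c.2⟩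
          map_one' := Subtype.ext (map_one (QuotientGroup.mk' Z))
          map_mul' := fun a b => Subtype.ext (map_mul (QuotientGroup.mk' Z) (a : D.C) b) }
      haveI := hnil
      refine Subgroup.isNilpotent_of_ker_le_center f (fun c hc => mem_center_iff.2 fun d => Subtype.ext ?_)
      have h1 : (c : D.C) ∈ Z := (QuotientGroup.eq_one_iff _).1 (congrArg Subtype.val (MonoidHom.mem_ker.1 hc))
      exact mem_center_iff.1 (hZc h1) d
    refine Or.inl ⟨π.ker.map D.C.subtype, Subgroup.map_subtype_le _, ?_, ⟨_, hiK, rfl⟩, ?_, ?_, ?_⟩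
    · rintro c hc _ ⟨m, hm, rfl⟩
      exact ⟨⟨c, hc⟩ * m * ⟨c, hc⟩⁻¹, π.normal_ker.conj_mem m hm _, rfl⟩
    · rw [card_map_of_injective D.C.subtype_injective, hkercard, Nat.prime_three.dvd_mul, not_or]
      exact ⟨by norm_num, hN3⟩
    · exact Group.nilpotent_of_mulEquiv (equivMapOfInjective _ _ D.C.subtype_injective)
  · exact Or.inl (by rw [card_map_of_injective D.C.subtype_injective, hcardC, h])
  · refine Or.inr ⟨by rw [card_map_of_injective D.C.subtype_injective, hcardC, h], ?_⟩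
    obtain ⟨h0, rfl⟩ := QuotientGroup.mk'_surjective N s
    have hd : X⁻¹⁻¹ * (h0 * X * h0⁻¹) ∈ N := by
      rw [← QuotientGroup.eq_one_iff]
      simp only [QuotientGroup.mk_mul, QuotientGroup.mk_inv, QuotientGroup.mk'_apply] at hs ⊢
      rw [hs, inv_mul_cancel]
    obtain ⟨n, -, hn⟩ := hx.inv.exists_conj_eq N hN3 hd
    have hβ : n⁻¹ * h0 * X * (n⁻¹ * h0)⁻¹ = X⁻¹ := by
      calc n⁻¹ * h0 * X * (n⁻¹ * h0)⁻¹ = n⁻¹ * (h0 * X * h0⁻¹) * n := by group
        _ = n⁻¹ * (n * X⁻¹ * n⁻¹) * n := by rw [hn]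
        _ = X⁻¹ := by group
    have hsq := hx.inverter_mul_self hβ
    obtain ⟨b, hb⟩ := QuotientGroup.mk'_surjective Z (n⁻¹ * h0)
    rw [← hb, QuotientGroup.mk'_apply] at hβ hsq
    refine ⟨b, b.2, ?_, ?_⟩
    · rw [hX, ← QuotientGroup.mk_inv, ← QuotientGroup.mk_inv, ← QuotientGroup.mk_mul, ← QuotientGroup.mk_mul] at hβ
      rcases D.mk_eq_iff.1 hβ with e | e
      · exact e.symm
      · exfalso
        have e' : D.x⁻¹ = (b : G) * D.x * (b : G)⁻¹ * D.i := e
        have hc : Commute ((b : G) * D.x * (b : G)⁻¹) D.i :=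
          D.mem_C.1 (mul_mem (mul_mem b.2 D.x_mem) (inv_mem b.2))
        have h3 := D.ox
        rw [← orderOf_inv, e', hc.orderOf_mul_eq_mul_orderOf_of_coprime (by
          rw [orderOf_cj, D.ox, D.oi]; norm_num), orderOf_cj, D.ox, D.oi] at h3
        omega
    · rw [← QuotientGroup.mk_mul, ← QuotientGroup.mk_one] at hsq
      rcases D.mk_eq_iff.1 hsq.symm with e | e
      · exact Or.inl e
      · exact Or.inr (by
          have e' : (b : G) * b = 1 * D.i := e
          rwa [one_mul] at e')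

end Ctx

end CfsgLib.SelfCentralSix
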