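import Cfsg.Agent.Lib.SelfCentralSix.Cases
import Cfsg.Agent.Lib.Solvable.NilpotentSubgroups
import Cfsg.Agent.Lib.PCore.Basic

/-!
# The nilpotent case: the 2-part and the odd part
-/

set_option autoImplicit false
set_option linter.style.haveILetI false

namespace CfsgLib.SelfCentralSix

open Subgroup CfsgLib.SelfThree29

universe u

variable {G : Type u} [Group G]

/-- `T = O₂(C)` and `O = O(C)`. -/
structure Dec (D : Ctx G) (T O : Subgroup G) : Prop where
  T_le : T ≤ D.C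
  O_le : O ≤ D.C
  T_conj : ∀ c ∈ D.C, ∀ t ∈ T, c * t * c⁻¹ ∈ T
  O_conj : ∀ c ∈ D.C, ∀ o ∈ O, c * o * c⁻¹ ∈ O
  two : IsPGroup 2 T
  odd : Odd (Nat.card O)
  comm : ∀ t ∈ T, ∀ o ∈ O, t * o = o * t
  i_mem : D.i ∈ T
  coprime : ∀ o ∈ O, (orderOf o).Coprime 6
  mem_O : ∀ c ∈ D.C, (orderOf c).Coprime 6 → c ∈ O
  card : Nat.card D.C = 3 * (Nat.card T * Nat.card O) ∨
    (Nat.card D.C = 6 * (Nat.card T * Nat.card O) ∧
      ∃ b ∈ D.C, b * D.x * b⁻¹ = D.x⁻¹ ∧ (b * b = 1 ∨ b * b = D.i))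

theorem coprime_six {n : ℕ} : n.Coprime 6 ↔ n.Coprime 2 ∧ n.Coprime 3 := by
  rw [show (6 : ℕ) = 2 * 3 by norm_num, Nat.coprime_mul_iff_right]

namespace Ctx

variable [Finite G] (D : Ctx G)
include D

theorem exists_dec {M : Subgroup G} (h : NilCase D M) : ∃ T O, Dec D T O := by
  classical
  haveI : Fact (Nat.Prime 2) := ⟨Nat.prime_two⟩
  haveI := h.nil
  obtain ⟨P, N, hN, hc⟩ :=
    CfsgLib.NilpotentSubgroups.hasNormalPComplement_of_nilpotent (p := 2) (N := M)
  haveI := hN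
  haveI hPn : (P : Subgroup M).Normal := by
    have := ((Group.isNilpotent_of_finite_tfae (G := M)).out 0 3).1 h.nil
    exact this 2 ⟨Nat.prime_two⟩ P
  have hNodd : ¬ 2 ∣ Nat.card N := by
    rw [← hc.index_eq_card]
    exact P.not_dvd_index
  have hNcop : ∀ o : M, o ∈ N → (orderOf (o : G)).Coprime 6 := fun o ho => by
    rw [orderOf_coe]
    refine Nat.Coprime.coprime_dvd_left (Subgroup.orderOf_dvd_natCard N ho) ?_
    rw [coprime_six]
    exact ⟨(Nat.prime_two.coprime_iff_not_dvd.2 hNodd).symm,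
      (Nat.prime_three.coprime_iff_not_dvd.2 fun h3 =>
        h.not_three (h3.trans (card_subgroup_dvd_card N))).symm⟩
  have hquot : ∀ c : G, ∀ hc' : c ∈ D.C, (orderOf c).Coprime 6 → c ∈ M := by
    intro c hc' hcop
    haveI : (M.subgroupOf D.C).Normal := ⟨fun m hm g => h.conj _ g.2 _ hm⟩
    have hd : (M.subgroupOf D.C).index ∣ 6 := by
      have h1 := (M.subgroupOf D.C).card_mul_index
      rw [Nat.card_congr (subgroupOfEquivOfLe h.le).toEquiv] at h1
      rcases h.card with e | ⟨e, -⟩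
      · rw [e, mul_comm 3] at h1
        rw [mul_left_cancel₀ Nat.card_pos.ne' h1]
        norm_num
      · rw [e, mul_comm 6] at h1
        rw [mul_left_cancel₀ Nat.card_pos.ne' h1]
    have h2 : QuotientGroup.mk' (M.subgroupOf D.C) ⟨c, hc'⟩ = 1 := by
      rw [← orderOf_eq_one_iff]
      refine Nat.eq_one_of_dvd_coprimes hcop ((orderOf_map_dvd _ _).trans (by rw [← orderOf_coe])) ?_
      exact (_root_.orderOf_dvd_natCard _).trans (by rw [← Subgroup.index]; exact hd)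
    exact mem_subgroupOf.1 ((QuotientGroup.eq_one_iff _).1 h2)
  have hTcard : Nat.card ((P : Subgroup M).map M.subtype) * Nat.card (N.map M.subtype) = Nat.card M := by
    rw [card_map_of_injective M.subtype_injective, card_map_of_injective M.subtype_injective, mul_comm]
    exact hc.card_mul
  refine ⟨(P : Subgroup M).map M.subtype, N.map M.subtype, (map_subtype_le _).trans h.le,
    (map_subtype_le _).trans h.le, ?_, ?_, P.2.map _, ?_, ?_, ?_, ?_, ?_, ?_⟩
  · rintro c hc' _ ⟨t, ht, rfl⟩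
    refine ⟨⟨c * t * c⁻¹, h.conj c hc' t t.2⟩, ?_, rfl⟩
    obtain ⟨k, hk⟩ := P.2 ⟨t, ht⟩
    have hk' : (t : G) ^ 2 ^ k = 1 := congrArg (fun q : (P : Subgroup M) => ((q : M) : G)) hk
    set q : M := ⟨c * t * c⁻¹, h.conj c hc' t t.2⟩
    have hq : q ^ 2 ^ k = 1 := Subtype.ext (by
      show (c * (t : G) * c⁻¹) ^ 2 ^ k = 1
      rw [conj_pow, hk', mul_one, mul_inv_cancel])
    have hp : IsPGroup 2 (zpowers q) := IsPGroup.iff_card.2 (by
      obtain ⟨j, -, hj⟩ := (Nat.dvd_prime_pow Nat.prime_two).1 (orderOf_dvd_of_pow_eq_one hq)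
      exact ⟨j, by rw [Nat.card_zpowers, hj]⟩)
    have hj : IsPGroup 2 ↥(zpowers q ⊔ (P : Subgroup M)) := hp.to_sup_of_normal_right P.2
    show q ∈ (P : Subgroup M)
    rw [← P.is_maximal' hj le_sup_right]
    exact mem_sup_left (mem_zpowers _)
  · rintro c hc' _ ⟨o, ho, rfl⟩
    refine ⟨⟨c * o * c⁻¹, h.conj c hc' o o.2⟩, ?_, rfl⟩
    refine CfsgLib.NilpotentSubgroups.mem_complement_of_coprime hc ?_
    rw [← orderOf_coe]
    show (orderOf (c * (o : G) * c⁻¹)).Coprime 2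
    rw [orderOf_cj]
    exact (coprime_six.1 (hNcop o ho)).1
  · rw [card_map_of_injective M.subtype_injective]
    exact Nat.not_even_iff_odd.1 (fun he => hNodd he.two_dvd)
  · rintro _ ⟨t, ht, rfl⟩ _ ⟨o, ho, rfl⟩
    obtain ⟨k, hk⟩ := IsPGroup.iff_orderOf.1 P.2 ⟨t, ht⟩
    rw [orderOf_mk] at hk
    exact congrArg Subtype.val (CfsgLib.NilpotentSubgroups.commute_of_orderOf_coprime (x := t) (y := o) (by
      rw [hk]
      refine Nat.Coprime.pow_left _ ?_
      rw [← orderOf_coe o]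
      exact (coprime_six.1 (hNcop o ho)).1.symm)).eq
  · refine ⟨⟨D.i, h.i_mem⟩, ?_, rfl⟩
    have hp : IsPGroup 2 (zpowers (⟨D.i, h.i_mem⟩ : M)) :=
      IsPGroup.of_card (n := 1) (by rw [Nat.card_zpowers, pow_one, orderOf_mk]; exact D.oi)
    have hj : IsPGroup 2 ↥(zpowers (⟨D.i, h.i_mem⟩ : M) ⊔ (P : Subgroup M)) :=
      hp.to_sup_of_normal_right P.2
    rw [← P.is_maximal' hj le_sup_right]
    exact mem_sup_left (mem_zpowers _)
  · rintro _ ⟨o, ho, rfl⟩
    exact hNcop o ho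
  · intro c hc' hcop
    refine ⟨⟨c, hquot c hc' hcop⟩, ?_, rfl⟩
    refine CfsgLib.NilpotentSubgroups.mem_complement_of_coprime hc ?_
    rw [orderOf_mk]
    exact (coprime_six.1 hcop).1
  · rw [hTcard]
    exact h.card

variable {T O : Subgroup G}

theorem card_two_dvd (h : Dec D T O) {P : Subgroup G} (hP : IsPGroup 2 P) (hPC : P ≤ D.C) :
    Nat.card P ∣ 2 * Nat.card T ∧
      (Nat.card D.C = 3 * (Nat.card T * Nat.card O) → Nat.card P ∣ Nat.card T) := by
  haveI : Fact (Nat.Prime 2) := ⟨Nat.prime_two⟩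
  obtain ⟨m, hm⟩ := IsPGroup.iff_card.1 hP
  have hd := card_dvd_of_le hPC
  have hcop : (2 ^ m).Coprime (3 * Nat.card O) := Nat.Coprime.pow_left _ (by
    rw [Nat.coprime_mul_iff_right]
    exact ⟨by norm_num, Nat.coprime_two_left.2 h.odd⟩)
  constructor
  · rw [hm] at hd ⊢
    refine hcop.dvd_of_dvd_mul_right ?_
    rcases h.card with e | ⟨e, -⟩
    · rw [e] at hd
      exact (hd.mul_left 2).trans (dvd_of_eq (by ring)) |>.trans dvd_rfl
    · rw [e] at hd
      exact hd.trans (dvd_of_eq (by ring))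
  · intro e
    rw [hm, e] at hd
    rw [hm]
    exact hcop.dvd_of_dvd_mul_right (hd.trans (dvd_of_eq (by ring)))

theorem x_notMem (h : Dec D T O) : D.x ∉ T := fun e => by
  obtain ⟨k, hk⟩ := IsPGroup.iff_orderOf.1 h.two ⟨_, e⟩
  rw [orderOf_mk, D.ox] at hk
  have := Nat.prime_three.dvd_of_dvd_pow (dvd_of_eq hk)
  norm_num at this

theorem inverter_notMem (h : Dec D T O) {b : G} (hb : b * D.x * b⁻¹ = D.x⁻¹) : b ∉ T := fun e => by
  refine D.x_notMem h ?_
  have h2 := mul_mem e (h.T_conj D.x D.x_mem b⁻¹ (inv_mem e))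
  rw [show b * (D.x * b⁻¹ * D.x⁻¹) = b * D.x * b⁻¹ * D.x⁻¹ by group, hb] at h2
  rw [show D.x = D.x⁻¹ * D.x⁻¹ by rw [← mul_inv_rev, eq_inv_iff_mul_eq_one, ← mul_assoc, ← pow_three', D.x_pow]]
  exact h2

theorem x_mem_normalizer (h : Dec D T O) : D.C ≤ normalizer (T : Set G) := fun c hc => by
  rw [mem_normalizer_iff]
  refine fun t => ⟨h.T_conj c hc t, fun ht => ?_⟩
  have := h.T_conj c⁻¹ (inv_mem hc) _ ht
  rwa [show c⁻¹ * (c * t * c⁻¹) * c⁻¹⁻¹ = t by group] at this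

/-- The Sylow 2-subgroup `T⟨b⟩` when `C` involves `S₃`. -/
theorem exists_sylow_six (h : Dec D T O) {b : G} (hbC : b ∈ D.C) (hb : b * D.x * b⁻¹ = D.x⁻¹)
    (hb2 : b * b = 1 ∨ b * b = D.i) :
    ∃ S : Sylow 2 G, (S : Subgroup G) ≤ D.C ∧ T ≤ (S : Subgroup G) ∧ b ∈ (S : Subgroup G) ∧
      (∀ a ∈ (S : Subgroup G), a ∈ T ∨ a * b⁻¹ ∈ T) ∧ Nat.card (S : Subgroup G) = 2 * Nat.card T := by
  classical
  haveI : Fact (Nat.Prime 2) := ⟨Nat.prime_two⟩
  have hsq : b * b ∈ T := by rcases hb2 with e | e <;> rw [e]; exacts [one_mem T, h.i_mem]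
  have hbt : ∀ t ∈ T, b * t * b⁻¹ ∈ T := h.T_conj b hbC
  have hbt' : ∀ t ∈ T, b⁻¹ * t * b ∈ T := fun t ht => by
    simpa using h.T_conj b⁻¹ (inv_mem hbC) t ht
  let P : Subgroup G :=
    { carrier := {a | a ∈ T ∨ a * b⁻¹ ∈ T}
      one_mem' := Or.inl (one_mem T)
      mul_mem' := by
        rintro a c (ha | ha) (hc | hc)
        · exact Or.inl (mul_mem ha hc)
        · exact Or.inr (by rw [mul_assoc]; exact mul_mem ha hc)
        · refine Or.inr ?_
          rw [show a * c * b⁻¹ = a * b⁻¹ * (b * c * b⁻¹) by group]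
          exact mul_mem ha (hbt c hc)
        · refine Or.inl ?_
          rw [show a * c = a * b⁻¹ * (b * (c * b⁻¹) * b⁻¹) * (b * b) by group]
          exact mul_mem (mul_mem ha (hbt _ hc)) hsq
      inv_mem' := by
        rintro a (ha | ha)
        · exact Or.inl (inv_mem ha)
        · refine Or.inr ?_
          rw [show a⁻¹ * b⁻¹ = b⁻¹ * (a * b⁻¹)⁻¹ * b * (b * b)⁻¹ by group]
          exact mul_mem (hbt' _ (inv_mem ha)) (inv_mem hsq) }
  have hTP : T ≤ P := fun t ht => Or.inl ht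
  have hbP : b ∈ P := Or.inr (by rw [mul_inv_cancel]; exact one_mem T)
  have hPC : P ≤ D.C := by
    rintro a (ha | ha)
    · exact h.T_le ha
    · have := mul_mem (h.T_le ha) hbC; rwa [inv_mul_cancel_right] at this
  have hcard : Nat.card P = 2 * Nat.card T := by
    refine Nat.card_congr ?_ |>.trans (Nat.card_prod (ULift.{u} (Fin 2)) T) |>.trans (by simp)
    exact
      { toFun := fun a => if ha : (a : G) ∈ T then (⟨0⟩, ⟨a, ha⟩) else (⟨1⟩, ⟨(a : G) * b⁻¹, a.2.resolve_left ha⟩)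
        invFun := fun p => if p.1.down = 0 then ⟨p.2, Or.inl p.2.2⟩ else
          ⟨p.2 * b, Or.inr (by rw [mul_inv_cancel_right]; exact p.2.2)⟩
        left_inv := fun a => by
          by_cases ha : (a : G) ∈ T <;> simp [ha]
        right_inv := fun p => by
          obtain ⟨⟨e⟩, t, ht⟩ := p
          fin_cases e
          · simp [ht]
          · have : (t * b : G) ∉ T := fun e => D.inverter_notMem h hb (by
              have := mul_mem (inv_mem ht) e; rwa [inv_mul_cancel_left] at this)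
            simp [this] }
  obtain ⟨k, hk⟩ := IsPGroup.iff_card.1 h.two
  have hPk : Nat.card P = 2 ^ (k + 1) := by rw [hcard, hk, pow_succ']
  obtain ⟨S0, hS0⟩ := D.exists_sylow
  have h1 := (D.card_two_dvd h S0.2 hS0).1
  have h2 : Nat.card P = 2 ^ (Nat.card G).factorization 2 := by
    rw [← S0.card_eq_multiplicity]
    refine Nat.dvd_antisymm ?_ (hcard ▸ h1)
    rw [S0.card_eq_multiplicity, hPk]
    exact pow_dvd_pow 2 ((Nat.prime_two.pow_dvd_iff_le_factorization Nat.card_pos.ne').1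
      (hPk ▸ card_subgroup_dvd_card P))
  refine ⟨Sylow.ofCard P h2, ?_⟩
  rw [Sylow.coe_ofCard]
  exact ⟨hPC, hTP, hbP, fun a ha => ha, hcard⟩

theorem exists_sylow_three (h : Dec D T O) (hc : Nat.card D.C = 3 * (Nat.card T * Nat.card O)) :
    ∃ S : Sylow 2 G, (S : Subgroup G) = T := by
  haveI : Fact (Nat.Prime 2) := ⟨Nat.prime_two⟩
  obtain ⟨S0, hS0⟩ := D.exists_sylow
  have h1 := (D.card_two_dvd h S0.2 hS0).2 hc
  obtain ⟨k, hk⟩ := IsPGroup.iff_card.1 h.two
  have h2 : Nat.card T = 2 ^ (Nat.card G).factorization 2 := by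
    rw [← S0.card_eq_multiplicity]
    refine Nat.dvd_antisymm ?_ h1
    rw [S0.card_eq_multiplicity, hk]
    exact pow_dvd_pow 2 ((Nat.prime_two.pow_dvd_iff_le_factorization Nat.card_pos.ne').1
      (hk ▸ card_subgroup_dvd_card T))
  exact ⟨Sylow.ofCard T h2, Sylow.coe_ofCard T h2⟩

end Ctx

end CfsgLib.SelfCentralSix
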