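import Cfsg.Agent.Lib.SelfCentralSix.Small

/-!
# Elementary subgroups of order eight
-/

set_option autoImplicit false
set_option linter.style.haveILetI false

namespace CfsgLib.SelfCentralSix

open Subgroup CfsgLib.SelfThree29

universe u

variable {G : Type u} [Group G]

namespace Ctx

variable [Finite G] (D : Ctx G)
include D

/-- A group of order eight normalized by `x` with a second involution is elementary. -/
theorem eight_elementary {T : Subgroup G} (hT : IsPGroup 2 T) (hTC : T ≤ D.C)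
    (hx : D.x ∈ normalizer (T : Set G)) (hi : D.i ∈ T) (h8 : Nat.card T = 8) {f : G} (hf : f ∈ T)
    (hf2 : f * f = 1) (hf1 : f ≠ 1) (hfi : f ≠ D.i) : zInv T = T := by
  classical
  obtain ⟨j, hjT, hj2, hj1, hji, hjc⟩ := D.singular hT hTC hx hi hf hf2 hf1 hfi
  obtain ⟨-, hfix⟩ := D.x_fixed hT hx hi
  have hxi : D.x * D.i * D.x⁻¹ = D.i := by rw [← D.mul_comm_ix, mul_inv_cancel_right]
  set j1 := D.x * j * D.x⁻¹ with hj1d
  set j2 := D.x * j1 * D.x⁻¹ with hj2d
  have hjT1 : j1 ∈ T := (mem_normalizer_iff.1 hx j).1 hjT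
  have hj1s : j1 * j1 = 1 := by
    rw [hj1d, show D.x * j * D.x⁻¹ * (D.x * j * D.x⁻¹) = D.x * (j * j) * D.x⁻¹ by group, hj2]; group
  have hic : ∀ t ∈ T, t * D.i = D.i * t := fun t ht => D.mem_C.1 (hTC ht)
  have hne1 : j1 ≠ 1 := fun e => hj1 (conj_eq_one_iff.1 e)
  have hnei : j1 ≠ D.i := fun e => hji ((MulAut.conj D.x).injective
    (show D.x * j * D.x⁻¹ = D.x * D.i * D.x⁻¹ by rw [hxi, ← hj1d, e]))
  have hnej : j1 ≠ j := fun e => (hfix j hjT (mul_inv_eq_iff_eq_mul.1 e).symm).elim hj1 hji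
  have hneji : j1 ≠ j * D.i := fun e => by
    have h := conj_triple D.x j D.x_pow
    have hm : ∀ w, D.x * (w * D.i) * D.x⁻¹ = D.x * w * D.x⁻¹ * D.i := fun w => by
      rw [show D.x * (w * D.i) * D.x⁻¹ = D.x * w * D.x⁻¹ * (D.x * D.i * D.x⁻¹) by group, hxi]
    rw [← hj1d, e, hm, ← hj1d, e, mul_assoc j, D.i_sq, mul_one, ← hj1d, e] at h
    exact D.i_ne (mul_eq_left.1 h)
  -- `j` and `j1` commute
  have hjj1 : j * j1 = j1 * j := by
    have hz := (three_mod hx D.x_pow hi D.i_sq hic D.mul_comm_ix hfix hjT).1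
    rw [← hj1d, ← hj2d] at hz
    have hj2s : j2 * j2 = 1 := by
      rw [hj2d, show D.x * j1 * D.x⁻¹ * (D.x * j1 * D.x⁻¹) = D.x * (j1 * j1) * D.x⁻¹ by group, hj1s]; group
    have hj2T : j2 ∈ T := (mem_normalizer_iff.1 hx j1).1 hjT1
    obtain ⟨e, he, hje⟩ : ∃ e, (e = 1 ∨ e = D.i) ∧ j * j1 = e * j2 := by
      rcases hz with q | q
      · exact ⟨1, Or.inl rfl, by rw [one_mul, eq_inv_of_mul_eq_one_left q, inv_eq_of_mul_eq_one_right hj2s]⟩
      · exact ⟨D.i, Or.inr rfl, by rw [← q, mul_assoc (j * j1), hj2s, mul_one]⟩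
    have hsq : j * j1 * (j * j1) = 1 := by
      rw [hje]
      rcases he with rfl | rfl
      · rw [one_mul, hj2s]
      · rw [show D.i * j2 * (D.i * j2) = D.i * (j2 * D.i) * j2 by group, hic j2 hj2T,
          show D.i * (D.i * j2) * j2 = (D.i * D.i) * (j2 * j2) by group, D.i_sq, hj2s, one_mul]
    calc j * j1 = (j * j1)⁻¹ := (inv_eq_of_mul_eq_one_right hsq).symm
      _ = j1 * j := by rw [mul_inv_rev, inv_eq_of_mul_eq_one_right hj1s, inv_eq_of_mul_eq_one_right hj2]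
  -- five elements
  have five : ∀ P : Subgroup G, P ≤ T → D.i ∈ P → j ∈ P → j1 ∈ P → P = T := by
    intro P hP h1 h2 h3
    letI : Fintype P := Fintype.ofFinite P
    have h5 : ({1, ⟨D.i, h1⟩, ⟨j, h2⟩, ⟨j1, h3⟩, ⟨j * D.i, mul_mem h2 h1⟩} : Finset P).card ≤ Nat.card P := by
      rw [Nat.card_eq_fintype_card]; exact Finset.card_le_univ _
    have hc : ({1, ⟨D.i, h1⟩, ⟨j, h2⟩, ⟨j1, h3⟩, ⟨j * D.i, mul_mem h2 h1⟩} : Finset P).card = 5 := by
      rw [Finset.card_insert_of_notMem, Finset.card_insert_of_notMem, Finset.card_insert_of_notMem,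
        Finset.card_pair]
      · exact fun e => hneji (congrArg Subtype.val e)
      · simp only [Finset.mem_insert, Finset.mem_singleton, Subtype.ext_iff]
        rintro (e | e)
        · exact hnej e.symm
        · exact D.i_ne (mul_eq_left.1 e.symm)
      · simp only [Finset.mem_insert, Finset.mem_singleton, Subtype.ext_iff]
        rintro (e | e | e)
        · exact hji e.symm
        · exact hnei e.symm
        · exact hj1 (mul_eq_right.1 e.symm)
      · simp only [Finset.mem_insert, Finset.mem_singleton, Subtype.ext_iff, Subgroup.coe_one]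
        rintro (e | e | e | e)
        · exact D.i_ne e.symm
        · exact hj1 e.symm
        · exact hne1 e.symm
        · exact hji (by rw [eq_inv_of_mul_eq_one_left e.symm, D.i_inv])
    refine eq_of_le_of_card_ge hP ?_
    have hd := card_dvd_of_le hP
    rw [h8] at hd ⊢
    rw [hc] at h5
    have hle := Nat.le_of_dvd (by norm_num) hd
    interval_cases h : Nat.card P <;> omega
  have hR : T ⊓ centralizer ({j, j1} : Set G) = T := by
    refine five _ inf_le_left (mem_inf.2 ⟨hi, ?_⟩) (mem_inf.2 ⟨hjT, ?_⟩) (mem_inf.2 ⟨hjT1, ?_⟩) <;>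
      (rw [mem_centralizer_iff]; rintro w (rfl | rfl))
    exacts [hic _ hjT, hic _ hjT1, rfl, hjj1.symm, hjj1, rfl]
  refine five _ (fun t ht => ht.1) ⟨hi, D.i_sq, hic⟩ ⟨hjT, hj2, fun t ht => ?_⟩ ⟨hjT1, hj1s, fun t ht => ?_⟩
  · rw [← hR] at ht
    exact (mem_centralizer_iff.1 (mem_inf.1 ht).2 j (by simp)).symm
  · rw [← hR] at ht
    exact (mem_centralizer_iff.1 (mem_inf.1 ht).2 j1 (by simp)).symm

/-- No Sylow 2-subgroup is an extension of an elementary group of order eight by a nontrivial automorphism of order two. -/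
theorem false_of_eight (S : Sylow 2 G) {T : Subgroup G} (hTS : T ≤ (S : Subgroup G)) (h8 : Nat.card T = 8)
    (helem : zInv T = T) {b : G} (hbS : b ∈ (S : Subgroup G)) (hbT : ∀ t ∈ T, b * t * b⁻¹ ∈ T)
    (hbb : b * b ∈ T) (hcov : ∀ a ∈ (S : Subgroup G), a ∈ T ∨ a * b⁻¹ ∈ T)
    (hne : ∃ t ∈ T, b * t * b⁻¹ ≠ t) : False := by
  classical
  have hT2 : ∀ t ∈ T, t * t = 1 := fun t ht => by rw [← helem] at ht; exact ht.2.1
  have hTc : ∀ s ∈ T, ∀ t ∈ T, s * t = t * s := fun s hs t ht => by rw [← helem] at ht; exact ht.2.2 s hs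
  have hTinv : ∀ t ∈ T, t⁻¹ = t := fun t ht => inv_eq_of_mul_eq_one_right (hT2 t ht)
  letI : CommGroup T := { T.toGroup with mul_comm := fun a c => Subtype.ext (hTc a a.2 c c.2) }
  let θ : T →* T :=
    { toFun := fun t => ⟨(t : G) * (b * t * b⁻¹), mul_mem t.2 (hbT t t.2)⟩
      map_one' := Subtype.ext (show (1 : G) * (b * 1 * b⁻¹) = 1 by group)
      map_mul' := fun a c => Subtype.ext (by
        show (a * c : G) * (b * (a * c) * b⁻¹) = (a : G) * (b * a * b⁻¹) * ((c : G) * (b * c * b⁻¹))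
        rw [show (a * c : G) * (b * (a * c) * b⁻¹) = (a : G) * ((c : G) * (b * a * b⁻¹)) * (b * c * b⁻¹) by group,
          hTc c c.2 _ (hbT a a.2)]
        group) }
  have hbs : ∀ t ∈ T, b * (b * t * b⁻¹) * b⁻¹ = t := fun t ht => by
    rw [show b * (b * t * b⁻¹) * b⁻¹ = b * b * t * (b * b)⁻¹ by group, hTc _ hbb t ht, mul_inv_cancel_right]
  have hrk : θ.range ≤ θ.ker := by
    rintro _ ⟨t, rfl⟩
    refine MonoidHom.mem_ker.2 (Subtype.ext ?_)
    show (t : G) * (b * t * b⁻¹) * (b * ((t : G) * (b * t * b⁻¹)) * b⁻¹) = 1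
    rw [show b * ((t : G) * (b * t * b⁻¹)) * b⁻¹ = b * t * b⁻¹ * (b * (b * t * b⁻¹) * b⁻¹) by group,
      hbs t t.2, hTc _ (hbT t t.2) t t.2]
    exact hT2 _ (mul_mem t.2 (hbT t t.2))
  have hprod := θ.ker.card_mul_index
  rw [index_ker, h8] at hprod
  have hdvd := card_dvd_of_le hrk
  have hrne : Nat.card θ.range ≠ 1 := by
    intro e
    obtain ⟨t, ht, htne⟩ := hne
    have h1 : θ ⟨t, ht⟩ ∈ θ.range := ⟨_, rfl⟩
    rw [Subgroup.eq_bot_of_card_eq _ e, mem_bot] at h1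
    have h2 : t * (b * t * b⁻¹) = 1 := congrArg Subtype.val h1
    exact htne (by rw [← inv_eq_of_mul_eq_one_right h2, hTinv t ht])
  obtain ⟨hr, hk⟩ : Nat.card θ.range = 2 ∧ Nat.card θ.ker = 4 := by
    obtain ⟨q, hq⟩ := hdvd
    have hr0 : 0 < Nat.card θ.range := Nat.card_pos
    have hle : Nat.card θ.range ≤ 2 := by
      by_contra hgt
      have hkpos : Nat.card θ.range ≤ Nat.card θ.ker := Subgroup.card_le_of_le hrk
      nlinarith
    have h2 : Nat.card θ.range = 2 := by omega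
    exact ⟨h2, by rw [h2] at hprod; omega⟩
  obtain ⟨c, -, hcuniq⟩ := (Nat.card_eq_two_iff' (1 : θ.range)).1 hr
  set K : Set G := {g | g = 1 ∨ g = ((c : T) : G)} with hK
  have hθK : ∀ t : T, ((θ t : T) : G) ∈ K := fun t => by
    by_cases h1 : θ t = 1
    · exact Or.inl (by rw [h1]; rfl)
    · exact Or.inr (congrArg (fun q : θ.range => ((q : T) : G))
        (hcuniq ⟨θ t, t, rfl⟩ fun e => h1 (congrArg Subtype.val e)))
  have hKfix : ∀ g ∈ K, b * g * b⁻¹ = g ∧ g ∈ T := by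
    rintro g (rfl | rfl)
    · exact ⟨by group, one_mem T⟩
    · obtain ⟨t, ht⟩ := c.2
      have h1 : (c : T) ∈ θ.ker := hrk c.2
      have h2 : ((c : T) : G) * (b * (c : T) * b⁻¹) = 1 := congrArg Subtype.val (MonoidHom.mem_ker.1 h1)
      exact ⟨by rw [← inv_eq_of_mul_eq_one_right h2, hTinv _ (c : T).2], (c : T).2⟩
  have hKmul : ∀ g ∈ K, ∀ g' ∈ K, g * g' ∈ K := by
    rintro g (rfl | rfl) g' (rfl | rfl)
    · exact Or.inl (one_mul 1)
    · exact Or.inr (one_mul _)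
    · exact Or.inr (mul_one _)
    · exact Or.inl (hT2 _ (c : T).2)
  -- commutators of `S`
  have hcomm : ∀ s ∈ (S : Subgroup G), ∀ t ∈ (S : Subgroup G), s * t * s⁻¹ * t⁻¹ ∈ K := by
    have e1 : ∀ t ∈ T, t * b * t⁻¹ * b⁻¹ ∈ K := fun t ht => by
      have h1 := hθK ⟨t, ht⟩
      rw [show t * b * t⁻¹ * b⁻¹ = t * (b * t⁻¹ * b⁻¹) by group, hTinv t ht]
      exact h1
    have e2 : ∀ t ∈ T, b * t * b⁻¹ * t⁻¹ ∈ K := fun t ht => by
      rw [hTinv t ht, hTc _ (hbT t ht) t ht]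
      exact hθK ⟨t, ht⟩
    intro s hs t ht
    rcases hcov s hs with hs' | hs' <;> rcases hcov t ht with ht' | ht'
    · exact Or.inl (by rw [hTc s hs' t ht']; group)
    · set v := t * b⁻¹ with hv
      have e : s * t * s⁻¹ * t⁻¹ = v * (s * b * s⁻¹ * b⁻¹) * v⁻¹ := by
        rw [show t = v * b by rw [hv, inv_mul_cancel_right],
          show s * (v * b) * s⁻¹ * (v * b)⁻¹ = (s * v) * b * s⁻¹ * b⁻¹ * v⁻¹ by group, hTc s hs' v ht']
        group
      have h1 := e1 s hs'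
      rw [e, hTc v ht' _ (hKfix _ h1).2, mul_inv_cancel_right]
      exact h1
    · set u := s * b⁻¹ with hu
      have e : s * t * s⁻¹ * t⁻¹ = u * (b * t * b⁻¹ * t⁻¹) * u⁻¹ := by
        rw [show s = u * b by rw [hu, inv_mul_cancel_right],
          show u * b * t * (u * b)⁻¹ * t⁻¹ = u * (b * t * b⁻¹) * (u⁻¹ * t⁻¹) by group,
          hTc u⁻¹ (inv_mem hs') t⁻¹ (inv_mem ht')]
        group
      have h1 := e2 t ht'
      rw [e, hTc u hs' _ (hKfix _ h1).2, mul_inv_cancel_right]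
      exact h1
    · set u := s * b⁻¹ with hu
      set v := t * b⁻¹ with hv
      have e : s * t * s⁻¹ * t⁻¹ = u * (b * v * b⁻¹) * (b * u⁻¹ * b⁻¹) * v⁻¹ := by
        rw [show s = u * b by rw [hu, inv_mul_cancel_right], show t = v * b by rw [hv, inv_mul_cancel_right]]
        group
      rw [e, hTinv u hs', hTinv v ht', mul_assoc (u : G), hTc _ (hbT v ht') _ (hbT u hs'),
        show u * (b * u * b⁻¹ * (b * v * b⁻¹)) * v = (u * (b * u * b⁻¹)) * ((b * v * b⁻¹) * v) by group,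
        hTc _ (hbT v ht') v ht']
      exact hKmul _ (hθK ⟨u, hs'⟩) _ (hθK ⟨v, ht'⟩)
  -- the kernel is central
  have hcen : ∀ t ∈ θ.ker, ((t : T) : G) ∈ zInv (S : Subgroup G) := by
    intro t ht
    have h2 : (t : G) * (b * t * b⁻¹) = 1 := congrArg Subtype.val (MonoidHom.mem_ker.1 ht)
    have h3 : b * (t : G) * b⁻¹ = t := by rw [← inv_eq_of_mul_eq_one_right h2, hTinv _ t.2]
    refine ⟨hTS t.2, hT2 _ t.2, fun s hs => ?_⟩
    rcases hcov s hs with e | e
    · exact hTc s e t t.2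
    · have h4 : Commute (s * b⁻¹ * b) (t : G) :=
        Commute.mul_left (hTc _ e t t.2) (mul_inv_eq_iff_eq_mul.1 h3)
      rw [inv_mul_cancel_right] at h4
      exact h4.eq
  obtain ⟨a, ha, haK⟩ : ∃ a ∈ θ.ker, ((a : T) : G) ∉ K := by
    by_contra hall
    push Not at hall
    letI : Fintype θ.ker := Fintype.ofFinite _
    have hle : Nat.card θ.ker ≤ 2 := by
      refine (Nat.card_le_card_of_injective (fun q : θ.ker => ((q : T) : G) == ((c : T) : G)) ?_).trans (by simp)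
      intro p q e
      simp only [beq_eq_beq] at e
      refine Subtype.ext (Subtype.ext ?_)
      rcases hall p p.2 with hp | hp <;> rcases hall q q.2 with hq | hq
      · rw [hp, hq]
      · exact (e.2 hq).trans hq.symm
      · exact hp.trans (e.1 hp).symm
      · rw [hp, hq]
    omega
  have hcne : ((c : T) : G) ≠ 1 := by
    intro e
    obtain ⟨t, ht, htne⟩ := hne
    have h1 := hθK ⟨t, ht⟩
    have h2 : t * (b * t * b⁻¹) = 1 := by
      rcases h1 with h | h
      · exact h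
      · exact h.trans e
    exact htne (by rw [← inv_eq_of_mul_eq_one_right h2, hTinv t ht])
  obtain ⟨n, hn, hne'⟩ := D.zInv_transitive S (hcen _ (hrk c.2)) (hcen a ha) hcne fun e => haK (Or.inl e)
  obtain ⟨t, ht⟩ := c.2
  have hct : ((c : T) : G) = (t : G) * b * (t : G)⁻¹ * b⁻¹ := by
    rw [← ht, hTinv _ t.2]
    show (t : G) * (b * t * b⁻¹) = _
    group
  refine haK (?_ : ((a : T) : G) ∈ K)
  rw [← hne', hct, show n * ((t : G) * b * (t : G)⁻¹ * b⁻¹) * n⁻¹ =
    (n * t * n⁻¹) * (n * b * n⁻¹) * (n * t * n⁻¹)⁻¹ * (n * b * n⁻¹)⁻¹ by group]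
  exact hcomm _ ((mem_normalizer_iff.1 hn _).1 (hTS t.2)) _ ((mem_normalizer_iff.1 hn _).1 hbS)

end Ctx

end CfsgLib.SelfCentralSix
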