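import Cfsg.Agent.Lib.SelfCentralSix.Cases
import Cfsg.Agent.Lib.SelfCentralSix.Tools
import Cfsg.Agent.S0494
import Cfsg.Agent.S1644

/-!
# The case `C = ⟨i⟩ × A₅`
-/

set_option autoImplicit false
set_option linter.style.haveILetI false

namespace CfsgLib.SelfCentralSix

open Subgroup

universe u

variable {G : Type u} [Group G]

theorem alt_five_involutions : ∀ a b : alternatingGroup (Fin 5), a ≠ 1 → b ≠ 1 → a * a = 1 → b * b = 1 →
    ∃ c : alternatingGroup (Fin 5), c * a * c⁻¹ = b := by
  decide +kernel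

/-- A central extension of order two of `A₅` by an involution-rich Sylow subgroup splits. -/
theorem exists_split {C : Type u} [Group C] [Finite C] {z : C} (hz : ∀ c : C, c * z = z * c)
    (hz2 : orderOf z = 2) (f : C →* alternatingGroup (Fin 5)) (hf : Function.Surjective f)
    (hker : f.ker = zpowers z) (P : Sylow 2 C) (hP : IsMulCommutative (P : Subgroup C)) :
    Nonempty (C ≃* Multiplicative (ZMod 2) × alternatingGroup (Fin 5)) := by
  classical
  haveI : Fact (Nat.Prime 2) := ⟨Nat.prime_two⟩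
  letI : CommGroup (P : Subgroup C) :=
    { (P : Subgroup C).toGroup with mul_comm := hP.is_comm.comm }
  have hzP : z ∈ (P : Subgroup C) := by
    have hn : (zpowers z).Normal := ⟨by
      rintro _ ⟨k, rfl⟩ g
      refine ⟨k, ?_⟩
      show z ^ k = g * z ^ k * g⁻¹
      rw [(Commute.zpow_right (show Commute g z from hz g) k).eq, mul_inv_cancel_right]⟩
    have hp : IsPGroup 2 (zpowers z) := IsPGroup.of_card (n := 1) (by rw [Nat.card_zpowers, hz2, pow_one])
    have hj : IsPGroup 2 ↥(zpowers z ⊔ (P : Subgroup C)) := hp.to_sup_of_normal_left P.2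
    rw [← P.is_maximal' hj le_sup_right]
    exact mem_sup_left (mem_zpowers z)
  let τ : C →* (P : Subgroup C) := MonoidHom.transfer (MonoidHom.id (P : Subgroup C))
  have hτz : τ z ≠ 1 := by
    intro e
    have hkey : ∀ (k : ℕ) (g₀ : C), g₀⁻¹ * z ^ k * g₀ ∈ (P : Subgroup C) → g₀⁻¹ * z ^ k * g₀ = z ^ k := by
      intro k g₀ _
      rw [mul_assoc, ← (Commute.pow_right (show Commute g₀ z from hz g₀) k).eq, inv_mul_cancel_left]
    have h1 := MonoidHom.transfer_eq_pow (MonoidHom.id (P : Subgroup C)) z hkey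
    rw [show τ z = _ from h1] at e
    have h2 : z ^ (P : Subgroup C).index = 1 := congrArg Subtype.val e
    rw [← orderOf_dvd_iff_pow_eq_one, hz2] at h2
    exact P.not_dvd_index h2
  haveI : IsSimpleGroup (alternatingGroup (Fin 5)) := alternatingGroup.isSimpleGroup_five
  set L := τ.ker with hL
  have hzL : z ∉ L := hτz
  have hmap : L.map f = ⊤ := by
    refine ((τ.normal_ker.map f hf).eq_bot_or_eq_top).resolve_left fun e => ?_
    -- then the kernel of `τ` is trivial and `C` is abelian
    have hLbot : L = ⊥ := by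
      rw [eq_bot_iff]
      intro c hc
      have h1 : f c ∈ L.map f := ⟨c, hc, rfl⟩
      rw [e, mem_bot, ← MonoidHom.mem_ker, hker] at h1
      obtain ⟨k, hk⟩ := h1
      replace hk : z ^ k = c := hk
      rw [← zpow_mod_orderOf, hz2] at hk
      rcases Int.emod_two_eq_zero_or_one k with h | h
      · rw [show k % ((2 : ℕ) : ℤ) = 0 from h, zpow_zero] at hk
        rw [← hk]; exact one_mem _
      · rw [show k % ((2 : ℕ) : ℤ) = 1 from h, zpow_one] at hk
        exact absurd (hk ▸ hc) hzL
    have hinj := (MonoidHom.ker_eq_bot_iff τ).1 hLbot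
    have : ∀ a b : alternatingGroup (Fin 5), a * b = b * a := fun a b => by
      obtain ⟨a', rfl⟩ := hf a
      obtain ⟨b', rfl⟩ := hf b
      rw [← map_mul, ← map_mul, hinj (show τ (a' * b') = τ (b' * a') by rw [map_mul, map_mul, mul_comm])]
    revert this
    decide +kernel
  let f' : L →* alternatingGroup (Fin 5) := f.comp L.subtype
  have hf' : Function.Bijective f' := by
    refine ⟨(MonoidHom.ker_eq_bot_iff f').1 (eq_bot_iff.2 fun c hc => ?_), fun a => ?_⟩
    · have h1 : (c : C) ∈ f.ker := hc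
      rw [hker] at h1
      obtain ⟨k, hk⟩ := h1
      replace hk : z ^ k = (c : C) := hk
      rw [← zpow_mod_orderOf, hz2] at hk
      rcases Int.emod_two_eq_zero_or_one k with h | h
      · rw [show k % ((2 : ℕ) : ℤ) = 0 from h, zpow_zero] at hk
        exact Subtype.ext hk.symm
      · rw [show k % ((2 : ℕ) : ℤ) = 1 from h, zpow_one] at hk
        exact absurd (hk ▸ c.2) hzL
    · obtain ⟨c, hc, hca⟩ : a ∈ L.map f := by rw [hmap]; exact mem_top a
      exact ⟨⟨c, hc⟩, hca⟩
  let e := MulEquiv.ofBijective f' hf'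
  have hcardZ : Nat.card (zpowers z) = 2 := by rw [Nat.card_zpowers, hz2]
  let ψ : zpowers z × L →* C :=
    MonoidHom.noncommCoprod (zpowers z).subtype L.subtype (fun a b => by
      obtain ⟨_, k, rfl⟩ := a
      exact (Commute.zpow_left (show Commute z (b : C) from (hz b).symm) k))
  have hψ : Function.Bijective ψ := by
    constructor
    · rw [← MonoidHom.ker_eq_bot_iff, eq_bot_iff]
      rintro ⟨a, b⟩ hab
      have h1 : (a : C) * (b : C) = 1 := hab
      have hfa : f (a : C) = 1 := MonoidHom.mem_ker.1 (by rw [hker]; exact a.2)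
      have h2 : f' b = 1 := by
        have := congrArg f h1
        rwa [map_mul, hfa, one_mul, map_one] at this
      have hb1 : b = 1 := hf'.1 (h2.trans (map_one f').symm)
      have ha1 : a = 1 := Subtype.ext (by rwa [hb1, OneMemClass.coe_one, mul_one] at h1)
      rw [mem_bot, ha1, hb1]; rfl
    · intro c
      obtain ⟨b, hb⟩ := hf'.2 (f c)
      refine ⟨(⟨c * (b : C)⁻¹, ?_⟩, b), ?_⟩
      · rw [← hker, MonoidHom.mem_ker, map_mul, map_inv, show f (b : C) = f c from hb, mul_inv_cancel]
      · show c * (b : C)⁻¹ * b = c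
        group
  haveI : IsCyclic (zpowers z) := Subgroup.isCyclic_zpowers z
  obtain ⟨c2⟩ : Nonempty (zpowers z ≃* Multiplicative (ZMod 2)) :=
    ⟨mulEquivOfCyclicCardEq (by rw [hcardZ, Nat.card_congr Multiplicative.toAdd, Nat.card_zmod])⟩
  exact ⟨(MulEquiv.ofBijective ψ hψ).symm.trans (MulEquiv.prodCongr c2 e)⟩

namespace Ctx

variable [Finite G] (D : Ctx G)
include D

theorem j1_case {K : Type u} [Group K] [Finite K] {π : D.C →* K} (h : SimpleCase D π)
    (h60 : Nat.card K = 60) (hk : Nat.card π.ker = 2) : Cfsg.Spor.IsoJ1 G := by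
  classical
  haveI := D.simple
  haveI := h.simple
  haveI : Fact (Nat.Prime 2) := ⟨Nat.prime_two⟩
  obtain ⟨e5⟩ := Cfsg.Agent.S0494.result (G := K) h60
  let f : D.C →* alternatingGroup (Fin 5) := e5.toMonoidHom.comp π
  have hf : Function.Surjective f := e5.surjective.comp h.surj
  have hiC2 : orderOf D.iC = 2 := by rw [← orderOf_coe]; exact D.oi
  have hker : f.ker = zpowers D.iC := by
    have h1 : f.ker = π.ker := by
      ext c
      rw [MonoidHom.mem_ker, MonoidHom.mem_ker, MonoidHom.comp_apply, MulEquiv.coe_toMonoidHom,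
        map_eq_one_iff _ e5.injective]
    rw [h1]
    refine (Subgroup.eq_of_le_of_card_ge (zpowers_le.2 h.i_ker) ?_).symm
    rw [hk, Nat.card_zpowers, hiC2]
  have hC : Nat.card D.C = 120 := by
    have h1 := π.ker.card_mul_index
    rw [index_ker, MonoidHom.range_eq_top.2 h.surj, card_top, hk, h60] at h1
    omega
  obtain ⟨S, hSC⟩ := D.exists_sylow
  have h8 : Nat.card (S : Subgroup G) = 8 := by
    obtain ⟨Q, hQ⟩ := Sylow.exists_subgroup_card_pow_prime (G := D.C) 2 (n := 3) (by rw [hC]; norm_num)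
    have hQG : Nat.card (Q.map D.C.subtype) = 8 := by
      rw [card_map_of_injective D.C.subtype_injective, hQ]; norm_num
    obtain ⟨R, hR⟩ := (IsPGroup.of_card (n := 3) hQG : IsPGroup 2 (Q.map D.C.subtype)).exists_le_sylow
    have h1 := Subgroup.card_dvd_of_le hR
    rw [hQG, R.card_eq_multiplicity, ← S.card_eq_multiplicity] at h1
    obtain ⟨n, hn⟩ := IsPGroup.iff_card.1 S.2
    have h2 := Subgroup.card_dvd_of_le hSC
    rw [hn, hC] at h2
    rw [hn] at h1 ⊢
    have hlo : 3 ≤ n := (Nat.pow_dvd_pow_iff_le_right (by norm_num)).1 (show 2 ^ 3 ∣ 2 ^ n from h1)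
    have hhi : n ≤ 3 := by
      by_contra hgt
      have h16 := (pow_dvd_pow 2 (show 4 ≤ n by omega)).trans h2
      norm_num at h16
    rw [le_antisymm hhi hlo]; norm_num
  obtain ⟨w, hwS, hw2, hwi⟩ : ∃ w ∈ (S : Subgroup G), orderOf w = 2 ∧ w ≠ D.i := by
    by_contra hne
    push Not at hne
    exact D.false_of_unique S fun a ha b hb ha2 hb2 => (hne a ha ha2).trans (hne b hb hb2).symm
  have hzi : ∀ c : D.C, f c = 1 → (c : G) = 1 ∨ (c : G) = D.i := by
    intro c hc
    rw [← MonoidHom.mem_ker, hker] at hc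
    obtain ⟨k, hk'⟩ := hc
    refine D.mem_zi_iff.1 ⟨k, ?_⟩
    have := congrArg Subtype.val hk'
    simpa [Ctx.iC] using this
  set wC : D.C := ⟨w, hSC hwS⟩ with hwC
  have hww : w * w = 1 := by rw [← sq, ← hw2, pow_orderOf_eq_one]
  have hfw : f wC ≠ 1 := fun e => by
    rcases hzi _ e with e' | e'
    · have e'' : w = 1 := e'
      rw [e'', orderOf_one] at hw2; omega
    · exact hwi e'
  have hfww : f wC * f wC = 1 := by
    rw [← map_mul, show wC * wC = 1 from Subtype.ext hww, map_one]
  have hsq : ∀ a ∈ (S : Subgroup G), a * a = 1 := by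
    intro a ha
    set aC : D.C := ⟨a, hSC ha⟩ with haC
    by_cases h1 : f aC = 1
    · rcases hzi _ h1 with e | e <;> rw [show a = _ from e]
      · exact mul_one 1
      · exact D.i_sq
    have h2 : f aC * f aC = 1 := by
      obtain ⟨n, hn⟩ := S.2 ⟨a, ha⟩
      have hn' : a ^ 2 ^ n = 1 := congrArg Subtype.val hn
      have h3 : f aC ^ 2 ^ n = 1 := by rw [← map_pow, show aC ^ 2 ^ n = 1 from Subtype.ext hn', map_one]
      have h4 : orderOf (f aC) ∣ 60 := by
        have := _root_.orderOf_dvd_natCard (f aC)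
        rw [show Nat.card (alternatingGroup (Fin 5)) = 60 from (Nat.card_congr e5.toEquiv).symm.trans h60] at this
        exact this
      obtain ⟨m, -, hm⟩ := (Nat.dvd_prime_pow Nat.prime_two).1 (orderOf_dvd_of_pow_eq_one h3)
      have key : ∀ g : alternatingGroup (Fin 5), (g ^ 4 = 1 → g * g = 1) := by decide +kernel
      refine key _ (orderOf_dvd_iff_pow_eq_one.1 ?_)
      rw [hm] at h4 ⊢
      have hm2 : m ≤ 2 := by
        by_contra hgt
        have h8' := (pow_dvd_pow 2 (show 3 ≤ m by omega)).trans h4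
        norm_num at h8'
      exact pow_dvd_pow 2 hm2
    obtain ⟨c, hc⟩ := alt_five_involutions (f wC) (f aC) hfw h1 hfww h2
    obtain ⟨c', rfl⟩ := hf c
    have h5 : f ((c' * wC * c'⁻¹)⁻¹ * aC) = 1 := by
      rw [map_mul, map_inv, map_mul, map_mul, map_inv, hc, inv_mul_cancel]
    set v := (c' : G) * w * (c' : G)⁻¹ with hv
    have hvv : v * v = 1 := by
      rw [hv, show (c' : G) * w * (c' : G)⁻¹ * ((c' : G) * w * (c' : G)⁻¹) = (c' : G) * (w * w) * (c' : G)⁻¹ by group,
        hww]; group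
    have hvC : v ∈ D.C := mul_mem (mul_mem c'.2 (hSC hwS)) (inv_mem c'.2)
    rcases hzi _ h5 with e | e
    · have e' : v⁻¹ * a = 1 := e
      rw [← inv_mul_eq_one.1 e', hvv]
    · have e' : v⁻¹ * a = D.i := e
      rw [show a = v * D.i by rw [← e']; group,
        show v * D.i * (v * D.i) = v * (D.i * v) * D.i by group, ← D.mem_C.1 hvC,
        show v * (v * D.i) * D.i = v * v * (D.i * D.i) by group, hvv, D.i_sq, mul_one]
  have hScomm : IsMulCommutative (S : Subgroup G) := ⟨⟨fun a b => Subtype.ext (by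
    have h1 := hsq _ a.2
    have h2 := hsq _ b.2
    have h3 := hsq _ (mul_mem a.2 b.2)
    show (a : G) * b = b * a
    calc (a : G) * b = ((a : G) * b)⁻¹ := (inv_eq_of_mul_eq_one_right h3).symm
      _ = b * a := by rw [mul_inv_rev, inv_eq_of_mul_eq_one_right h1, inv_eq_of_mul_eq_one_right h2])⟩⟩
  let P : Sylow 2 D.C := S.subtype hSC
  have hP : IsMulCommutative (P : Subgroup D.C) := ⟨⟨fun a b => Subtype.ext (Subtype.ext (by
    have ha : ((a : D.C) : G) ∈ (S : Subgroup G) := mem_subgroupOf.1 a.2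
    have hb : ((b : D.C) : G) ∈ (S : Subgroup G) := mem_subgroupOf.1 b.2
    have e := congrArg Subtype.val (hScomm.is_comm.comm (⟨_, ha⟩ : (S : Subgroup G)) ⟨_, hb⟩)
    exact e))⟩⟩
  obtain ⟨e⟩ := exists_split (z := D.iC) (fun c => Subtype.ext (D.mem_C.1 c.2)) hiC2 f hf hker P hP
  exact Cfsg.Agent.S1644.result S hScomm h8 D.i D.oi e

end Ctx

end CfsgLib.SelfCentralSix
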