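import Cfsg.Agent.Lib.SelfCentralSix.Tools
import Cfsg.Agent.Lib.GW.Done
import Cfsg.Agent.Lib.PSL2.Involution
import Cfsg.Agent.Lib.PCore.Basic

/-!
# The case of a Sylow 2-subgroup of order four
-/

set_option autoImplicit false
set_option linter.style.haveILetI false

namespace CfsgLib.SelfCentralSix

open Subgroup

universe u

variable {G : Type u} [Group G]

/-- In `PSL₂(q)` an element of order six with centraliser of order six forces `q = 11` or `13`. -/
theorem psl_order_six {F : Type} [Field F] [Fintype F] (hodd : Odd (Fintype.card F))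
    (h3 : 3 < Fintype.card F) {s : Matrix.ProjectiveSpecialLinearGroup (Fin 2) F} (hs : orderOf s = 6)
    (hc : Nat.card (Subgroup.centralizer ({s} : Set (Matrix.ProjectiveSpecialLinearGroup (Fin 2) F))) = 6) :
    Fintype.card F = 11 ∨ Fintype.card F = 13 := by
  classical
  obtain ⟨p, hp⟩ := CharP.exists F
  have : Fact p.Prime := ⟨CharP.char_is_prime F p⟩
  let ι : F →+* AlgebraicClosure F := algebraMap F _
  have : CharP (AlgebraicClosure F) p := charP_of_injective_ringHom ι.injective p
  obtain ⟨Φ, hΦ⟩ := CfsgLib.PSL2.exists_frob (F := F) (L := AlgebraicClosure F) p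
  have h2 := CfsgLib.PSL2.two_ne_zero_of_odd hodd
  have hodd' := Nat.odd_iff.1 hodd
  have key : ∀ (x y : OnePoint (AlgebraicClosure F)) (e : ℕ), CfsgLib.PSL2.IsPair ι Φ x y e → 4 ∣ e →
      e = 12 := by
    intro x y e h h4
    obtain ⟨j, hj, hC, hcard⟩ := CfsgLib.PSL2.exists_centralizer_eq hodd hΦ h h4
    have hs3 : orderOf (s ^ 3) = 2 := by rw [orderOf_pow' _ (by norm_num), hs]; norm_num
    obtain ⟨g, hg⟩ := isConj_iff.1 (CfsgLib.PSL2.isConj_of_orderOf_two h2 hs3 hj)
    have ht : orderOf (g * s * g⁻¹) = 6 := (MulEquiv.orderOf_eq (MulAut.conj g) s).trans hs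
    set t := g * s * g⁻¹ with htdef
    have htc : Nat.card (Subgroup.centralizer ({t} : Set (Matrix.ProjectiveSpecialLinearGroup (Fin 2) F))) = 6 :=
      (CfsgLib.PSL2.card_centralizer_conj (isConj_iff.2 ⟨g, rfl⟩)).symm.trans hc
    have htj : t ^ 3 = j := by rw [htdef, conj_pow, hg]
    have htP : t ∈ CfsgLib.PSL2.pslPair ι x y := by
      rw [← hC, Subgroup.mem_centralizer_singleton_iff, ← htj]
      exact (Commute.self_pow t 3).eq
    set P := CfsgLib.PSL2.pslPair ι x y
    set C0 := CfsgLib.PSL2.pslFix ι x y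
    haveI := CfsgLib.PSL2.isCyclic_pslFix hΦ (ι := ι) h.1
    have hd := CfsgLib.PSL2.gcd_eq_two hodd
    have hCc : Nat.card C0 = e / 2 := by rw [CfsgLib.PSL2.card_pslFix hΦ h, hd]
    have hle : C0 ≤ P := by
      intro z hz
      exact Or.inl hz
    have hidx : (C0.subgroupOf P).index = 2 := by
      have h1 := (C0.subgroupOf P).card_mul_index
      rw [Nat.card_congr (subgroupOfEquivOfLe hle).toEquiv, hCc, hcard] at h1
      have hepos : 0 < e := hcard ▸ Nat.card_pos
      have he2 : e / 2 * 2 = e := Nat.div_mul_cancel (dvd_trans (by norm_num) h4)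
      exact mul_left_cancel₀ (a := e / 2) (by omega) (h1.trans he2.symm)
    have hsq : ∀ z ∈ P, z * z ∈ C0 := fun z hz => by
      have := Subgroup.mul_mem_iff_of_index_two hidx (a := ⟨z, hz⟩) (b := ⟨z, hz⟩)
      exact Subgroup.mem_subgroupOf.1 (this.2 Iff.rfl)
    have hjP : j ∈ C0 := by
      haveI : Fact (Nat.Prime 2) := ⟨Nat.prime_two⟩
      have hepos : 0 < e := hcard ▸ Nat.card_pos
      obtain ⟨⟨i, hi⟩, hord⟩ := exists_prime_orderOf_dvd_card' (G := C0) 2 (by rw [hCc]; omega)
      rw [Subgroup.orderOf_mk] at hord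
      have hij : Commute j i := by
        have : i ∈ Subgroup.centralizer {j} := by rw [hC]; exact hle hi
        exact (Subgroup.mem_centralizer_singleton_iff.1 this).symm
      by_contra hjn
      have hji : j ≠ i := fun e' => hjn (e' ▸ hi)
      -- `t` then fixes the only involution of `C0`
      have hti : t * i = i * t := by
        have hn : t * i * t⁻¹ ∈ C0 := by
          haveI : (C0.subgroupOf P).Normal := Subgroup.normal_of_index_eq_two hidx
          have := Subgroup.Normal.conj_mem ‹(C0.subgroupOf P).Normal› ⟨i, hle hi⟩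
            (Subgroup.mem_subgroupOf.2 hi) ⟨t, htP⟩
          exact Subgroup.mem_subgroupOf.1 this
        have := CfsgLib.PSL2.eq_of_orderOf_two (a := (⟨_, hn⟩ : C0)) (b := ⟨i, hi⟩)
          (by rw [Subgroup.orderOf_mk]; exact (MulEquiv.orderOf_eq (MulAut.conj t) i).trans hord)
          (by rw [Subgroup.orderOf_mk]; exact hord)
        exact mul_inv_eq_iff_eq_mul.1 (congrArg Subtype.val this)
      have hz : zpowers t = Subgroup.centralizer ({t} : Set _) :=
        Subgroup.eq_of_le_of_card_ge (zpowers_le.2 (Subgroup.mem_centralizer_singleton_iff.2 rfl))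
          (by rw [htc, Nat.card_zpowers, ht])
      have hiz : i ∈ zpowers t := by rw [hz]; exact Subgroup.mem_centralizer_singleton_iff.2 hti.symm
      haveI : IsCyclic (zpowers t) := Subgroup.isCyclic_zpowers t
      have := CfsgLib.PSL2.eq_of_orderOf_two (a := (⟨j, htj ▸ pow_mem (mem_zpowers t) 3⟩ : zpowers t))
        (b := ⟨i, hiz⟩) (by rw [Subgroup.orderOf_mk]; exact hj) (by rw [Subgroup.orderOf_mk]; exact hord)
      exact hji (congrArg Subtype.val this)
    have htC : t ∈ C0 := by
      have h1 : t = t ^ 3 * (t * t)⁻¹ := by group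
      rw [h1, htj]
      exact mul_mem hjP (inv_mem (hsq t htP))
    have hup : C0 ≤ Subgroup.centralizer ({t} : Set _) := fun z hz => by
      letI : CommGroup C0 := IsCyclic.commGroup
      exact Subgroup.mem_centralizer_singleton_iff.2
        (congrArg Subtype.val (mul_comm (⟨z, hz⟩ : C0) ⟨t, htC⟩))
    have h6 : 6 ∣ Nat.card C0 := ht ▸ Subgroup.orderOf_dvd_natCard C0 htC
    have h6' : Nat.card C0 ∣ 6 := htc ▸ Subgroup.card_dvd_of_le hup
    have := Nat.dvd_antisymm h6' h6
    have he2 : e / 2 * 2 = e := Nat.div_mul_cancel (dvd_trans (by norm_num) h4)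
    omega
  rcases (show Fintype.card F % 4 = 1 ∨ Fintype.card F % 4 = 3 by omega) with h4 | h4
  · obtain ⟨x, y, h⟩ := CfsgLib.PSL2.exists_isPair_split (ι := ι) (Φ := Φ)
    have := key _ _ _ h (by omega)
    omega
  · obtain ⟨x, y, h⟩ := CfsgLib.PSL2.exists_isPair_nonsplit hΦ (ι := ι)
    have := key _ _ _ h (by omega)
    omega

namespace Ctx

variable [Finite G] (D : Ctx G)
include D

theorem oddCore_eq_bot : Cfsg.oddCore G = ⊥ := by
  haveI := D.simple
  haveI : Fact (Nat.Prime 2) := ⟨Nat.prime_two⟩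
  haveI := Cfsg.pPrimeCore_normal 2 G
  refine (inferInstance : (Cfsg.oddCore G).Normal).eq_bot_or_eq_top.resolve_right fun e => ?_
  have h1 := CfsgLib.PCore.not_dvd_card_pPrimeCore (p := 2) (G := G)
  rw [show Cfsg.pPrimeCore 2 G = ⊤ from e, card_top] at h1
  exact h1 (D.oi ▸ orderOf_dvd_natCard D.i)

theorem klein_case (S : Sylow 2 G) (h4 : Nat.card (S : Subgroup G) = 4) :
    ∃ (F : Type) (_ : Field F) (_ : Fintype F), (Fintype.card F = 11 ∨ Fintype.card F = 13) ∧
      Nonempty (G ≃* Matrix.ProjectiveSpecialLinearGroup (Fin 2) F) := by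
  classical
  haveI := D.simple
  haveI : Fact (Nat.Prime 2) := ⟨Nat.prime_two⟩
  have hncyc : ¬ IsCyclic (S : Subgroup G) := fun hc => by
    refine D.false_of_unique S fun a ha b hb ha2 hb2 => ?_
    exact congrArg Subtype.val (CfsgLib.PSL2.eq_of_orderOf_two (a := (⟨a, ha⟩ : (S : Subgroup G)))
      (b := ⟨b, hb⟩) (by rw [Subgroup.orderOf_mk]; exact ha2) (by rw [Subgroup.orderOf_mk]; exact hb2))
  haveI : IsKleinFour (S : Subgroup G) :=
    ⟨h4, (not_isCyclic_iff_exponent_eq_prime Nat.prime_two h4).1 hncyc⟩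
  haveI : Group.IsPerfect G := by
    refine ⟨?_⟩
    rcases (inferInstance : (commutator G).Normal).eq_bot_or_eq_top with e | e
    · exfalso
      refine D.nonab ⟨⟨fun a b => ?_⟩⟩
      have h := Subgroup.commutator_mem_commutator (mem_top a) (mem_top b)
      rw [← _root_.commutator_def, e, mem_bot] at h
      exact commutatorElement_eq_one_iff_mul_comm.1 h
    · exact e
  have hiso : Nonempty (G ⧸ Cfsg.oddCore G ≃* G) :=
    ⟨(QuotientGroup.quotientMulEquivOfEq D.oddCore_eq_bot).trans QuotientGroup.quotientBot⟩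
  obtain ⟨e0⟩ := hiso
  rcases CfsgLib.GW.Done.classification G S 2 le_rfl IsKleinFour.nonempty_mulEquiv with
    ⟨F, hF, hFin, hodd, h3, ⟨e⟩⟩ | ⟨⟨e⟩⟩
  · let f := e0.symm.trans e
    refine ⟨F, hF, hFin, ?_, ⟨f⟩⟩
    refine psl_order_six hodd h3 (s := f D.t) (by rw [MulEquiv.orderOf_eq, D.ord]) ?_
    have hmap : (Subgroup.centralizer ({D.t} : Set G)).map f.toMonoidHom =
        Subgroup.centralizer ({f D.t} : Set _) := by
      ext z
      rw [Subgroup.mem_map, Subgroup.mem_centralizer_singleton_iff]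
      constructor
      · rintro ⟨w, hw, rfl⟩
        show f w * f D.t = f D.t * f w
        rw [← map_mul, ← map_mul, Subgroup.mem_centralizer_singleton_iff.1 hw]
      · intro hz
        refine ⟨f.symm z, Subgroup.mem_centralizer_singleton_iff.2 (f.injective ?_), f.apply_symm_apply z⟩
        rw [map_mul, map_mul, f.apply_symm_apply, hz]
    rw [← hmap, Subgroup.card_map_of_injective f.injective, D.cent, D.card_zpowers_t]
  · exfalso
    have hcard : Nat.card G = 2520 := by
      rw [Nat.card_congr (e0.symm.trans e).toEquiv, nat_card_alternatingGroup, Nat.card_eq_fintype_card,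
        Fintype.card_fin]
      rfl
    have h8 : 8 ∣ Nat.card G := by rw [hcard]; norm_num
    obtain ⟨Q, hQ⟩ := Sylow.exists_subgroup_card_pow_prime (G := G) 2 (n := 3) (by simpa using h8)
    obtain ⟨R, hR⟩ := (IsPGroup.of_card hQ : IsPGroup 2 Q).exists_le_sylow
    have h5 := Subgroup.card_dvd_of_le hR
    rw [hQ, R.card_eq_multiplicity, ← S.card_eq_multiplicity, h4] at h5
    norm_num at h5

end Ctx

end CfsgLib.SelfCentralSix
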