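import Cfsg.Agent.Lib.SelfCentralSix.GLKillTransfer
import Cfsg.Agent.Lib.Blocks.SectionNorm
import Cfsg.Agent.Lib.Blocks.OverPrimeCore
import Cfsg.Agent.Lib.Characters.NormalAvg
import Cfsg.Agent.Lib.BlockCover.Regular

/-!
# The principal 2-block at an involution whose centraliser lies over `GL(2, 3)`
-/

set_option autoImplicit false
set_option linter.style.haveILetI false
set_option linter.unusedSectionVars false

namespace CfsgLib.SelfCentralSix.GLKill

open Cfsg CfsgLib.Characters CfsgLib.GL23 CfsgLib.Blocks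
open scoped ComplexConjugate

universe u

/-- The quaternion subgroup. -/
def pQ (x : T) : Prop := (cls x = 0 ∨ cls x = 1 ∨ cls x = 5) ∧ tdet x ≠ 0

instance : DecidablePred pQ := fun _ => inferInstanceAs (Decidable (_ ∧ _))

theorem pQ_one : pQ (1, 0, 0, 1) := by decide +kernel
theorem pQ_mul : ∀ x y, pQ x → pQ y → pQ (tmul x y) := by decide +kernel
theorem pQ_conj : ∀ x ∈ gl, ∀ g ∈ gl, pQ g → pQ (tconj x g) := by decide +kernel
theorem pQ_four : ∀ x ∈ gl.filter pQ, tpow x 4 = (1, 0, 0, 1) := by decide +kernel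
theorem card_pQ : (gl.filter pQ).card = 8 := by decide +kernel
theorem pQ_selfCentral : ∀ x ∈ gl, (∀ y ∈ gl.filter pQ, tmul x y = tmul y x) → pQ x := by
  decide +kernel
theorem pow_three_of_two_part : ∀ x ∈ gl, ∀ y ∈ gl, inS x → tpow x 8 = (1, 0, 0, 1) →
    x ≠ (2, 0, 0, 2) → tmul x y = tmul y x → tpow y 3 = (1, 0, 0, 1) → y = (1, 0, 0, 1) := by
  decide +kernel
theorem tpow_eight : ∀ x ∈ gl, tpow x 16 = (1, 0, 0, 1) → tpow x 8 = (1, 0, 0, 1) := by
  decide +kernel

variable {G : Type u} [Group G] [Fintype G] {t : G} (φ : Ct t →* M)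
  (hφ : Function.Surjective φ) (hodd : Odd (Nat.card φ.ker)) (ht : orderOf t = 2)
  {Mi : Ideal AlgInt} (hM : IsPModular 2 Mi)

include hφ hodd hM in
/-- Outside the principal block of the centralizer the average over the kernel vanishes. -/
theorem avg_eq_zero [Fintype (Ct t)] [Fintype φ.ker] (ξ : IrrCharacter (Ct t))
    (hξ : ξ ∉ principalBlock Mi (Ct t)) :
    CfsgLib.NormalAvg.avgN φ.ker (ξ : Ct t → ℂ) = 0 := by
  classical
  haveI : Fact (Nat.Prime 2) := ⟨Nat.prime_two⟩
  letI : Fintype M := Fintype.ofFinite M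
  set Q : Subgroup M := sub pQ pQ_one pQ_mul
  have hQmem : ∀ g : M, g ∈ Q ↔ pQ (coords g) := fun g => Iff.rfl
  haveI : Q.Normal := ⟨fun g hg x => by
    rw [hQmem, show x * g * x⁻¹ = (x⁻¹)⁻¹ * g * x⁻¹ by simp, coords_conj]
    exact pQ_conj _ (mem_gl _) _ (mem_gl _) ((hQmem g).1 hg)⟩
  set L : Subgroup (Ct t) := Q.comap φ
  have hOL : φ.ker ≤ L := fun a ha => by
    show φ a ∈ Q
    rw [MonoidHom.mem_ker.1 ha]
    exact one_mem Q
  have hO2 : ¬ 2 ∣ Nat.card φ.ker := by
    rw [← even_iff_two_dvd, Nat.not_even_iff_odd]; exact hodd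
  have hLp : ∀ x ∈ L, ∃ k : ℕ, x ^ 2 ^ k ∈ φ.ker := fun x hx =>
    ⟨2, MonoidHom.mem_ker.2 (coords_injective (by
      rw [map_pow, coords_pow, coords_one]
      exact pQ_four _ (Finset.mem_filter.2 ⟨mem_gl _, hx⟩)))⟩
  have hQc : Nat.card Q = 8 := by rw [card_sub, card_pQ]
  have hLc : Nat.card L = Nat.card φ.ker * 8 := by
    have e1 : L.index = Q.index := Subgroup.index_comap_of_surjective Q hφ
    have e2 := Subgroup.card_mul_index L
    have e3 := Subgroup.card_mul_index Q
    rw [card_M, hQc] at e3
    rw [e1, card_C φ hφ] at e2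
    have e4 : Q.index = 6 := by omega
    rw [e4] at e2
    omega
  have hLC : ∀ S : Sylow 2 L,
      Subgroup.centralizer (((S : Subgroup L).map L.subtype : Subgroup (Ct t)) : Set (Ct t)) ≤ L := by
    intro S c hc
    let f : (S : Subgroup L) →* M := φ.comp (L.subtype.comp (S : Subgroup L).subtype)
    have hS : Nat.card (S : Subgroup L) = 8 := by
      rw [Sylow.card_eq_multiplicity S, hLc,
        Nat.factorization_mul Nat.card_pos.ne' (by norm_num), Finsupp.add_apply,
        Nat.factorization_eq_zero_of_not_dvd hO2, show (8 : ℕ) = 2 ^ 3 from rfl,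
        Nat.prime_two.factorization_pow, Finsupp.single_eq_same]
    have hinj : Function.Injective f := by
      rw [← MonoidHom.ker_eq_bot_iff, Subgroup.eq_bot_iff_forall]
      intro s hs
      have h1 : orderOf s ∣ 8 := hS ▸ orderOf_dvd_natCard s
      have h2 : orderOf s ∣ Nat.card φ.ker := by
        rw [← Subgroup.orderOf_coe, ← Subgroup.orderOf_coe,
          ← Subgroup.orderOf_mk (((s : L) : Ct t)) (MonoidHom.mem_ker.2 (MonoidHom.mem_ker.1 hs))]
        exact orderOf_dvd_natCard _
      refine orderOf_eq_one_iff.1 (Nat.eq_one_of_dvd_coprimes ?_ h1 h2)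
      rw [show (8 : ℕ) = 2 ^ 3 from rfl]
      exact Nat.Coprime.pow_left 3 (Nat.prime_two.coprime_iff_not_dvd.2 hO2)
    have hle : f.range ≤ Q := by
      rintro _ ⟨s, rfl⟩
      exact (s : L).2
    have heq : f.range = Q := Subgroup.eq_of_le_of_card_ge hle
      (by rw [hQc, ← hS, Nat.card_congr (MonoidHom.ofInjective hinj).toEquiv])
    refine pQ_selfCentral _ (mem_gl _) fun y hy => ?_
    obtain ⟨hy1, hy2⟩ := Finset.mem_filter.1 hy
    obtain ⟨g, rfl⟩ := exists_coords (Finset.mem_filter.1 hy1).2
    obtain ⟨s, hs⟩ : g ∈ f.range := heq ▸ hy2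
    rw [← hs, ← coords_mul, ← coords_mul]
    refine congrArg coords ?_
    show φ c * φ ((s : L) : Ct t) = φ ((s : L) : Ct t) * φ c
    rw [← map_mul, ← map_mul]
    exact congrArg φ (Subgroup.mem_centralizer_iff.1 hc _ ⟨(s : L), s.2, rfl⟩).symm
  haveI : L.Normal := Subgroup.Normal.comap inferInstance φ
  have hinv : CfsgLib.BlockOver.IsInvariant φ.ker
      ((principalIrr φ.ker : IrrCharacter φ.ker) : φ.ker → ℂ) := fun _ _ => rfl
  have hblk := CfsgLib.BlockOver.isPBlock_of_constrained hinv hM hO2 hOL hLp hLC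
  have hover : principalBlock Mi (Ct t) =
      CfsgLib.BlockOver.overSet φ.ker (principalIrr φ.ker) := by
    have hmem : principalIrr (Ct t) ∈ CfsgLib.BlockOver.overSet φ.ker (principalIrr φ.ker) := by
      show classInner _ _ ≠ 0
      rw [show (fun k : φ.ker => (principalIrr (Ct t) : Ct t → ℂ) k) =
        (principalIrr φ.ker : φ.ker → ℂ) from rfl, classInner_irr_self (principalIrr φ.ker).2]
      exact one_ne_zero
    exact (IsPBlock.eq_blockOf hM hblk hmem).symm
  rw [hover] at hξ
  have h0 : classInner (fun k : φ.ker => (ξ : Ct t → ℂ) k) (principalIrr φ.ker : φ.ker → ℂ) = 0 :=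
    not_not.1 hξ
  refine (CfsgLib.NormalAvg.avgN_irr φ.ker ξ.2).resolve_left fun h => irr_one_ne_zero ξ ?_
  rw [← h]
  simpa [CfsgLib.NormalAvg.avgN, classInner] using h0

include hφ hodd hM in
/-- A function inflated from `GL(2, 3)` is its own principal block part. -/
theorem blockPart_infl [Fintype (Ct t)] (f : M → ℂ) (hf : IsClassFunction M f) (w : Ct t) :
    blockPart (principalBlock Mi (Ct t)) (fun c => f (φ c)) w = f (φ w) := by
  classical
  letI : Fintype φ.ker := Fintype.ofFinite _
  have hcl : IsClassFunction (Ct t) fun c => f (φ c) := fun a b => by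
    simpa only [map_mul, map_inv] using hf (φ a) (φ b)
  have hz : ∀ ξ : IrrCharacter (Ct t), ξ ∉ principalBlock Mi (Ct t) →
      classInner (fun c => f (φ c)) (ξ : Ct t → ℂ) = 0 := by
    intro ξ hξ
    have h := CfsgLib.NormalAvg.classInner_avgN_left φ.ker (ξ : Ct t → ℂ)
      (f := fun c => f (φ c)) fun n g => by
        show f (φ ((n : Ct t) * g)) = f (φ g)
        rw [map_mul, MonoidHom.mem_ker.1 n.2, one_mul]
    rw [avg_eq_zero φ hφ hodd hM ξ hξ] at h
    rw [classInner_conj_symm, ← h]
    simp [classInner]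
  conv_rhs => rw [show f (φ w) = (fun c => f (φ c)) w from rfl, classFunction_eq_sum hcl]
  rw [blockPart_eq_sum, Finset.sum_apply]
  refine Finset.sum_subset (Finset.subset_univ _) fun ξ _ hξ => ?_
  rw [hz ξ (fun h => hξ (Finset.mem_filter.2 ⟨Finset.mem_univ _, h⟩)), zero_mul]

include hφ hodd ht hM in
/-- Induced functions on the support meet only the principal block. -/
theorem classInner_ind_eq_zero {v : Fin 8 → ℂ}
    (hv : ∀ i, i ∉ ({1, 4, 5, 6, 7} : Finset (Fin 8)) → v i = 0)
    (hg : IsGeneralizedCharacter M (cf v)) {χ : IrrCharacter G}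
    (hχ : χ ∉ principalBlock Mi G) :
    classInner (indFun (Ct t) (tf φ v)) (χ : G → ℂ) = 0 := by
  classical
  haveI : Fact (Nat.Prime 2) := ⟨Nat.prime_two⟩
  set F := indFun (Ct t) (tf φ v) with hF
  have hFc : IsClassFunction G F := isClassFunction_ind' φ hg
  set B := principalBlock Mi G with hBdef
  have hBc : IsClassFunction G fun g => blockPart B F g := by
    intro a b
    simp only [blockPart_eq_sum]
    exact Finset.sum_congr rfl fun ζ _ => by rw [irr_isClassFunction ζ a b]
  -- at the elements whose two-part has `t` among its powers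
  have near : ∀ g u : G, IsPPart 2 g u → (∃ k : ℕ, u ^ k = t) → blockPart B F g = F g := by
    intro g u hgu huk
    obtain ⟨w, rfl, huw, hu2, hw⟩ := hgu
    obtain ⟨k, hk⟩ := huk
    letI := Fintype.ofFinite (Subgroup.centralizer ({u} : Set G))
    have hle : Subgroup.centralizer ({u} : Set G) ≤ Ct t := fun c hc => by
      have h : Commute c u := Subgroup.mem_centralizer_singleton_iff.1 hc
      exact mem_Ct.2 (hk ▸ h.pow_right k).eq
    have hwC : w ∈ Subgroup.centralizer ({u} : Set G) :=
      Subgroup.mem_centralizer_singleton_iff.2 huw.symm.eq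
    set w' : Subgroup.centralizer ({u} : Set G) := ⟨w, hwC⟩
    have hw' : ¬ 2 ∣ orderOf w' := by rw [← Subgroup.orderOf_coe]; exact hw
    have huC : u ∈ Ct t := hle (Subgroup.mem_centralizer_singleton_iff.2 rfl)
    set u' : Ct t := ⟨u, huC⟩
    -- linearity
    have lin : blockPart B F (u * w) =
        blockPart (principalBlock Mi (Subgroup.centralizer ({u} : Set G))) (sectionFun u F) w' := by
      have hexp : sectionFun u F = fun c : Subgroup.centralizer ({u} : Set G) =>
          ∑ ζ : IrrCharacter G, classInner F (ζ : G → ℂ) * sectionFun u (ζ : G → ℂ) c := by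
        funext c
        simp only [sectionFun]
        conv_lhs => rw [classFunction_eq_sum hFc]
        simp
      rw [hexp, blockPart_linear]
      simp only [blockPart_principal_section hM hu2 hw', mul_ite, mul_zero]
      rw [← Finset.sum_filter, blockPart_eq_sum]
    -- values on the section
    have hpow : ∀ c : Subgroup.centralizer ({u} : Set G), ¬ 2 ∣ orderOf c →
        inS (kc φ (u' * ⟨c, hle c.2⟩)) := by
      intro c hc
      refine inS_of_pow φ hφ hodd ht (m := k * orderOf c) (Subtype.ext ?_)
      show (u * (c : G)) ^ (k * orderOf c) = t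
      have hcu : Commute u (c : G) := (Subgroup.mem_centralizer_singleton_iff.1 c.2).symm
      rw [hcu.mul_pow, pow_mul, hk, mul_comm k, pow_mul, ← Subgroup.coe_pow, pow_orderOf_eq_one,
        Subgroup.coe_one, one_pow, mul_one]
      obtain ⟨j, hj⟩ : Odd (orderOf c) := Nat.not_even_iff_odd.1 fun h => hc h.two_dvd
      rw [hj, pow_succ, pow_mul, pow_two, sq_t ht, one_pow, one_mul]
    have hval : ∀ c : Subgroup.centralizer ({u} : Set G), ¬ 2 ∣ orderOf c →
        sectionFun u F c = v (cls (coords (φ u' * φ ⟨c, hle c.2⟩))) := by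
      intro c hc
      have h := ind_apply_supp φ hφ hodd ht hv (hpow c hc)
      show F (u * (c : G)) = _
      rw [← map_mul]
      exact h
    have hB0 := isPBlock_principalBlock (G := Subgroup.centralizer ({u} : Set G)) Mi
    rw [lin, show F (u * w) = sectionFun u F w' from rfl]
    by_cases hc1 : kc φ u' = (2, 0, 0, 2)
    · -- the section of `t` itself
      have hut : u = t := by
        have hm : u' * tC t ∈ φ.ker := MonoidHom.mem_ker.2 (coords_injective (by
          show kc φ (u' * tC t) = coords 1
          rw [kc_mul, hc1, kc_tC φ hφ hodd ht, coords_one]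
          decide +kernel))
        have h1 : orderOf (u' * tC t) ∣ Nat.card φ.ker := by
          rw [← Subgroup.orderOf_mk _ hm]; exact orderOf_dvd_natCard _
        obtain ⟨e, he⟩ := hu2
        have hu' : u' ^ 2 ^ (e + 1) = 1 := Subtype.ext (by
          show u ^ 2 ^ (e + 1) = 1
          rw [pow_succ, pow_mul, ← he, pow_orderOf_eq_one, one_pow])
        have h2 : orderOf (u' * tC t) ∣ 2 ^ (e + 1) := orderOf_dvd_of_pow_eq_one (by
          rw [(tC_comm u').symm.mul_pow, hu', one_mul, pow_succ', pow_mul, pow_two,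
            (tC_invol ht).1, one_pow])
        have h3 : u' * tC t = 1 := orderOf_eq_one_iff.1 (Nat.eq_one_of_dvd_coprimes
          (Nat.Coprime.pow_left _ (Nat.prime_two.coprime_iff_not_dvd.2 (by
            rw [← even_iff_two_dvd, Nat.not_even_iff_odd]; exact hodd))) h2 h1)
        have h4 : u * t = 1 := congrArg Subtype.val h3
        exact (eq_inv_of_mul_eq_one_left h4).trans (inv_eq_of_mul_eq_one_right (sq_t ht))
      subst hut
      have hf : IsClassFunction M fun m => v (cls (coords (φ u' * m))) := by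
        intro a b
        have hz : φ u' * b = b * φ u' := by
          obtain ⟨c, rfl⟩ := hφ b
          rw [← map_mul, ← map_mul, show u' = tC u from rfl, (tC_comm c).eq]
        show v (cls (coords (φ u' * (b * a * b⁻¹)))) = _
        rw [show φ u' * (b * a * b⁻¹) = b * (φ u' * a) * b⁻¹ by
          rw [← mul_assoc, ← mul_assoc, hz, mul_assoc b]]
        exact isClassFunction_cls v _ _
      rw [blockPart_congr_regular hM hB0
        (g := fun c => v (cls (coords (φ u' * φ c)))) (fun c hc => hval c hc) hw']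
      exact (blockPart_infl φ hφ hodd hM (fun m => v (cls (coords (φ u' * m)))) hf w').trans
        (hval w' hw').symm
    · -- the sections with a two-nilpotent centraliser
      have htriv : ∀ c : Subgroup.centralizer ({u} : Set G), ¬ 2 ∣ orderOf c →
          sectionFun u F c = v (cls (coords (φ u'))) := by
        intro c hc
        rw [hval c hc]
        set c' : Ct t := ⟨c, hle c.2⟩
        suffices φ c' = 1 by rw [this, mul_one]
        have hin : inS (kc φ u') := inS_of_pow φ hφ hodd ht (m := k) (Subtype.ext hk)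
        obtain ⟨e, he⟩ := hu2
        have h8 : tpow (kc φ u') 8 = (1, 0, 0, 1) := by
          refine tpow_eight _ (kc_mem φ _) ?_
          rw [kc, ← coords_pow, ← coords_one]
          congr 1
          refine orderOf_dvd_iff_pow_eq_one.1 ?_
          have d1 : orderOf (φ u') ∣ 2 ^ e := (orderOf_map_dvd φ u').trans (by
            rw [← Subgroup.orderOf_coe]; exact he.dvd)
          have d2 : orderOf (φ u') ∣ 48 := card_M ▸ orderOf_dvd_natCard _
          obtain ⟨j, -, hj⟩ := (Nat.dvd_prime_pow Nat.prime_two).1 d1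
          rw [hj] at d2 ⊢
          refine pow_dvd_pow 2 (show j ≤ 4 from ?_)
          by_contra hlt
          exact absurd ((pow_dvd_pow 2 (show 5 ≤ j by omega)).trans d2) (by norm_num)
        refine coords_injective ((pow_three_of_two_part _ (kc_mem φ u') _ (kc_mem φ c') hin h8 hc1
          ?_ ?_).trans coords_one.symm)
        · rw [← kc_mul, ← kc_mul]
          congr 1
          exact Subtype.ext (Subgroup.mem_centralizer_singleton_iff.1 c.2).symm
        · rw [kc, ← coords_pow, ← coords_one]
          congr 1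
          refine orderOf_dvd_iff_pow_eq_one.1 ?_
          have d1 : orderOf (φ c') ∣ 48 := card_M ▸ orderOf_dvd_natCard _
          have d2 : ¬ 2 ∣ orderOf (φ c') := fun h => hc (h.trans ((orderOf_map_dvd φ c').trans
            (by rw [← Subgroup.orderOf_coe, ← Subgroup.orderOf_coe])))
          exact (Nat.Coprime.pow_right 4 (Nat.prime_two.coprime_iff_not_dvd.2 d2).symm).dvd_of_dvd_mul_left
            (show orderOf (φ c') ∣ 2 ^ 4 * 3 from d1)
      rw [blockPart_congr_regular hM hB0
        (g := fun c => ∑ _i : Fin 1, v (cls (coords (φ u'))) *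
          (principalIrr (Subgroup.centralizer ({u} : Set G)) : _ → ℂ) c)
        (fun c hc => by rw [htriv c hc]; simp [principalIrr_apply]) hw', blockPart_linear,
        htriv w' hw']
      simp [blockPart_irr, principalIrr_mem hM, principalIrr_apply]
  -- everywhere
  have hall : ∀ g : G, blockPart B F g = F g := by
    intro g
    obtain ⟨u, hu⟩ := exists_isPPart Nat.prime_two g
    by_cases hk : ∃ (k : ℕ) (d : G), d * u ^ k * d⁻¹ = t
    · obtain ⟨k, d, hd⟩ := hk
      have h := near (d * g * d⁻¹) (d * u * d⁻¹) (IsPPart.conj hu d) ⟨k, by rw [conj_pow, hd]⟩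
      rwa [show blockPart B F (d * g * d⁻¹) = blockPart B F g from hBc g d, hFc g d] at h
    · have hvan : ∀ a z : G, IsPPart 2 a z → IsConj u z → F a = 0 := by
        intro a z haz huz
        obtain ⟨y, rfl, hzy, -, hy⟩ := haz
        rw [hF, CfsgLib.Induction.indFun_apply, Finset.sum_eq_zero, mul_zero]
        intro x _
        by_cases hm : x⁻¹ * (z * y) * x ∈ Ct t
        · rw [CfsgLib.Induction.extendByZero_mem _ _ hm]
          refine tf_eq_zero φ hv fun hs => hk ?_
          obtain ⟨m, hm'⟩ := exists_pow_eq φ hφ hodd ht hs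
          have h1 : x⁻¹ * (z * y) ^ m * x = t := by
            have h := congrArg Subtype.val hm'
            rw [Subgroup.coe_pow] at h
            change (x⁻¹ * (z * y) * x) ^ m = t at h
            rwa [show x⁻¹ * (z * y) * x = x⁻¹ * (z * y) * x⁻¹⁻¹ by rw [inv_inv], conj_pow,
              inv_inv] at h
          obtain ⟨d, rfl⟩ := isConj_iff.1 huz
          have ho : Odd (orderOf y) := Nat.not_even_iff_odd.1 fun h => hy h.two_dvd
          have h2 : x⁻¹ * (d * u * d⁻¹) ^ (m * orderOf y) * x = t := by
            have h := congrArg (· ^ orderOf y) h1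
            obtain ⟨j, hj⟩ := ho
            have hto : t ^ orderOf y = t := by
              rw [hj, pow_succ, pow_mul, pow_two, sq_t ht, one_pow, one_mul]
            simp only [hto] at h
            rw [show x⁻¹ * ((d * u * d⁻¹) * y) ^ m * x =
              x⁻¹ * ((d * u * d⁻¹) * y) ^ m * x⁻¹⁻¹ by rw [inv_inv], conj_pow, inv_inv, ← pow_mul,
              hzy.mul_pow, mul_comm m (orderOf y), pow_mul y, pow_orderOf_eq_one, one_pow,
              mul_one] at h
            rwa [mul_comm m]
          refine ⟨m * orderOf y, x⁻¹ * d, ?_⟩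
          rw [← h2, conj_pow]
          group
        · rw [CfsgLib.Induction.extendByZero_notMem _ _ hm]
      rw [blockPart_eq_zero_of_section hM (isPBlock_principalBlock Mi) hvan hu (IsConj.refl u),
        hvan g u hu (IsConj.refl u)]
  -- conclusion
  have hexp : F = fun g => ∑ ζ ∈ Finset.univ.filter (· ∈ B),
      classInner F (ζ : G → ℂ) * (ζ : G → ℂ) g := funext fun g => by
    rw [← hall g, blockPart_eq_sum]
  generalize hc : (fun ζ : IrrCharacter G => classInner F (ζ : G → ℂ)) = c
  have hexp' : F = fun g => ∑ ζ ∈ Finset.univ.filter (· ∈ B), c ζ * (ζ : G → ℂ) g := by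
    rw [← hc]; exact hexp
  have e : classInner F (χ : G → ℂ) = ∑ ζ ∈ Finset.univ.filter (· ∈ B),
      c ζ * classInner (ζ : G → ℂ) (χ : G → ℂ) := by
    rw [hexp']
    simp only [classInner, Finset.sum_mul, Finset.mul_sum]
    rw [Finset.sum_comm]
    exact Finset.sum_congr rfl fun ζ _ => Finset.sum_congr rfl fun g _ => by ring
  rw [e]
  refine Finset.sum_eq_zero fun ζ hζ => ?_
  have hne : ζ ≠ χ := fun h => hχ (h ▸ (Finset.mem_filter.1 hζ).2)
  rw [classInner_irr, if_neg hne, mul_zero]

end CfsgLib.SelfCentralSix.GLKill
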