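import Cfsg.Agent.Lib.SelfCentralSix.GLKillComb
import Cfsg.Agent.Lib.SelfCentralSix.GLKillBlock
import Cfsg.Agent.Lib.GL23.Main
import Cfsg.Agent.Lib.Blk4.PrincipalTwo
import Cfsg.Agent.Lib.InvChar.EightColumns

/-!
# The odd kernel of a centraliser over `GL(2, 3)` is trivial in a simple group

If the centraliser `C` of the involution `i` maps onto `GL(2, 3)` with a kernel `O` of odd order on
which an element of order three of `C` acts without fixed points, then an irreducible character of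
`C` which is `-1` at `i` and non-trivial on `O` has degree divisible by six.  The exceptional
characters of the principal block supply a non-principal character of `G` whose negative eigenspace
at `i` has dimension less than six, so `O = 1`.
-/

set_option autoImplicit false
set_option linter.style.haveILetI false
set_option linter.unusedSectionVars false
set_option linter.unusedVariables false

namespace CfsgLib.SelfCentralSix.GLKill

open Cfsg CfsgLib.Characters CfsgLib.GL23 CfsgLib.Blocks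
open scoped ComplexConjugate

universe u

theorem commutator_neg_one :
    tmul (tmul (0, 2, 1, 0) (1, 1, 1, 2)) (tinv (tmul (1, 1, 1, 2) (0, 2, 1, 0))) =
      (2, 0, 0, 2) := by decide +kernel

section Local

variable {G : Type u} [Group G] [Finite G] {t : G} (φ : Ct t →* M)
  (hφ : Function.Surjective φ) (hodd : Odd (Nat.card φ.ker)) (ht : orderOf t = 2)
  {x : G} (hxC : x ∈ Ct t) (hx : orderOf x = 3)
  (hfix : ∀ u ∈ φ.ker, (u : G) * x = x * u → u = 1)

include hφ hodd ht in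
/-- A representation which is minus one at the involution has even degree. -/
theorem even_of_neg {n : ℕ} (ρ : Representation ℂ (Ct t) (Fin n → ℂ))
    (hneg : ρ (tC t) = (-1 : ℂ) • 1) : Even n := by
  obtain ⟨a, ha⟩ := kc_surj φ hφ (show ((0, 2, 1, 0) : T) ∈ gl by decide +kernel)
  obtain ⟨b, hb⟩ := kc_surj φ hφ (show ((1, 1, 1, 2) : T) ∈ gl by decide +kernel)
  set o : Ct t := tC t * (a * b * (b * a)⁻¹) with ho
  have hok : o ∈ φ.ker := by
    refine MonoidHom.mem_ker.2 (coords_injective ?_)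
    show kc φ o = coords 1
    have hinv : kc φ (b * a)⁻¹ = tinv (kc φ (b * a)) := by rw [kc, kc, map_inv, coords_inv]
    rw [ho, kc_mul, kc_mul, kc_mul, hinv, kc_mul, ha, hb, commutator_neg_one,
      kc_tC φ hφ hodd ht, coords_one]
    decide +kernel
  let D : Ct t →* ℂ := LinearMap.det.comp ρ
  have h0 : ∀ g, D g ≠ 0 := fun g h => by
    have h1 : D g * D g⁻¹ = 1 := by rw [← map_mul, mul_inv_cancel, map_one]
    rw [h, zero_mul] at h1
    exact zero_ne_one h1
  have hD : D o = (-1 : ℂ) ^ n := by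
    have h1 : D (tC t) = (-1 : ℂ) ^ n := by
      show LinearMap.det (ρ (tC t)) = _
      rw [hneg, LinearMap.det_smul, map_one, mul_one, Module.finrank_fin_fun]
    have h2 : D (a * b * (b * a)⁻¹) = 1 := by
      have h3 : D (a * b * (b * a)⁻¹) * D (b * a) = D (b * a) := by
        rw [← map_mul, mul_assoc (a * b), inv_mul_cancel, mul_one, map_mul, map_mul, mul_comm]
      exact (mul_eq_right₀ (h0 _)).1 h3
    rw [ho, map_mul, h1, h2, mul_one]
  have h1 : D o ^ Nat.card φ.ker = 1 := by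
    have h2 : o ^ Nat.card φ.ker = 1 :=
      congrArg Subtype.val (pow_card_eq_one' (G := φ.ker) (x := ⟨o, hok⟩))
    rw [← map_pow, h2, map_one]
  rw [hD, ← pow_mul] at h1
  rcases (n * Nat.card φ.ker).even_or_odd with h | h
  · exact (Nat.even_mul.1 h).resolve_right (Nat.not_even_iff_odd.2 hodd)
  · rw [h.neg_one_pow] at h1
    norm_num at h1

include hφ hxC hx hfix in
/-- Class functions are constant on `n x` for `n` in the kernel. -/
theorem apply_ker_mul {f : Ct t → ℂ} (hf : IsClassFunction (Ct t) f) {y : Ct t}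
    (hy : ∀ u ∈ φ.ker, u * y = y * u → u = 1) {n : Ct t} (hn : n ∈ φ.ker) :
    f (n * y) = f y := by
  let c : φ.ker → φ.ker := fun o =>
    ⟨(o : Ct t)⁻¹ * (y * (o : Ct t) * y⁻¹), mul_mem (inv_mem o.2)
      ((inferInstance : φ.ker.Normal).conj_mem _ o.2 y)⟩
  have hinj : Function.Injective c := by
    intro o o' h
    have h' : (o : Ct t)⁻¹ * (y * (o : Ct t) * y⁻¹) = (o' : Ct t)⁻¹ * (y * (o' : Ct t) * y⁻¹) :=
      congrArg Subtype.val h
    have h1 : (o' : Ct t) * (o : Ct t)⁻¹ * y = y * ((o' : Ct t) * (o : Ct t)⁻¹) := by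
      calc (o' : Ct t) * (o : Ct t)⁻¹ * y
          = (o' : Ct t) * ((o : Ct t)⁻¹ * (y * (o : Ct t) * y⁻¹)) * (y * (o : Ct t)⁻¹) := by group
        _ = (o' : Ct t) * ((o' : Ct t)⁻¹ * (y * (o' : Ct t) * y⁻¹)) * (y * (o : Ct t)⁻¹) := by
          rw [h']
        _ = y * ((o' : Ct t) * (o : Ct t)⁻¹) := by group
    have h2 := hy _ (mul_mem o'.2 (inv_mem o.2)) h1
    exact (Subtype.ext (mul_inv_eq_one.1 h2)).symm
  obtain ⟨o, ho⟩ := (Finite.injective_iff_surjective.1 hinj) ⟨n, hn⟩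
  have hn' : n = (o : Ct t)⁻¹ * (y * (o : Ct t) * y⁻¹) := (congrArg Subtype.val ho).symm
  rw [hn', show (o : Ct t)⁻¹ * (y * (o : Ct t) * y⁻¹) * y = (o : Ct t)⁻¹ * y * (o : Ct t)⁻¹⁻¹ by
    group]
  exact hf _ _

include hφ hodd ht hxC hx hfix in
/-- The sign at the involution, and the divisibility by six. -/
theorem sign_or_six [Fintype (Ct t)] (ξ : IrrCharacter (Ct t)) :
    ∃ (n : ℕ) (s : ℤ), (ξ : Ct t → ℂ) 1 = n ∧ (s = 1 ∨ s = -1) ∧
      (∀ h, (ξ : Ct t → ℂ) (tC t * h) = s * (ξ : Ct t → ℂ) h) ∧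
      (s = -1 → (∀ o ∈ φ.ker, (ξ : Ct t → ℂ) o = (ξ : Ct t → ℂ) 1) ∨ 6 ∣ n) := by
  classical
  letI : Fintype φ.ker := Fintype.ofFinite _
  obtain ⟨χ, n, ρ, hρ, rfl⟩ := ξ
  haveI := hρ
  obtain ⟨w, hw⟩ := CfsgLib.CharScalar.exists_scalar ρ (ρ (tC t)) fun g => by
    rw [← map_mul, ← map_mul, (tC_comm g).eq]
  haveI := CfsgLib.Characters.nontrivial_of_irreducible ρ
  have hw1 : w = 1 ∨ w = -1 := by
    have h : (w * w) • (1 : Module.End ℂ (Fin n → ℂ)) = (1 : ℂ) • 1 := by
      have h0 := congrArg ρ (tC_invol ht).1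
      rw [map_mul, map_one, hw, smul_mul_smul_comm, one_mul] at h0
      rw [h0, one_smul]
    haveI : Nontrivial (Fin n → ℂ) := CfsgLib.Characters.nontrivial_of_irreducible ρ
    exact mul_self_eq_one_iff.1
      (smul_left_injective ℂ (one_ne_zero (α := Module.End ℂ (Fin n → ℂ))) h)
  obtain ⟨s, hs, hws⟩ : ∃ s : ℤ, (s = 1 ∨ s = -1) ∧ w = s := by
    rcases hw1 with h | h
    · exact ⟨1, Or.inl rfl, by simp [h]⟩
    · exact ⟨-1, Or.inr rfl, by simp [h]⟩
  refine ⟨n, s, by show ρ.character 1 = n; simp, hs, fun h => ?_, fun hs1 => ?_⟩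
  · show ρ.character (tC t * h) = s * ρ.character h
    simp [Representation.character, map_mul, hw, hws]
  have hirr : IsIrrCharacter (Ct t) ρ.character := ⟨n, ρ, hρ, rfl⟩
  rcases CfsgLib.NormalAvg.avgN_irr φ.ker hirr with hA | hA
  · left
    intro o ho
    show ρ.character o = ρ.character 1
    rw [← hA]
    have h := CfsgLib.NormalAvg.avgN_mul_right φ.ker ρ.character ⟨o, ho⟩ 1
    simpa using h
  right
  have hev : Even n := even_of_neg φ hφ hodd ht ρ (by rw [hw, hws, hs1]; simp)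
  set x' : Ct t := ⟨x, hxC⟩
  have hzero : ∀ y : Ct t, (∀ u ∈ φ.ker, u * y = y * u → u = 1) → ρ.character y = 0 := by
    intro y hy
    have h := congrFun hA y
    simp only [CfsgLib.NormalAvg.avgN, Pi.zero_apply] at h
    rw [Finset.sum_congr rfl (g := fun _ => ρ.character y) fun m _ =>
      apply_ker_mul φ hφ hxC hx hfix
        (isClassFunction_of_isCharacter (isCharacter_of_irr hirr)) hy m.2, Finset.sum_const,
      Finset.card_univ, nsmul_eq_mul, ← Nat.card_eq_fintype_card, ← mul_assoc,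
      inv_mul_cancel₀ (Nat.cast_ne_zero.2 Nat.card_pos.ne'), one_mul] at h
    exact h
  have hfix' : ∀ u ∈ φ.ker, u * x' = x' * u → u = 1 := fun u hu h =>
    hfix u hu (congrArg Subtype.val h)
  have hfix'' : ∀ u ∈ φ.ker, u * x'⁻¹ = x'⁻¹ * u → u = 1 := fun u hu h =>
    hfix' u hu (Commute.inv_right_iff.1 h).eq
  have hz1 := hzero x' hfix'
  have hz2 := hzero x'⁻¹ hfix''
  have hox : orderOf x' = 3 := by rw [← Subgroup.orderOf_coe]; exact hx
  let Z := Subgroup.zpowers x'
  letI : Fintype Z := Fintype.ofFinite Z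
  obtain ⟨m, hm⟩ := classInner_char_nat
    (CfsgLib.Clifford.isCharacter_subtype (isCharacter_of_irr hirr) Z)
    (isCharacter_of_irr (principalIrr Z).2)
  have hval : ∀ y : Z, y ≠ 1 → ρ.character (y : Ct t) = 0 := by
    intro y hy
    obtain ⟨k, hk⟩ := ((isOfFinOrder_of_finite x').mem_powers_iff_mem_zpowers.2 y.2)
    change x' ^ k = (y : Ct t) at hk
    rw [← hk, ← pow_mod_orderOf, hox]
    have : k % 3 = 1 ∨ k % 3 = 2 := by
      by_contra h
      apply hy
      apply Subtype.ext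
      rw [← hk, ← pow_mod_orderOf, hox, show k % 3 = 0 by omega, pow_zero]
      rfl
    rcases this with h | h <;> rw [h]
    · rw [pow_one]; exact hz1
    · rw [show x' ^ 2 = x'⁻¹ from eq_inv_of_mul_eq_one_left (by
        rw [← pow_succ, show 2 + 1 = orderOf x' by rw [hox], pow_orderOf_eq_one])]
      exact hz2
  rw [classInner, Nat.card_zpowers, hox, Finset.sum_eq_single 1
    (fun y _ hy => by rw [hval y hy, zero_mul]) (fun h => absurd (Finset.mem_univ _) h)] at hm
  simp [principalIrr_apply, Representation.char_one] at hm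
  have h3 : n = 3 * m := by
    have : (n : ℂ) = 3 * m := by linear_combination 3 * hm
    exact_mod_cast this
  obtain ⟨j, hj⟩ := hev
  omega

include hφ hodd ht hxC hx hfix in
/-- A character constant on `i O` with a small negative eigenspace is trivial on `O`. -/
theorem trivial_on_ker [Fintype G] {χ : G → ℂ} (hχ : IsCharacter G χ) {d z : ℤ}
    (hd : χ 1 = d) (hz : χ t = z) (hsmall : d - z ≤ 11)
    (hconst : ∀ o ∈ φ.ker, χ (t * (o : G)) = χ t) : ∀ o ∈ φ.ker, χ (o : G) = χ 1 := by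
  classical
  letI : Fintype (Ct t) := Fintype.ofFinite _
  choose n s hn hs hsc hsix using sign_or_six φ hφ hodd ht hxC hx hfix
  obtain ⟨m, -, hsum⟩ := CfsgLib.Clifford.exists_mult (CfsgLib.Clifford.isCharacter_subtype hχ (Ct t))
  have hdiff : ∀ h : Ct t, χ (h : G) - χ (t * (h : G)) =
      ∑ ξ : IrrCharacter (Ct t), (m ξ : ℂ) * (1 - (s ξ : ℂ)) * (ξ : Ct t → ℂ) h := by
    intro h
    have h1 := congrFun hsum h
    have h2 := congrFun hsum (tC t * h)
    simp only [Finset.sum_apply, Pi.smul_apply, smul_eq_mul] at h1 h2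
    change χ (h : G) = _ at h1
    change χ (t * (h : G)) = _ at h2
    rw [h1, h2, ← Finset.sum_sub_distrib]
    exact Finset.sum_congr rfl fun ξ _ => by rw [hsc]; ring
  have h1 := hdiff 1
  simp only [Subgroup.coe_one, mul_one, hd, hz, hn] at h1
  have h1' : d - z = ∑ ξ : IrrCharacter (Ct t), (m ξ : ℤ) * (1 - s ξ) * n ξ := by exact_mod_cast h1
  intro o ho
  have h2 : χ (o : G) - χ (t * (o : G)) = χ 1 - χ t := by
    rw [hd, hz, h1, hdiff]
    refine Finset.sum_congr rfl fun ξ _ => ?_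
    rcases hs ξ with h | h
    · rw [h]; simp
    rcases hsix ξ h with hker | hdvd
    · rw [hker o ho, hn]
    · have hle : (m ξ : ℤ) * (1 - s ξ) * n ξ ≤ 11 := by
        refine (Finset.single_le_sum (f := fun ξ => (m ξ : ℤ) * (1 - s ξ) * n ξ) (fun η _ => ?_)
          (Finset.mem_univ ξ)).trans (h1'.symm.le.trans hsmall)
        rcases hs η with e | e <;> rw [e] <;> norm_num <;> positivity
      rw [h] at hle
      have hn0 : 0 < n ξ := by
        rcases Nat.eq_zero_or_pos (n ξ) with e | e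
        · have := hn ξ
          rw [e, Nat.cast_zero] at this
          exact absurd this (irr_one_ne_zero ξ)
        · exact e
      have hm : m ξ = 0 := by
        by_contra h0
        obtain ⟨j, hj⟩ := hdvd
        have h4 : 6 ≤ n ξ := by omega
        have h5 : (1 : ℤ) ≤ m ξ := by omega
        nlinarith
      simp [hm]
  rw [hconst o ho] at h2
  exact sub_left_inj.1 h2

include hφ hodd ht in
/-- `32` does not divide the order. -/
theorem not_thirtyTwo_dvd : ¬ 2 ^ 5 ∣ Nat.card G := by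
  intro h32
  haveI : Fact (Nat.Prime 2) := ⟨Nat.prime_two⟩
  set S₁ : Subgroup (Ct t) := (sub pS pS_one pS_mul).comap φ with hS₁
  have hO2 : ¬ 2 ∣ Nat.card φ.ker := by
    rw [← even_iff_two_dvd, Nat.not_even_iff_odd]; exact hodd
  have hc1 : Nat.card S₁ = Nat.card φ.ker * 16 := by
    have e1 : S₁.index = (sub pS pS_one pS_mul).index := Subgroup.index_comap_of_surjective _ hφ
    have e2 := Subgroup.card_mul_index S₁
    have e3 := Subgroup.card_mul_index (sub pS pS_one pS_mul)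
    rw [card_M, card_sub, card_pS] at e3
    rw [e1, card_C φ hφ, show (sub pS pS_one pS_mul).index = 3 by omega] at e2
    omega
  obtain ⟨P⟩ : Nonempty (Sylow 2 S₁) := inferInstance
  have hP : Nat.card (P : Subgroup S₁) = 16 := by
    rw [Sylow.card_eq_multiplicity P, hc1,
      Nat.factorization_mul Nat.card_pos.ne' (by norm_num), Finsupp.add_apply,
      Nat.factorization_eq_zero_of_not_dvd hO2, show (16 : ℕ) = 2 ^ 4 from rfl,
      Nat.prime_two.factorization_pow, Finsupp.single_eq_same]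
  let f : (P : Subgroup S₁) →* M := φ.comp (S₁.subtype.comp (P : Subgroup S₁).subtype)
  have hinj : Function.Injective f := by
    rw [← MonoidHom.ker_eq_bot_iff, Subgroup.eq_bot_iff_forall]
    intro s hs
    have h1 : orderOf s ∣ 2 ^ 4 := (hP ▸ orderOf_dvd_natCard s : orderOf s ∣ 16)
    have h2 : orderOf s ∣ Nat.card φ.ker := by
      rw [← Subgroup.orderOf_coe, ← Subgroup.orderOf_coe,
        ← Subgroup.orderOf_mk (((s : S₁) : Ct t)) (MonoidHom.mem_ker.2 (MonoidHom.mem_ker.1 hs))]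
      exact orderOf_dvd_natCard _
    exact orderOf_eq_one_iff.1 (Nat.eq_one_of_dvd_coprimes
      (Nat.Coprime.pow_left 4 (Nat.prime_two.coprime_iff_not_dvd.2 hO2)) h1 h2)
  have hrange : f.range = sub pS pS_one pS_mul := by
    refine Subgroup.eq_of_le_of_card_ge ?_ ?_
    · rintro _ ⟨s, rfl⟩
      exact (s : S₁).2
    · rw [← Nat.card_congr (MonoidHom.ofInjective hinj).toEquiv, hP, card_sub, card_pS]
  let H : Subgroup G := ((P : Subgroup S₁).map S₁.subtype).map (Ct t).subtype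
  have hH : Nat.card H = 2 ^ 4 := by
    rw [Subgroup.card_map_of_injective (Ct t).subtype_injective,
      Subgroup.card_map_of_injective S₁.subtype_injective, hP]
    rfl
  have hHC : H ≤ Ct t := Subgroup.map_subtype_le _
  have hlift : ∀ y ∈ gl.filter pS, ∃ h : Ct t, (h : G) ∈ H ∧ kc φ h = y := by
    intro y hy
    obtain ⟨hy1, hy2⟩ := Finset.mem_filter.1 hy
    obtain ⟨g, rfl⟩ := exists_coords (Finset.mem_filter.1 hy1).2
    obtain ⟨s, hs⟩ : g ∈ f.range := hrange ▸ hy2
    exact ⟨((s : S₁) : Ct t), ⟨_, ⟨(s : S₁), s.2, rfl⟩, rfl⟩, congrArg coords hs⟩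
  have hmemH : ∀ h : Ct t, (h : G) ∈ H → pS (kc φ h) := by
    rintro h ⟨a, ⟨b, -, rfl⟩, e⟩
    rw [← Subtype.ext e (a1 := (b : Ct t)) (a2 := h)]
    exact b.2
  obtain ⟨K, hK, hHK⟩ := Sylow.exists_subgroup_card_pow_succ h32 hH
  have hidx : (H.subgroupOf K).index = 2 := by
    have h1 := (H.subgroupOf K).index_mul_card
    rw [Nat.card_congr (Subgroup.subgroupOfEquivOfLe hHK).toEquiv, hH, hK] at h1
    omega
  have hN := Subgroup.normal_of_index_eq_two hidx
  have hconj : ∀ g : G, g ∈ H → ∀ k : G, k ∈ K → k * g * k⁻¹ ∈ H := fun g hg k hk =>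
    hN.conj_mem (⟨g, hHK hg⟩ : K) hg ⟨k, hk⟩
  -- `t` lies in `H`
  have htH : t ∈ H := by
    obtain ⟨h, hh, hk⟩ := hlift (2, 0, 0, 2) (by decide +kernel)
    have hm : h * tC t ∈ φ.ker := MonoidHom.mem_ker.2 (coords_injective (by
      show kc φ (h * tC t) = coords 1
      rw [kc_mul, hk, kc_tC φ hφ hodd ht, coords_one]
      decide +kernel))
    have h1 : orderOf (h * tC t) ∣ Nat.card φ.ker := by
      rw [← Subgroup.orderOf_mk _ hm]; exact orderOf_dvd_natCard _
    have hh16 : h ^ 2 ^ 4 = 1 := Subtype.ext (by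
      rw [Subgroup.coe_pow, Subgroup.coe_one, ← hH]
      exact congrArg Subtype.val (pow_card_eq_one' (G := H) (x := ⟨(h : G), hh⟩)))
    have h2 : orderOf (h * tC t) ∣ 2 ^ 4 := orderOf_dvd_of_pow_eq_one (by
      rw [(tC_comm h).symm.mul_pow, hh16, one_mul, show (2 : ℕ) ^ 4 = 2 * 8 from rfl, pow_mul,
        pow_two, (tC_invol ht).1, one_pow])
    have h3 : h * tC t = 1 := orderOf_eq_one_iff.1 (Nat.eq_one_of_dvd_coprimes
      (Nat.Coprime.pow_left 4 (Nat.prime_two.coprime_iff_not_dvd.2 hO2)) h2 h1)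
    have h4 : (h : G) = t := (eq_inv_of_mul_eq_one_left (congrArg Subtype.val h3)).trans
      (inv_eq_of_mul_eq_one_right (sq_t ht))
    rwa [h4] at hh
  have hKC : K ≤ Ct t := by
    intro k hk
    have hy := hconj t htH k hk
    set y' : Ct t := ⟨k * t * k⁻¹, hHC hy⟩
    have hyinv : IsInvol y' := by
      refine ⟨Subtype.ext ?_, fun h => ?_⟩
      · show k * t * k⁻¹ * (k * t * k⁻¹) = 1
        rw [show k * t * k⁻¹ * (k * t * k⁻¹) = k * (t * t) * k⁻¹ by group, sq_t ht]
        group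
      · have h' : k * t * k⁻¹ = 1 := congrArg Subtype.val h
        exact t_ne_one ht (by simpa using h')
    have hy2 : kc φ y' = (2, 0, 0, 2) := by
      obtain ⟨q1, q2⟩ := kc_invol φ hodd hyinv
      refine pS_central _ (Finset.mem_filter.2 ⟨kc_mem φ _, hmemH y' hy⟩) q1 q2 fun z hz => ?_
      obtain ⟨b, hb, rfl⟩ := hlift z hz
      rw [← kc_mul, ← kc_mul]
      refine congrArg (kc φ) (Subtype.ext ?_)
      show k * t * k⁻¹ * (b : G) = (b : G) * (k * t * k⁻¹)
      have hb' : k⁻¹ * b * k⁻¹⁻¹ ∈ H := hconj _ hb _ (inv_mem hk)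
      have h4 : (k⁻¹ * b * k⁻¹⁻¹) * t = t * (k⁻¹ * b * k⁻¹⁻¹) := mem_Ct.1 (hHC hb')
      calc k * t * k⁻¹ * (b : G) = k * (t * (k⁻¹ * b * k⁻¹⁻¹)) * k⁻¹ := by group
        _ = k * ((k⁻¹ * b * k⁻¹⁻¹) * t) * k⁻¹ := by rw [h4]
        _ = (b : G) * (k * t * k⁻¹) := by group
    have h5 : y' * tC t = 1 := by
      refine eq_one_of_invol_ker φ hodd ?_ (coords_injective ?_)
      · rw [show y' * tC t * (y' * tC t) = y' * y' * (tC t * tC t) from
          (tC_comm y').mul_mul_mul_comm _ _, hyinv.1, (tC_invol ht).1, one_mul]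
      · show kc φ (y' * tC t) = coords 1
        rw [kc_mul, hy2, kc_tC φ hφ hodd ht, coords_one]
        decide +kernel
    have h6 : k * t * k⁻¹ = t := (eq_inv_of_mul_eq_one_left (congrArg Subtype.val h5)).trans
      (inv_eq_of_mul_eq_one_right (sq_t ht))
    exact mem_Ct.2 (mul_inv_eq_iff_eq_mul.1 h6)
  have h5 := Subgroup.card_dvd_of_le hKC
  rw [hK, card_C φ hφ, show (2 : ℕ) ^ (4 + 1) = 16 * 2 from rfl,
    show Nat.card φ.ker * 48 = 16 * (Nat.card φ.ker * 3) by ring] at h5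
  have h6 := (Nat.prime_two.dvd_mul).1 (Nat.dvd_of_mul_dvd_mul_left (by norm_num) h5)
  exact h6.elim hO2 (by norm_num)

end Local

/-- The kernel is trivial. -/
theorem ker_eq_bot {G : Type u} [Group G] [Finite G] [IsSimpleGroup G]
    (hna : ¬ IsMulCommutative G)
    (h1 : ∀ a b : G, orderOf a = 2 → orderOf b = 2 → IsConj a b) {i x : G} (hi : orderOf i = 2)
    (φ : ↥(Subgroup.centralizer ({i} : Set G)) →* GL (Fin 2) (ZMod 3))
    (hφ : Function.Surjective φ) (hodd : Odd (Nat.card φ.ker))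
    (hxC : x ∈ Subgroup.centralizer ({i} : Set G)) (hx : orderOf x = 3)
    (hfix : ∀ u ∈ φ.ker, (u : G) * x = x * u → u = 1) : φ.ker = ⊥ := by
  classical
  haveI : Fact (Nat.Prime 2) := ⟨Nat.prime_two⟩
  letI : Fintype G := Fintype.ofFinite G
  letI : Fintype (Ct i) := Fintype.ofFinite _
  letI : Fintype M := Fintype.ofFinite M
  obtain ⟨Mi, hM⟩ := CfsgLib.BlockCover.exists_isPModular (p := 2) Nat.prime_two
  have svA : ∀ i, i ∉ ({1, 4, 5, 6, 7} : Finset (Fin 8)) → vA i = 0 := by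
    intro i hi; fin_cases i <;> simp [vA] at hi ⊢
  have svD : ∀ i, i ∉ ({1, 4, 5, 6, 7} : Finset (Fin 8)) → vD i = 0 := by
    intro i hi; fin_cases i <;> simp [vD] at hi ⊢
  have svE : ∀ i, i ∉ ({1, 4, 5, 6, 7} : Finset (Fin 8)) → vE i = 0 := by
    intro i hi; fin_cases i <;> simp [vE] at hi ⊢
  let FA : G → ℂ := indFun (Ct i) (tf φ vA)
  let FD : G → ℂ := indFun (Ct i) (tf φ vD)
  let FE : G → ℂ := indFun (Ct i) (tf φ vE)
  have gA : IsGeneralizedCharacter G FA :=
    CfsgLib.CharArtin.isGeneralizedCharacter_indFun _ (isGeneralized_tf φ isGeneralized_A)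
  have gD : IsGeneralizedCharacter G FD :=
    CfsgLib.CharArtin.isGeneralizedCharacter_indFun _ (isGeneralized_tf φ isGeneralized_D)
  have gE : IsGeneralizedCharacter G FE :=
    CfsgLib.CharArtin.isGeneralizedCharacter_indFun _ (isGeneralized_tf φ isGeneralized_E)
  choose mA hmA using (isGeneralizedCharacter_iff.1 gA).2
  choose mD hmD using (isGeneralizedCharacter_iff.1 gD).2
  choose mE hmE using (isGeneralizedCharacter_iff.1 gE).2
  choose z₀ hz₀ using exists_int_value (G := G) hi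
  choose dd hd0 hd using fun χ : IrrCharacter G => irr_exists_degree χ.2
  let B := principalBlock Mi G
  let z : IrrCharacter G → ℤ := fun χ => if χ ∈ B then z₀ χ else 0
  -- only the principal block occurs
  have hoff : ∀ {v : Fin 8 → ℂ}, (∀ j, j ∉ ({1, 4, 5, 6, 7} : Finset (Fin 8)) → v j = 0) →
      IsGeneralizedCharacter M (cf v) → ∀ {m : IrrCharacter G → ℤ},
      (∀ χ : IrrCharacter G, classInner (indFun (Ct i) (tf φ v)) (χ : G → ℂ) = m χ) →
      ∀ χ, χ ∉ B → m χ = 0 := by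
    intro v hv hg m hm χ hχ
    have h := classInner_ind_eq_zero φ hφ hodd hi hM hv hg hχ
    rw [hm] at h
    exact_mod_cast h
  have oA0 := hoff svA isGeneralized_A hmA
  have oD0 := hoff svD isGeneralized_D hmD
  have oE0 := hoff svE isGeneralized_E hmE
  have ev : ∀ {F : G → ℂ} {m : IrrCharacter G → ℤ}, IsClassFunction G F →
      (∀ χ : IrrCharacter G, classInner F (χ : G → ℂ) = m χ) →
      ∀ x, F x = ∑ χ, (m χ : ℂ) * (χ : G → ℂ) x := by
    intro F m hF hm x
    conv_lhs => rw [classFunction_eq_sum hF]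
    simp [hm]
  have ip : ∀ {F F' : G → ℂ} {m m' : IrrCharacter G → ℤ}, IsClassFunction G F' →
      (∀ χ : IrrCharacter G, classInner F (χ : G → ℂ) = m χ) →
      (∀ χ : IrrCharacter G, classInner F' (χ : G → ℂ) = m' χ) →
      classInner F F' = ((∑ χ, m χ * m' χ : ℤ) : ℂ) := by
    intro F F' m m' hF' hm hm'
    rw [classInner_eq_sum_mul hF']
    simp [hm, hm']
  have cA := isClassFunction_of_isGeneralizedCharacter gA
  have cD := isClassFunction_of_isGeneralizedCharacter gD
  have cE := isClassFunction_of_isGeneralizedCharacter gE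
  have iAA := (inner_ind' φ hφ hodd hi svA svA isGeneralized_A).symm.trans (ip cA hmA hmA)
  have iDD := (inner_ind' φ hφ hodd hi svD svD isGeneralized_D).symm.trans (ip cD hmD hmD)
  have iEE := (inner_ind' φ hφ hodd hi svE svE isGeneralized_E).symm.trans (ip cE hmE hmE)
  have iAD := (inner_ind' φ hφ hodd hi svA svD isGeneralized_D).symm.trans (ip cD hmA hmD)
  have iAE := (inner_ind' φ hφ hodd hi svA svE isGeneralized_E).symm.trans (ip cE hmA hmE)
  have iED := (inner_ind' φ hφ hodd hi svE svD isGeneralized_D).symm.trans (ip cD hmE hmD)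
  simp [Fin.sum_univ_eight, clsSize, vA, vD, vE, conj_aC, map_ofNat, map_neg, aC_sq]
    at iAA iDD iEE iAD iAE iED
  norm_num at iAA iDD iEE iAD iAE iED
  let vD' : Fin 8 → ℂ := fun j => conj (vD j)
  have svD' : ∀ j, j ∉ ({1, 4, 5, 6, 7} : Finset (Fin 8)) → vD' j = 0 := fun j hj => by
    simp [vD', svD j hj]
  have hD'eq : indFun (Ct i) (tf φ vD') = fun x => conj (FD x) :=
    funext fun x => CfsgLib.Induction.indFun_conj_apply (Ct i) (tf φ vD) x
  have hconjcoef : ∀ {F : G → ℂ} {m : IrrCharacter G → ℤ},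
      (∀ χ : IrrCharacter G, classInner F (χ : G → ℂ) = m χ) →
      ∀ χ : IrrCharacter G,
        classInner (fun x => conj (F x)) (χ : G → ℂ) = m (CfsgLib.BrauerPerm.conjIrr χ) := by
    intro F m hm χ
    have h := congrArg conj (hm (CfsgLib.BrauerPerm.conjIrr χ))
    simp only [classInner, map_mul, map_inv₀, map_natCast, map_sum, map_intCast,
      CfsgLib.BrauerPerm.conjIrr_apply, Complex.conj_conj] at h
    exact h
  have hreal : ∀ {v : Fin 8 → ℂ}, (∀ j, conj (v j) = v j) → ∀ {m : IrrCharacter G → ℤ},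
      (∀ χ : IrrCharacter G, classInner (indFun (Ct i) (tf φ v)) (χ : G → ℂ) = m χ) →
      ∀ χ, m (CfsgLib.BrauerPerm.conjIrr χ) = m χ := by
    intro v hv m hm χ
    have h1 := hconjcoef hm χ
    have h2 : (fun x => conj (indFun (Ct i) (tf φ v) x)) = indFun (Ct i) (tf φ v) := by
      funext x
      rw [← CfsgLib.Induction.indFun_conj_apply]
      congr 1
      exact funext fun h => hv _
    rw [h2, hm] at h1
    exact_mod_cast h1.symm
  have hvA : ∀ j, conj (vA j) = vA j := by intro j; fin_cases j <;> simp [vA, map_ofNat]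
  have hvE : ∀ j, conj (vE j) = vE j := by intro j; fin_cases j <;> simp [vE, map_ofNat]
  have hAσ := hreal hvA hmA
  have hEσ := hreal hvE hmE
  have hgD' : IsGeneralizedCharacter M (cf vD') := isGeneralizedCharacter_conj isGeneralized_D
  have iDD' := (inner_ind' φ hφ hodd hi svD svD' hgD').symm.trans
    (ip (isClassFunction_ind' φ hgD') hmD (fun χ => by rw [hD'eq]; exact hconjcoef hmD χ))
  simp [Fin.sum_univ_eight, clsSize, vD, vD', conj_aC, map_ofNat, map_neg, aC_sq] at iDD'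
  norm_num at iDD'
  have oA := (hmA (principalIrr G)).symm.trans (inner_ind_one' φ hφ vA)
  have oD := (hmD (principalIrr G)).symm.trans (inner_ind_one' φ hφ vD)
  have oE := (hmE (principalIrr G)).symm.trans (inner_ind_one' φ hφ vE)
  simp [Fin.sum_univ_eight, clsSize, vA, vD, vE] at oA oD oE
  norm_num at oA oD oE
  ring_nf at oA oD oE
  have deg : ∀ {F : G → ℂ} {m : IrrCharacter G → ℤ}, IsClassFunction G F →
      (∀ χ : IrrCharacter G, classInner F (χ : G → ℂ) = m χ) → F 1 = 0 →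
      ∑ χ, m χ * (dd χ : ℤ) = 0 := by
    intro F m hF hm h1
    rw [ev hF hm] at h1
    simp only [hd] at h1
    exact_mod_cast h1
  have hmz : ∀ {m : IrrCharacter G → ℤ}, (∀ χ, χ ∉ B → m χ = 0) → ∀ (R : ℤ → ℤ → ℤ),
      (∀ a, R 0 a = 0) → ∀ χ, R (m χ) (z₀ χ) = R (m χ) (z χ) := by
    intro m hm R hR χ
    by_cases hχ : χ ∈ B
    · simp [z, if_pos hχ]
    · rw [hm χ hχ, hR, hR]
  have val : ∀ {F : G → ℂ} {m : IrrCharacter G → ℤ} {r : ℤ}, IsClassFunction G F →
      (∀ χ : IrrCharacter G, classInner F (χ : G → ℂ) = m χ) → (∀ χ, χ ∉ B → m χ = 0) →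
      F i = r → ∑ χ, m χ * z χ = r := by
    intro F m r hF hm hm0 h1
    rw [ev hF hm] at h1
    simp only [hz₀] at h1
    rw [← Finset.sum_congr rfl fun χ _ => hmz hm0 (fun a b => a * b) (fun a => zero_mul a) χ]
    exact_mod_cast h1
  have hPB : principalIrr G ∈ B := CfsgLib.Blocks.principalIrr_mem hM
  have hP1 : (dd (principalIrr G) : ℤ) = 1 := by
    have h := hd (principalIrr G)
    rw [principalIrr_apply] at h
    exact_mod_cast h.symm
  have hPi : z (principalIrr G) = 1 := by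
    have h := hz₀ (principalIrr G)
    rw [principalIrr_apply] at h
    simp only [z, if_pos hPB]
    exact_mod_cast h.symm
  have hσP : CfsgLib.BrauerPerm.conjIrr (principalIrr G) = principalIrr G :=
    Subtype.ext (funext fun g => by simp)
  have hσσ : ∀ χ : IrrCharacter G,
      CfsgLib.BrauerPerm.conjIrr (CfsgLib.BrauerPerm.conjIrr χ) = χ := fun χ =>
    Subtype.ext (funext fun g => by simp)
  have hzσ : ∀ χ, z (CfsgLib.BrauerPerm.conjIrr χ) = z χ := by
    intro χ
    have hB : CfsgLib.BrauerPerm.conjIrr χ ∈ B ↔ χ ∈ B :=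
      ⟨fun h => by
        have h' : CfsgLib.BrauerPerm.conjIrr (CfsgLib.BrauerPerm.conjIrr χ) ∈ B :=
          CfsgLib.Blk4.conjIrrC_mem_principal _ h
        rwa [hσσ] at h',
       fun h => CfsgLib.Blk4.conjIrrC_mem_principal _ h⟩
    by_cases hχ : χ ∈ B
    · simp only [z, if_pos hχ, if_pos (hB.2 hχ)]
      have h := hz₀ (CfsgLib.BrauerPerm.conjIrr χ)
      rw [CfsgLib.BrauerPerm.conjIrr_apply, hz₀ χ, map_intCast] at h
      exact_mod_cast h.symm
    · simp only [z, if_neg hχ, if_neg (fun h => hχ (hB.1 h))]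
  -- the column inside the principal block
  have hcol : ∑ χ, z χ ^ 2 ≤ 48 := by
    have hpp : ∃ k : ℕ, orderOf i = 2 ^ k := ⟨1, by rw [hi, pow_one]⟩
    have hns := principal_section_norm hM hpp
      (y := (1 : Subgroup.centralizer ({i} : Set G))) (by rw [orderOf_one]; norm_num)
    let f : M → ℂ := fun g => if g = 1 then 1 else 0
    have hf : IsClassFunction M f := fun a b => by
      show (if b * a * b⁻¹ = 1 then (1 : ℂ) else 0) = if a = 1 then 1 else 0
      simp only [conj_eq_one_iff]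
    have hb := blockPart_infl φ hφ hodd hM f hf 1
    rw [blockPart_eq_sum] at hb
    have hcoef : ∀ ξ ∈ Finset.univ.filter (fun ξ : IrrCharacter (Ct i) =>
        ξ ∈ principalBlock Mi (Ct i)),
        classInner (fun c => f (φ c)) (ξ : Ct i → ℂ) =
          (48 : ℂ)⁻¹ * conj ((ξ : Ct i → ℂ) 1) := by
      intro ξ hξ
      have hk : ∀ c : Ct i, f (φ c) * conj ((ξ : Ct i → ℂ) c) =
          if c ∈ φ.ker then conj ((ξ : Ct i → ℂ) 1) else 0 := by
        intro c
        by_cases hc : c ∈ φ.ker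
        · rw [if_pos hc, ← principalBlock_kernel hM (Finset.mem_filter.1 hξ).2 (N := φ.ker)
            (by rw [← even_iff_two_dvd, Nat.not_even_iff_odd]; exact hodd) hc]
          simp [f, MonoidHom.mem_ker.1 hc]
        · rw [if_neg hc]
          have hne : φ c ≠ 1 := fun h => hc (MonoidHom.mem_ker.2 h)
          simp [f, hne]
      rw [classInner, Finset.sum_congr rfl fun c _ => hk c, ← Finset.sum_filter, Finset.sum_const,
        nsmul_eq_mul, ← Fintype.card_subtype, ← Nat.card_eq_fintype_card, card_C φ hφ]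
      have h0 : (Nat.card φ.ker : ℂ) ≠ 0 := Nat.cast_ne_zero.2 Nat.card_pos.ne'
      push_cast
      field_simp
    rw [Finset.sum_congr rfl fun ξ hξ => by rw [hcoef ξ hξ, mul_assoc, Complex.conj_mul']] at hb
    simp only [map_one, f, if_true] at hb
    rw [← Finset.mul_sum, inv_mul_eq_one₀ (by norm_num)] at hb
    have hb' : ∑ ξ ∈ Finset.univ.filter (fun ξ : IrrCharacter (Ct i) =>
        ξ ∈ principalBlock Mi (Ct i)), ‖(ξ : Ct i → ℂ) 1‖ ^ 2 = 48 := by exact_mod_cast hb.symm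
    rw [hb'] at hns
    have hcast : ((∑ χ, z χ ^ 2 : ℤ) : ℝ) = 48 := by
      rw [← hns, Finset.sum_filter]
      push_cast
      refine Finset.sum_congr rfl fun χ _ => ?_
      by_cases hχ : χ ∈ B
      · rw [if_pos hχ, mul_one, hz₀, Complex.norm_intCast, sq_abs]
        simp only [z, if_pos hχ]
      · rw [if_neg hχ]
        simp [z, if_neg hχ]
    exact_mod_cast hcast.le
  -- the structure constants
  have hall : ∀ a : G, orderOf a = 2 → IsConj i a := fun a ha => h1 i a hi ha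
  set J := invCount φ (1, 0, 0, 2)
  set K : ℤ := (Nat.card φ.ker : ℤ) * (J : ℤ) ^ 2
  have main : ∀ {v : Fin 8 → ℂ}, (∀ j, j ∉ ({1, 4, 5, 6, 7} : Finset (Fin 8)) → v j = 0) →
      ∀ {m : IrrCharacter G → ℤ}, IsClassFunction G (indFun (Ct i) (tf φ v)) →
      (∀ χ : IrrCharacter G, classInner (indFun (Ct i) (tf φ v)) (χ : G → ℂ) = m χ) →
      (∀ χ, χ ∉ B → m χ = 0) →
      ∀ r : ℤ, ∑ j, (clsSize j : ℂ) * (v j * (invTbl j : ℂ)) = r →
      ((Nat.card G : ℤ) : ℚ) * ∑ χ, (m χ : ℚ) * ((z χ : ℚ) ^ 2 / ((dd χ : ℤ) : ℚ)) =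
        48 * r * K := by
    intro v hv m hF hm hm0 r hr
    have e1 := sum_products φ hφ hodd hi hall hv
    simp only [ev hF hm] at e1
    rw [Finset.sum_congr rfl (fun a _ => Finset.sum_comm), Finset.sum_comm] at e1
    have hscp : ∀ [DecidablePred (IsConj i : G → Prop)] (χ : IrrCharacter G), ∑ a ∈ Finset.univ.filter (IsConj i),
        ∑ b ∈ Finset.univ.filter (IsConj i), (χ : G → ℂ) (a * b) =
        ((Nat.card {x : G // IsConj i x} : ℂ)) ^ 2 *
          ((χ : G → ℂ) i ^ 2 / (χ : G → ℂ) 1) := fun {_} χ => by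
      convert sum_class_product χ i
    simp only [← Finset.mul_sum] at e1
    simp only [hscp, hz₀, hd, hr] at e1
    have hC0 : (Nat.card (Ct i) : ℂ) ≠ 0 := Nat.cast_ne_zero.2 Nat.card_pos.ne'
    have hk : (Nat.card {x : G // IsConj i x} : ℂ) =
        (Nat.card G : ℂ) / (Nat.card (Ct i) : ℂ) := by
      rw [← card_isConj_mul_card_centralizer i]
      push_cast
      rw [mul_div_assoc, div_self hC0, mul_one]
    rw [hk] at e1
    have hgne : (Nat.card G : ℂ) ≠ 0 := Nat.cast_ne_zero.2 Nat.card_pos.ne'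
    have h3 : ∀ χ, (m χ : ℂ) * (((Nat.card G : ℂ) / (Nat.card (Ct i) : ℂ)) ^ 2 *
        ((z₀ χ : ℂ) ^ 2 / (dd χ : ℂ))) = ((Nat.card G : ℂ) / (Nat.card (Ct i) : ℂ)) ^ 2 *
          ((m χ : ℂ) * ((z₀ χ : ℂ) ^ 2 / (dd χ : ℂ))) := fun χ => by ring
    rw [Finset.sum_congr rfl (fun χ _ => h3 χ), ← Finset.mul_sum] at e1
    have h4 : ∀ χ, (m χ : ℂ) * ((z χ : ℂ) ^ 2 / (dd χ : ℂ)) =
        (m χ : ℂ) * ((z₀ χ : ℂ) ^ 2 / (dd χ : ℂ)) := fun χ => by
      by_cases hχ : χ ∈ B
      · simp only [z, if_pos hχ]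
      · simp [hm0 χ hχ]
    have h2 : (Nat.card G : ℂ) * ∑ χ, (m χ : ℂ) * ((z χ : ℂ) ^ 2 / (dd χ : ℂ)) =
        48 * r * K := by
      rw [Finset.sum_congr rfl fun χ _ => h4 χ]
      field_simp at e1
      rw [card_C φ hφ] at e1
      simp only [K]
      push_cast at e1 ⊢
      simp only [← mul_div_assoc]
      linear_combination e1
    apply Rat.cast_injective (α := ℂ)
    push_cast
    exact h2
  have LA : ((Nat.card G : ℤ) : ℚ) * ∑ χ, (mA χ : ℚ) * ((z χ : ℚ) ^ 2 / ((dd χ : ℤ) : ℚ)) =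
      9216 * K := by
    rw [main svA cA hmA oA0 192 (by simp [Fin.sum_univ_eight, clsSize, vA, invTbl]; norm_num)]
    norm_num
  have LD : ((Nat.card G : ℤ) : ℚ) * ∑ χ, (mD χ : ℚ) * ((z χ : ℚ) ^ 2 / ((dd χ : ℤ) : ℚ)) =
      0 := by
    rw [main svD cD hmD oD0 0 (by simp [Fin.sum_univ_eight, clsSize, vD, invTbl]; norm_num)]
    norm_num
  have LE : ((Nat.card G : ℤ) : ℚ) * ∑ χ, (mE χ : ℚ) * ((z χ : ℚ) ^ 2 / ((dd χ : ℤ) : ℚ)) =
      4608 * K := by
    rw [main svE cE hmE oE0 96 (by simp [Fin.sum_univ_eight, clsSize, vE, invTbl]; norm_num)]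
    norm_num
  obtain ⟨a, e, A, C, ⟨hsa, hza, hda⟩, ⟨hse, hze, hde⟩, hA0, hA1, -, -, hg, hCeq⟩ :=
    order_system CfsgLib.BrauerPerm.conjIrr hσσ z (fun χ => (dd χ : ℤ)) mA mD mE
    (principalIrr G) (fun χ => by have := hd0 χ; omega) hzσ hAσ hEσ
    (by simp only [sq]; exact_mod_cast iAA.symm) (by simp only [sq]; exact_mod_cast iDD.symm)
    (by simp only [sq]; exact_mod_cast iEE.symm) (by exact_mod_cast iAD.symm)
    (by exact_mod_cast iAE.symm) (by exact_mod_cast iED.symm) (by exact_mod_cast iDD'.symm)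
    (by exact_mod_cast oA) (by exact_mod_cast oD) (by exact_mod_cast oE) hPi hP1 hσP
    (deg cA hmA (ind_one φ hφ hodd hi svA)) (deg cD hmD (ind_one φ hφ hodd hi svD))
    (deg cE hmE (ind_one φ hφ hodd hi svE))
    (val cA hmA oA0 ((ind_t φ hφ hodd hi svA).trans (by simp [vA])))
    (val cD hmD oD0 ((ind_t φ hφ hodd hi svD).trans (by simp [vD])))
    (val cE hmE oE0 ((ind_t φ hφ hodd hi svE).trans (by simp [vE])))
    hcol (Nat.card G : ℤ) (by exact_mod_cast Nat.card_pos) K LA LD LE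
  -- a character with a small negative eigenspace
  obtain ⟨χ, hχB, hχP, hsmall⟩ : ∃ χ, χ ∈ B ∧ χ ≠ principalIrr G ∧ (dd χ : ℤ) - z₀ χ ≤ 11 := by
    have hB : ∀ χ, z χ ≠ 0 → χ ∈ B ∧ z χ = z₀ χ := fun χ h => by
      by_cases hχ : χ ∈ B
      · exact ⟨hχ, if_pos hχ⟩
      · exact absurd (if_neg hχ) h
    have pick : ∀ (χ : IrrCharacter G) (s R r : ℤ), s ^ 2 = 1 → s * z χ = r → s * (dd χ : ℤ) = R →
        2 ≤ r → r ≤ 4 → (-(11 - r) ≤ R ∧ R ≤ 11 + r) →
        ∃ χ, χ ∈ B ∧ χ ≠ principalIrr G ∧ (dd χ : ℤ) - z₀ χ ≤ 11 := by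
      intro χ s R r hs hr hR r2 r4 hRb
      have := hd0 χ
      obtain ⟨hχB, hzz⟩ := hB χ (fun h => by rw [h, mul_zero] at hr; omega)
      refine ⟨χ, hχB, fun h => ?_, ?_⟩
      · subst h
        rw [hPi, mul_one] at hr
        rcases sq_eq_one_iff.1 hs with rfl | rfl <;> omega
      · rw [← hzz]
        rcases sq_eq_one_iff.1 hs with rfl | rfl <;> omega
    rcases small_or_dvd hA0 hA1 hg hCeq with h | h | h
    · exact pick a _ A 4 hsa hza hda (by norm_num) le_rfl ⟨by omega, by omega⟩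
    · exact pick e _ C 3 hse hze hde (by norm_num) (by norm_num) ⟨by omega, by omega⟩
    · exact absurd (by exact_mod_cast h) (not_thirtyTwo_dvd φ hφ hodd hi)
  have hO2 : ¬ 2 ∣ Nat.card φ.ker := by
    rw [← even_iff_two_dvd, Nat.not_even_iff_odd]; exact hodd
  have htriv := trivial_on_ker φ hφ hodd hi hxC hx hfix (isCharacter_of_irr χ.2)
    (d := (dd χ : ℤ)) (z := z₀ χ) (by rw [hd, Int.cast_natCast]) (hz₀ χ) hsmall
    fun o ho => principal_apply_mul hM (u := i) ⟨1, by rw [hi, pow_one]⟩ (N := φ.ker) hO2 ho hχB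
  rw [Subgroup.eq_bot_iff_forall]
  intro o ho
  by_contra hne
  exact hχP (CfsgLib.InvChar.EightColumns.eq_principal_of_apply_eq χ
    (fun h => hne (Subtype.ext h)) (htriv o ho))

end CfsgLib.SelfCentralSix.GLKill
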