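import Cfsg.Agent.Lib.SelfCentralSix.Dec
import Cfsg.Agent.Lib.SelfCentralSix.GLKill
import Cfsg.Agent.Lib.InvChar.OctahedralRecog
import Cfsg.Agent.Lib.InvChar.GLTwoThree
import Cfsg.Agent.Lib.ThreeOrders.Basic
import Cfsg.Agent.S2916

/-!
# The octahedral case
-/

set_option autoImplicit false
set_option linter.style.haveILetI false

namespace CfsgLib.SelfCentralSix

open Subgroup

universe u

variable {G : Type u} [Group G]

theorem pResidual_two_eq_top [Finite G] [IsSimpleGroup G] {x : G} (hx : orderOf x = 3) :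
    Cfsg.pResidual 2 G = ⊤ := by
  have hn : (Cfsg.pResidual 2 G).Normal := by
    refine ⟨fun a ha g => ?_⟩
    have hle : (Cfsg.pResidual 2 G).map (MulAut.conj g).toMonoidHom ≤ Cfsg.pResidual 2 G := by
      rw [Cfsg.pResidual, MonoidHom.map_closure]
      refine closure_mono ?_
      rintro - ⟨b, hb, rfl⟩
      show Nat.Coprime (orderOf (MulAut.conj g b)) 2
      rw [MulEquiv.orderOf_eq]
      exact hb
    exact hle ⟨a, ha, rfl⟩
  refine hn.eq_bot_or_eq_top.resolve_left fun e => ?_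
  have hmem : x ∈ Cfsg.pResidual 2 G := subset_closure (show Nat.Coprime (orderOf x) 2 by rw [hx]; norm_num)
  rw [e, mem_bot] at hmem
  rw [hmem, orderOf_one] at hx
  omega

namespace Ctx

variable [Finite G] (D : Ctx G)
include D

set_option maxHeartbeats 1000000 in
theorem oct_case {T O : Subgroup G} (h : Dec D T O) (hT : Nat.card T ≠ 2)
    (hu : ∀ a ∈ T, a * a = 1 → a = 1 ∨ a = D.i)
    (hc : Nat.card D.C = 6 * (Nat.card T * Nat.card O)) :
    (∃ (F : Type) (_ : Field F) (_ : Fintype F), Fintype.card F = 3 ∧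
      Nonempty (G ≃* Matrix.ProjectiveSpecialLinearGroup (Fin 3) F)) ∨ Cfsg.Spor.IsoM11 G := by
  classical
  haveI := D.simple
  haveI : Fact (Nat.Prime 2) := ⟨Nat.prime_two⟩
  haveI : Fact (Nat.Prime 3) := ⟨Nat.prime_three⟩
  set Oc := O.subgroupOf D.C with hOcdef
  haveI hOn : Oc.Normal := ⟨fun o ho g => mem_subgroupOf.2 (h.O_conj _ g.2 _ (mem_subgroupOf.1 ho))⟩
  set q := QuotientGroup.mk' Oc with hq
  have hqs : Function.Surjective q := QuotientGroup.mk'_surjective Oc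
  have hq1 : ∀ c : D.C, q c = 1 → (c : G) ∈ O := fun c hc' =>
    mem_subgroupOf.1 ((QuotientGroup.eq_one_iff c).1 hc')
  have hcop : ∀ a : G, a ∈ O → (∃ n, a ^ 2 ^ n = 1) → a = 1 := by
    rintro a ha ⟨n, hn⟩
    rw [← orderOf_eq_one_iff]
    refine Nat.eq_one_of_dvd_coprimes (Nat.Coprime.pow_left n (coprime_six.1 (h.coprime a ha)).1.symm)
      (orderOf_dvd_of_pow_eq_one hn) dvd_rfl
  have hTO : ∀ a : G, a ∈ T → a ∈ O → a = 1 := fun a hT' hO' => hcop a hO' (by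
    obtain ⟨n, hn⟩ := h.two ⟨a, hT'⟩
    exact ⟨n, congrArg Subtype.val hn⟩)
  set Tb := (T.subgroupOf D.C).map q with hTb
  haveI hTsn : (T.subgroupOf D.C).Normal :=
    ⟨fun s hs g => mem_subgroupOf.2 (h.T_conj _ g.2 _ (mem_subgroupOf.1 hs))⟩
  haveI hTbn : Tb.Normal := hTsn.map q hqs
  have hTb2 : IsPGroup 2 Tb := (h.two.of_equiv (subgroupOfEquivOfLe h.T_le).symm).map q
  have hinj : Set.InjOn q (T.subgroupOf D.C : Set D.C) := fun a ha b hb e => by
    have h1 : (a : G)⁻¹ * b ∈ O := hq1 (a⁻¹ * b) (by rw [map_mul, map_inv, e, inv_mul_cancel])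
    exact Subtype.ext (inv_mul_eq_one.1 (hTO _ (mul_mem (inv_mem (mem_subgroupOf.1 ha)) (mem_subgroupOf.1 hb)) h1))
  have hTbc : Nat.card Tb = Nat.card T := by
    rw [← Nat.card_congr (subgroupOfEquivOfLe h.T_le).toEquiv]
    exact (Nat.card_congr (Equiv.Set.imageOfInjOn q _ hinj)).symm
  have hKc : Nat.card (D.C ⧸ Oc) = 6 * Nat.card T := by
    have h1 := Oc.card_mul_index
    rw [Nat.card_congr (subgroupOfEquivOfLe h.O_le).toEquiv, hc,
      show 6 * (Nat.card T * Nat.card O) = Nat.card O * (6 * Nat.card T) by ring] at h1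
    exact mul_left_cancel₀ Nat.card_pos.ne' h1
  obtain ⟨k, hk⟩ := IsPGroup.iff_card.1 h.two
  have hKk : Nat.card (D.C ⧸ Oc) = 2 ^ (k + 1) * 3 := by rw [hKc, hk, pow_succ]; ring
  haveI : Group.IsSolvable (D.C ⧸ Oc) :=
    CfsgLib.ThreeOrders.isSolvable_of_two_primes Nat.prime_two Nat.prime_three fun s hs hd => by
      rw [hKk] at hd
      rcases hs.dvd_mul.1 hd with e | e
      · exact Or.inl ((Nat.prime_dvd_prime_iff_eq hs Nat.prime_two).1 (hs.dvd_of_dvd_pow e))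
      · exact Or.inr ((Nat.prime_dvd_prime_iff_eq hs Nat.prime_three).1 e)
  have hxq : q D.xC ≠ 1 := fun e => by
    have h1 := (coprime_six.1 (h.coprime _ (hq1 _ e))).2
    rw [show ((D.xC : D.C) : G) = D.x from rfl, D.ox] at h1
    norm_num at h1
  -- the odd core
  have hO : Cfsg.oddCore (D.C ⧸ Oc) = ⊥ := by
    set N := Cfsg.oddCore (D.C ⧸ Oc) with hN
    haveI hNn : N.Normal := Cfsg.pPrimeCore_normal 2 _
    by_contra hne
    have hN2 : ¬ 2 ∣ Nat.card N := CfsgLib.PCore.not_dvd_card_pPrimeCore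
    have hdvd : Nat.card N ∣ 2 ^ (k + 1) * 3 := hKk ▸ card_subgroup_dvd_card N
    have hN3' : Nat.card N ∣ 3 :=
      (Nat.Coprime.pow_right _ (Nat.prime_two.coprime_iff_not_dvd.2 hN2).symm).dvd_of_dvd_mul_left hdvd
    have hN3 : Nat.card N = 3 := ((Nat.dvd_prime Nat.prime_three).1 hN3').resolve_left fun e =>
      hne (Subgroup.eq_bot_of_card_eq N e)
    -- `N` is the only subgroup of order three
    have hidx : N.index = 2 ^ (k + 1) := by
      have h1 := N.card_mul_index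
      rw [hN3, hKk, mul_comm (2 ^ (k + 1)) 3] at h1
      exact mul_left_cancel₀ (by norm_num) h1
    have hxN : q D.xC ∈ N := by
      have ho : orderOf (QuotientGroup.mk' N (q D.xC)) ∣ 3 :=
        (orderOf_map_dvd _ _).trans ((orderOf_map_dvd q _).trans (by
          rw [← orderOf_coe]; exact dvd_of_eq D.ox))
      have ho2 : orderOf (QuotientGroup.mk' N (q D.xC)) ∣ 2 ^ (k + 1) := by
        rw [← hidx]; exact _root_.orderOf_dvd_natCard _
      have := Nat.eq_one_of_dvd_coprimes (Nat.Coprime.pow_right _ (by norm_num : Nat.Coprime 3 2)) ho ho2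
      exact (QuotientGroup.eq_one_iff _).1 (orderOf_eq_one_iff.1 this)
    have hdisj : Tb ⊓ N = ⊥ := by
      refine Subgroup.inf_eq_bot_of_coprime ?_
      rw [hTbc, hk, hN3]
      exact Nat.Coprime.pow_left _ (by norm_num)
    apply hT
    have hle : Nat.card T ≤ 2 := D.card_le_two h.two D.ox fun a ha => by
      have haC := h.T_le ha
      have ha' : q ⟨a, haC⟩ ∈ Tb := ⟨_, mem_subgroupOf.2 ha, rfl⟩
      have h1 := Subgroup.commute_of_normal_of_disjoint Tb N hTbn hNn (disjoint_iff.2 hdisj) _ _ ha' hxN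
      have h2 : a⁻¹ * D.x⁻¹ * a * D.x ∈ O := by
        refine hq1 (⟨a, haC⟩⁻¹ * D.xC⁻¹ * ⟨a, haC⟩ * D.xC) ?_
        rw [map_mul, map_mul, map_mul, map_inv, map_inv, mul_assoc _ (q ⟨a, haC⟩), h1.eq]
        group
      have h3 : a⁻¹ * D.x⁻¹ * a * D.x ∈ T := by
        rw [show a⁻¹ * D.x⁻¹ * a * D.x = a⁻¹ * (D.x⁻¹ * a * D.x⁻¹⁻¹) by group]
        exact mul_mem (inv_mem ha) (h.T_conj _ (inv_mem D.x_mem) a ha)
      have h4 := hTO _ h3 h2
      calc a * D.x = D.x * a * (a⁻¹ * D.x⁻¹ * a * D.x) := by group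
        _ = D.x * a := by rw [h4, mul_one]
    have h2 : 2 ∣ Nat.card T := D.oi ▸ Subgroup.orderOf_dvd_natCard T h.i_mem
    exact Nat.le_antisymm hle (Nat.le_of_dvd Nat.card_pos h2)
  obtain ⟨-, b, hbC, hb, hb2⟩ := (h.card.resolve_left fun e => by
    have : 0 < Nat.card T * Nat.card O := Nat.mul_pos Nat.card_pos Nat.card_pos
    omega)
  have hns : ∀ P : Sylow 2 (D.C ⧸ Oc), ¬ (P : Subgroup (D.C ⧸ Oc)).Normal := by
    intro P hP
    have hPc : (P : Subgroup (D.C ⧸ Oc)).index ∣ 3 := by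
      have h1 : (P : Subgroup (D.C ⧸ Oc)).index ∣ 2 ^ (k + 1) * 3 := hKk ▸ Subgroup.index_dvd_card _
      exact (Nat.Coprime.pow_right _ (Nat.prime_two.coprime_iff_not_dvd.2 P.not_dvd_index).symm).dvd_of_dvd_mul_left h1
    have hb4 : b ^ 2 ^ 2 = 1 := by
      rw [show (2 : ℕ) ^ 2 = 2 * 2 from rfl, pow_mul, sq b]
      rcases hb2 with e | e <;> rw [e]
      · exact one_pow 2
      · rw [sq]; exact D.i_sq
    set bC : D.C := ⟨b, hbC⟩ with hbCdef
    have hbq : q bC ∈ (P : Subgroup (D.C ⧸ Oc)) := by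
      have ho : orderOf (QuotientGroup.mk' (P : Subgroup (D.C ⧸ Oc)) (q bC)) ∣ 2 ^ 2 :=
        (orderOf_map_dvd _ _).trans ((orderOf_map_dvd q _).trans (by
          rw [← orderOf_coe]; exact orderOf_dvd_of_pow_eq_one hb4))
      have ho2 : orderOf (QuotientGroup.mk' (P : Subgroup (D.C ⧸ Oc)) (q bC)) ∣ 3 :=
        (_root_.orderOf_dvd_natCard _).trans hPc
      have := Nat.eq_one_of_dvd_coprimes (Nat.Coprime.pow_left 2 (by norm_num : Nat.Coprime 2 3)) ho ho2
      exact (QuotientGroup.eq_one_iff _).1 (orderOf_eq_one_iff.1 this)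
    have h2 : q (D.xC * (bC * D.xC⁻¹ * bC⁻¹)) ∈ (P : Subgroup (D.C ⧸ Oc)) := by
      have := mul_mem (hP.conj_mem _ hbq (q D.xC)) (inv_mem hbq)
      rw [show D.xC * (bC * D.xC⁻¹ * bC⁻¹) = D.xC * bC * D.xC⁻¹ * bC⁻¹ by group, map_mul, map_mul, map_mul,
        map_inv, map_inv]
      exact this
    have h3 : D.xC * (bC * D.xC⁻¹ * bC⁻¹) = D.xC * D.xC := Subtype.ext (by
      show D.x * (b * D.x⁻¹ * b⁻¹) = D.x * D.x
      rw [show b * D.x⁻¹ * b⁻¹ = (b * D.x * b⁻¹)⁻¹ by group, hb, inv_inv])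
    rw [h3] at h2
    obtain ⟨m, hm⟩ := P.2 ⟨_, h2⟩
    have hm' : q (D.xC * D.xC) ^ 2 ^ m = 1 := congrArg Subtype.val hm
    have hx3 : q (D.xC * D.xC) ^ 3 = 1 := by
      rw [← map_pow, show (D.xC * D.xC) ^ 3 = 1 from Subtype.ext (by
        show (D.x * D.x) ^ 3 = 1
        rw [← sq, ← pow_mul, mul_comm, pow_mul, D.x_pow, one_pow]), map_one]
    have h1 := Nat.eq_one_of_dvd_coprimes (Nat.Coprime.pow_right m (by norm_num : Nat.Coprime 3 2))
      (orderOf_dvd_of_pow_eq_one hx3) (orderOf_dvd_of_pow_eq_one hm')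
    refine hxq ?_
    have h5 : q D.xC ^ 3 = 1 := by
      rw [← map_pow, show D.xC ^ 3 = 1 from Subtype.ext D.x_pow, map_one]
    calc q D.xC = q D.xC ^ 3 * (q (D.xC * D.xC))⁻¹ := by rw [map_mul]; group
      _ = 1 := by rw [h5, orderOf_eq_one_iff.1 h1]; group
  have hTle : Tb ≤ Cfsg.pCore 2 (D.C ⧸ Oc) := CfsgLib.PCore.le_pCore hTbn hTb2
  have hQ : Cfsg.pCore 2 (D.C ⧸ Oc) = Tb := by
    obtain ⟨P⟩ : Nonempty (Sylow 2 (D.C ⧸ Oc)) := inferInstance
    have hQP := CfsgLib.PCore.pCore_le_sylow P (p := 2)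
    have hQ2 : IsPGroup 2 (Cfsg.pCore 2 (D.C ⧸ Oc)) := CfsgLib.PCore.pCore_isPGroup
    refine (Subgroup.eq_of_le_of_card_ge hTle ?_).symm
    by_contra hlt
    push Not at hlt
    obtain ⟨m, hm⟩ := IsPGroup.iff_card.1 hQ2
    rw [hTbc, hk, hm] at hlt
    have hkm := (Nat.pow_lt_pow_iff_right (by norm_num)).1 hlt
    apply hns P
    have hPle : Nat.card (P : Subgroup (D.C ⧸ Oc)) ≤ Nat.card (Cfsg.pCore 2 (D.C ⧸ Oc)) := by
      obtain ⟨n, hn⟩ := IsPGroup.iff_card.1 P.2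
      have h1 : 2 ^ n ∣ 2 ^ (k + 1) := by
        refine (Nat.Coprime.pow_left n (by norm_num : Nat.Coprime 2 3)).dvd_of_dvd_mul_right ?_
        rw [← hn, ← hKk]
        exact card_subgroup_dvd_card _
      rw [hn, hm]
      exact Nat.pow_le_pow_right (by norm_num)
        (le_trans ((Nat.pow_dvd_pow_iff_le_right (by norm_num)).1 h1) hkm)
    rw [← Subgroup.eq_of_le_of_card_ge hQP hPle]
    exact Cfsg.pCore_normal 2 _
  have hiu : ∀ a, a ∈ Cfsg.pCore 2 (D.C ⧸ Oc) → orderOf a = 2 → a = q D.iC := by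
    intro a ha ha2
    rw [hQ] at ha
    obtain ⟨s, hs, rfl⟩ := ha
    have hss : s * s = 1 := by
      refine hinj (mul_mem hs hs) (one_mem _) ?_
      rw [map_mul, map_one, ← sq, ← ha2, pow_orderOf_eq_one]
    rcases hu s (mem_subgroupOf.1 hs) (congrArg Subtype.val hss) with e | e
    · rw [show s = 1 from Subtype.ext e, map_one, orderOf_one] at ha2; omega
    · rw [show s = D.iC from Subtype.ext e]
  obtain ⟨-, hZ2, -, -, hocta⟩ := CfsgLib.InvChar.octahedral hO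
    (fun a b ha hb ha2 hb2 => (hiu a ha ha2).trans (hiu b hb hb2).symm) hns
  obtain ⟨S, hSC, -, -, -, -⟩ := D.exists_sylow_six h hbC hb hb2
  obtain ⟨f, hfS, hf2, hfi⟩ : ∃ f ∈ (S : Subgroup G), orderOf f = 2 ∧ f ≠ D.i := by
    by_contra hne
    push Not at hne
    exact D.false_of_unique S fun a ha b' hb' ha2 hb2' => (hne a ha ha2).trans (hne b' hb' hb2').symm
  have hfC : f ∈ D.C := hSC hfS
  have hfq : q ⟨f, hfC⟩ ≠ 1 := fun e => by
    have h1 := hcop f (hq1 _ e) ⟨1, by rw [pow_one, ← hf2, pow_orderOf_eq_one]⟩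
    rw [h1, orderOf_one] at hf2; omega
  have hiq : q D.iC ≠ 1 := fun e => D.i_ne (hTO _ h.i_mem (hq1 _ e))
  obtain ⟨e⟩ := hocta ⟨q ⟨f, hfC⟩, orderOf_eq_prime (by
      rw [← map_pow, show (⟨f, hfC⟩ : D.C) ^ 2 = 1 from Subtype.ext (by
        show f ^ 2 = 1; rw [← hf2]; exact pow_orderOf_eq_one f), map_one]) hfq, fun hz => by
    have hiz : q D.iC ∈ center (D.C ⧸ Oc) := mem_center_iff.2 fun a => by
      obtain ⟨c, rfl⟩ := hqs a
      rw [← map_mul, ← map_mul]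
      exact congrArg q (Subtype.ext (D.mem_C.1 c.2))
    obtain ⟨a, -, huniq⟩ := Nat.card_eq_two_iff' (1 : center (D.C ⧸ Oc)) |>.1 hZ2
    have h1 := (huniq ⟨_, hz⟩ fun e => hfq (congrArg Subtype.val e)).trans
      (huniq ⟨_, hiz⟩ fun e => hiq (congrArg Subtype.val e)).symm
    have h2 : q (⟨f, hfC⟩ * D.iC⁻¹) = 1 := by
      rw [map_mul, map_inv, show q ⟨f, hfC⟩ = q D.iC from congrArg Subtype.val h1, mul_inv_cancel]
    have h3 : f * D.i⁻¹ = 1 := hcop _ (hq1 _ h2) (by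
      obtain ⟨n, hn⟩ := S.2 ⟨_, mul_mem hfS (inv_mem (D.i_mem_sylow hSC))⟩
      exact ⟨n, congrArg Subtype.val hn⟩)
    exact hfi (mul_inv_eq_one.1 h3)⟩
  obtain ⟨g23⟩ := CfsgLib.InvChar.Q8Action.nonempty_equiv_GL23
  let E := e.symm.trans g23
  let φ : D.C →* GL (Fin 2) (ZMod 3) := E.toMonoidHom.comp q
  have hφ : Function.Surjective φ := E.surjective.comp hqs
  have hker : φ.ker = Oc := by
    ext c
    rw [MonoidHom.mem_ker, MonoidHom.comp_apply, MulEquiv.coe_toMonoidHom, map_eq_one_iff _ E.injective, hq,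
      QuotientGroup.mk'_apply, QuotientGroup.eq_one_iff]
  have hbot := GLKill.ker_eq_bot D.nonab D.one D.oi φ hφ
    (by rw [hker, Nat.card_congr (subgroupOfEquivOfLe h.O_le).toEquiv]; exact h.odd) D.x_mem D.ox
    (fun u hu' hux => by
      rw [hker] at hu'
      have h1 := Subgroup.orderOf_dvd_natCard (zpowers D.t) (D.cent_pair (D.mem_C.1 u.2) hux)
      rw [D.card_zpowers_t] at h1
      exact Subtype.ext (orderOf_eq_one_iff.1
        (Nat.eq_one_of_dvd_coprimes (h.coprime _ (mem_subgroupOf.1 hu')) dvd_rfl h1)))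
  exact Cfsg.Agent.S2916.result (pResidual_two_eq_top D.ox) D.i D.oi
    ⟨MulEquiv.ofBijective φ ⟨(MonoidHom.ker_eq_bot_iff φ).1 hbot, hφ⟩⟩

end Ctx

end CfsgLib.SelfCentralSix
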