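import Cfsg.Agent.Lib.GL23.Transfer

/-!
# Induction from a centraliser which maps onto `GL(2, 3)` with a kernel of odd order
-/

set_option autoImplicit false
set_option linter.style.haveILetI false
set_option linter.unusedSectionVars false

namespace CfsgLib.SelfCentralSix.GLKill

open Cfsg CfsgLib.Characters CfsgLib.GL23
open scoped ComplexConjugate

universe u

/-- The involutions are exactly the elements squaring to one other than one. -/
def IsInvol {X : Type*} [Monoid X] (a : X) : Prop := a * a = 1 ∧ a ≠ 1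

theorem isInvol_iff {X : Type*} [Monoid X] {a : X} : IsInvol a ↔ orderOf a = 2 := by
  constructor
  · exact fun h => orderOf_eq_prime (by rw [pow_two]; exact h.1) h.2
  · intro h
    refine ⟨by rw [← pow_two, ← h, pow_orderOf_eq_one], ?_⟩
    rintro rfl
    rw [orderOf_one] at h
    omega

theorem tpow_24 : ∀ x ∈ gl, tpow x 24 = (1, 0, 0, 1) := by decide +kernel

theorem inS_of_tpow : ∀ x ∈ gl, ∀ k : Fin 24, tpow x k.val = (2, 0, 0, 2) → inS x := by
  decide +kernel

theorem invol_pair : ∀ x ∈ gl, inS x → ∀ y ∈ invPairs x, cls y = 2 ∧ cls (tmul y x) = 2 := by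
  decide +kernel

/-- Two powers of one element which are involutions are equal. -/
theorem invol_pow_eq {X : Type*} [Monoid X] {y : X} {m n : ℕ} (hy : IsOfFinOrder y)
    (hm : IsInvol (y ^ m)) (hn : IsInvol (y ^ n)) : y ^ m = y ^ n := by
  have key : ∀ j : ℕ, IsInvol (y ^ j) → (2 * j) % orderOf y = 0 ∧ j % orderOf y ≠ 0 := by
    intro j hj
    refine ⟨Nat.mod_eq_zero_of_dvd (orderOf_dvd_of_pow_eq_one (by rw [two_mul, pow_add, hj.1])),
      fun h => hj.2 ?_⟩
    exact orderOf_dvd_iff_pow_eq_one.1 (Nat.dvd_of_mod_eq_zero h)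
  have hN := hy.orderOf_pos
  obtain ⟨h1, h2⟩ := key m hm
  obtain ⟨h3, h4⟩ := key n hn
  rw [← pow_mod_orderOf y m, ← pow_mod_orderOf y n]
  congr 1
  have half : ∀ r : ℕ, r % orderOf y ≠ 0 → (2 * r) % orderOf y = 0 →
      2 * (r % orderOf y) = orderOf y := by
    intro r hr hr'
    have hlt := Nat.mod_lt r hN
    have e : (2 * (r % orderOf y)) % orderOf y = 0 := by
      rw [Nat.mul_mod, Nat.mod_mod, ← Nat.mul_mod]; exact hr'
    obtain ⟨q, hq⟩ := Nat.dvd_of_mod_eq_zero e
    have q2 : q < 2 := by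
      by_contra h
      have : orderOf y * 2 ≤ orderOf y * q := Nat.mul_le_mul_left _ (by omega)
      omega
    have q0 : q ≠ 0 := by rintro rfl; omega
    have : q = 1 := by omega
    subst this
    omega
  have := half m h2 h1
  have := half n h4 h3
  omega

variable {G : Type u} [Group G] [Finite G] {t : G}

/-- The coordinates of the image of an element of the centralizer. -/
noncomputable def kc (φ : Ct t →* M) (h : Ct t) : T := coords (φ h)

/-- The inflated function with values `v`. -/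
noncomputable def tf (φ : Ct t →* M) (v : Fin 8 → ℂ) : Ct t → ℂ := fun h => v (cls (kc φ h))

section Basic

variable (φ : Ct t →* M) (hφ : Function.Surjective φ) (hodd : Odd (Nat.card φ.ker))
  (ht : orderOf t = 2)

theorem kc_mem (h : Ct t) : kc φ h ∈ gl := mem_gl _

theorem kc_mul (a b : Ct t) : kc φ (a * b) = tmul (kc φ a) (kc φ b) := by
  rw [kc, map_mul, coords_mul]; rfl

theorem kc_one : kc φ 1 = (1, 0, 0, 1) := by rw [kc, map_one, coords_one]

theorem kc_pow (a : Ct t) (n : ℕ) : kc φ (a ^ n) = tpow (kc φ a) n := by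
  rw [kc, map_pow, coords_pow]; rfl

include hφ in
theorem kc_surj {x : T} (hx : x ∈ gl) : ∃ h : Ct t, kc φ h = x := by
  obtain ⟨g, hg⟩ := exists_coords (Finset.mem_filter.1 hx).2
  obtain ⟨h, rfl⟩ := hφ g
  exact ⟨h, hg⟩

include hodd in
theorem eq_one_of_invol_ker {a : Ct t} (h : a * a = 1) (ha : φ a = 1) : a = 1 := by
  have h1 : orderOf a ∣ 2 := orderOf_dvd_of_pow_eq_one (by rw [pow_two, h])
  have h2 : orderOf a ∣ Nat.card φ.ker := by
    rw [← Subgroup.orderOf_mk a (MonoidHom.mem_ker.2 ha)]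
    exact orderOf_dvd_natCard _
  rcases (Nat.dvd_prime Nat.prime_two).1 h1 with h3 | h3
  · exact orderOf_eq_one_iff.1 h3
  · exact absurd (h3 ▸ h2) (by rw [← even_iff_two_dvd, Nat.not_even_iff_odd]; exact hodd)

include hodd in
theorem kc_invol {a : Ct t} (h : IsInvol a) :
    tmul (kc φ a) (kc φ a) = (1, 0, 0, 1) ∧ kc φ a ≠ (1, 0, 0, 1) := by
  refine ⟨by rw [← kc_mul, h.1, kc_one], fun h1 => h.2 ?_⟩
  rw [← kc_one φ] at h1
  exact eq_one_of_invol_ker φ hodd h.1 (by rw [coords_injective h1, map_one])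

include ht in
theorem tC_invol : IsInvol (tC t) :=
  ⟨Subtype.ext (sq_t ht), fun h => t_ne_one ht (congrArg Subtype.val h)⟩

theorem tC_comm (h : Ct t) : Commute (tC t) h := Subtype.ext (mem_Ct.1 h.2).symm

include hφ hodd ht in
theorem kc_tC : kc φ (tC t) = (2, 0, 0, 2) := by
  obtain ⟨h1, h2⟩ := kc_invol φ hodd (tC_invol ht)
  refine central_involution _ (kc_mem φ _) h1 h2 fun y hy => ?_
  obtain ⟨h, rfl⟩ := kc_surj φ hφ hy
  rw [← kc_mul, ← kc_mul, (tC_comm h).eq]

include hφ hodd ht in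
theorem exists_pow_eq {x : Ct t} (hx : inS (kc φ x)) : ∃ m : ℕ, x ^ m = tC t := by
  obtain ⟨k, hk⟩ := inS_pow _ (kc_mem φ x) hx
  refine ⟨k.val * Nat.card φ.ker, ?_⟩
  have hy : x ^ k.val * tC t ∈ φ.ker := by
    refine MonoidHom.mem_ker.2 (coords_injective ?_)
    show kc φ (x ^ k.val * tC t) = coords 1
    rw [kc_mul, kc_pow, hk, kc_tC φ hφ hodd ht, coords_one]
    decide +kernel
  have h1 : (x ^ k.val * tC t) ^ Nat.card φ.ker = 1 :=
    congrArg Subtype.val (pow_card_eq_one' (G := φ.ker) (x := ⟨_, hy⟩))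
  obtain ⟨j, hj⟩ := hodd
  have h2 : tC t ^ Nat.card φ.ker = tC t := by
    rw [hj, pow_succ, pow_mul, pow_two, (tC_invol ht).1, one_pow, one_mul]
  rw [((tC_comm x).symm.pow_left _).mul_pow, h2, ← pow_mul] at h1
  rw [eq_inv_of_mul_eq_one_left h1, inv_eq_of_mul_eq_one_right (tC_invol ht).1]

include hφ hodd ht in
theorem inS_of_pow {x : Ct t} {m : ℕ} (hm : x ^ m = tC t) : inS (kc φ x) := by
  refine inS_of_tpow _ (kc_mem φ x) ⟨m % 24, Nat.mod_lt _ (by norm_num)⟩ ?_
  have h : (x ^ (m % 24) : Ct t) = x ^ (m % 24) := rfl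
  have h24 : φ x ^ 24 = 1 := coords_injective (by
    rw [coords_pow, coords_one]; exact tpow_24 _ (kc_mem φ x))
  show tpow (coords (φ x)) (m % 24) = _
  rw [← coords_pow, ← kc_tC φ hφ hodd ht, ← hm, kc, map_pow]
  congr 1
  conv_rhs => rw [← Nat.mod_add_div m 24, pow_add, pow_mul, h24, one_pow, mul_one]

include hφ hodd ht in
/-- The support is a trivial intersection set. -/
theorem mem_of_conj' {x y : Ct t} (hx : inS (kc φ x)) (hy : inS (kc φ y)) {g : G}
    (h : g * x * g⁻¹ = y) : g ∈ Ct t := by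
  obtain ⟨m, hm⟩ := exists_pow_eq φ hφ hodd ht hx
  obtain ⟨n, hn⟩ := exists_pow_eq φ hφ hodd ht hy
  have hm' : (x : G) ^ m = t := by rw [← Subgroup.coe_pow, hm]; rfl
  have hn' : (y : G) ^ n = t := by rw [← Subgroup.coe_pow, hn]; rfl
  have h1 : (y : G) ^ m = g * t * g⁻¹ := by rw [← h, conj_pow, hm']
  have h2 : IsInvol ((y : G) ^ m) := by
    rw [h1]
    refine ⟨?_, fun h3 => t_ne_one ht (by simpa using h3)⟩
    rw [show g * t * g⁻¹ * (g * t * g⁻¹) = g * (t * t) * g⁻¹ by group, sq_t ht]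
    group
  have h3 := invol_pow_eq (isOfFinOrder_of_finite (y : G)) h2
    (n := n) (by rw [hn']; exact ⟨sq_t ht, t_ne_one ht⟩)
  rw [h1, hn'] at h3
  exact mem_Ct.2 (mul_inv_eq_iff_eq_mul.1 h3)

theorem tf_eq_zero {v : Fin 8 → ℂ}
    (hv : ∀ i, i ∉ ({1, 4, 5, 6, 7} : Finset (Fin 8)) → v i = 0) {h : Ct t}
    (hh : ¬ inS (kc φ h)) : tf φ v h = 0 := hv _ hh

theorem tf_conj (v : Fin 8 → ℂ) (a b : Ct t) : tf φ v (b * a * b⁻¹) = tf φ v a := by
  simp only [tf, kc, map_mul, map_inv]
  exact isClassFunction_cls v _ _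

theorem tf_mul_ker (v : Fin 8 → ℂ) (a : Ct t) {o : Ct t} (ho : φ o = 1) :
    tf φ v (a * o) = tf φ v a := by
  simp only [tf, kc, map_mul, ho, mul_one]

theorem isGeneralized_tf {v : Fin 8 → ℂ} (hv : IsGeneralizedCharacter M (cf v)) :
    IsGeneralizedCharacter (Ct t) (tf φ v) := by
  obtain ⟨χ, ψ, hχ, hψ, he⟩ := hv
  exact ⟨fun h => χ (φ h), fun h => ψ (φ h), CfsgLib.CharGalois.isCharacter_comp hχ φ,
    CfsgLib.CharGalois.isCharacter_comp hψ φ, funext fun h => congrFun he (φ h)⟩

include hφ in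
theorem card_C : Nat.card (Ct t) = Nat.card φ.ker * 48 := by
  rw [← Subgroup.card_mul_index φ.ker, Subgroup.index_ker,
    MonoidHom.range_eq_top.2 hφ, Subgroup.card_top, card_M]

include hφ in
theorem sum_hom [Fintype (Ct t)] [Fintype M] (f : M → ℂ) :
    ∑ h : Ct t, f (φ h) = (Nat.card φ.ker : ℂ) * ∑ g : M, f g := by
  classical
  rw [← Finset.sum_fiberwise Finset.univ φ fun h => f (φ h), Finset.mul_sum]
  refine Finset.sum_congr rfl fun g _ => ?_
  rw [Finset.sum_congr rfl (g := fun _ => f g) fun h hh => by rw [(Finset.mem_filter.1 hh).2],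
    Finset.sum_const, nsmul_eq_mul]
  congr 1
  rw [MonoidHom.card_fiber_eq_of_mem_range φ (hφ g) ⟨1, map_one φ⟩,
    ← Fintype.card_subtype, ← Nat.card_eq_fintype_card]
  rfl

end Basic

section Induced

variable [Fintype G] (φ : Ct t →* M) (hφ : Function.Surjective φ)
  (hodd : Odd (Nat.card φ.ker)) (ht : orderOf t = 2) {v : Fin 8 → ℂ}
  (hv : ∀ i, i ∉ ({1, 4, 5, 6, 7} : Finset (Fin 8)) → v i = 0)

include hφ hodd ht hv in
/-- Restriction of the induced function to the support. -/
theorem ind_apply_supp {x : Ct t} (hx : inS (kc φ x)) :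
    indFun (Ct t) (tf φ v) (x : G) = tf φ v x := by
  classical
  rw [CfsgLib.Induction.indFun_apply]
  have key : ∀ g : G, extendByZero (Ct t) (tf φ v) (g⁻¹ * x * g) =
      if g ∈ Ct t then tf φ v x else 0 := by
    intro g
    by_cases hg : g ∈ Ct t
    · have hm : g⁻¹ * x * g ∈ Ct t := mul_mem (mul_mem (inv_mem hg) x.2) hg
      rw [if_pos hg, CfsgLib.Induction.extendByZero_mem _ _ hm]
      rw [show (⟨g⁻¹ * x * g, hm⟩ : Ct t) = (⟨g, hg⟩ : Ct t)⁻¹ * x * (⟨g, hg⟩ : Ct t)⁻¹⁻¹ from
        Subtype.ext (by simp)]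
      exact tf_conj φ v x _
    · rw [if_neg hg]
      by_cases hm : g⁻¹ * x * g ∈ Ct t
      · rw [CfsgLib.Induction.extendByZero_mem _ _ hm]
        refine tf_eq_zero φ hv fun hy => hg ?_
        exact mem_of_conj' φ hφ hodd ht hy hx (show g * (g⁻¹ * x * g) * g⁻¹ = x by group)
      · rw [CfsgLib.Induction.extendByZero_notMem _ _ hm]
  rw [Finset.sum_congr rfl fun g _ => key g, ← Finset.sum_filter, Finset.sum_const, nsmul_eq_mul,
    ← Fintype.card_subtype, ← Nat.card_eq_fintype_card, ← mul_assoc]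
  rw [inv_mul_cancel₀ (Nat.cast_ne_zero.2 Nat.card_pos.ne'), one_mul]

include hφ hodd ht hv in
theorem ind_one : indFun (Ct t) (tf φ v) 1 = 0 := by
  rw [CfsgLib.Induction.indFun_apply, Finset.sum_eq_zero, mul_zero]
  intro g _
  rw [show g⁻¹ * 1 * g = ((1 : Ct t) : G) by simp, CfsgLib.Induction.extendByZero_coe]
  refine tf_eq_zero φ hv ?_
  rw [kc_one]
  decide +kernel

include hφ hodd ht hv in
theorem ind_t : indFun (Ct t) (tf φ v) t = v 1 := by
  have h := ind_apply_supp φ hφ hodd ht hv (x := tC t)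
    (by rw [kc_tC φ hφ hodd ht]; decide +kernel)
  rw [show ((tC t : Ct t) : G) = t from rfl] at h
  rw [h, tf, kc_tC φ hφ hodd ht, show cls (2, 0, 0, 2) = 1 by decide +kernel]

theorem isClassFunction_ind' {v : Fin 8 → ℂ} (hg : IsGeneralizedCharacter M (cf v)) :
    IsClassFunction G (indFun (Ct t) (tf φ v)) := by
  classical
  exact isClassFunction_of_isGeneralizedCharacter
    (CfsgLib.CharArtin.isGeneralizedCharacter_indFun _ (isGeneralized_tf φ hg))

include hφ in
theorem avg_tf [Fintype (Ct t)] (v : Fin 8 → ℂ) :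
    (Nat.card (Ct t) : ℂ)⁻¹ * ∑ h : Ct t, tf φ v h =
      (48 : ℂ)⁻¹ * ∑ i, (clsSize i : ℂ) * v i := by
  classical
  letI : Fintype M := Fintype.ofFinite M
  have h0 : (Nat.card φ.ker : ℂ) ≠ 0 := Nat.cast_ne_zero.2 Nat.card_pos.ne'
  rw [card_C φ hφ, ← sum_cls v, show ∑ h : Ct t, tf φ v h = ∑ h : Ct t,
    (fun g : M => v (cls (coords g))) (φ h) from rfl,
    sum_hom φ hφ (fun g : M => v (cls (coords g)))]
  push_cast
  field_simp

include hφ hodd ht hv in
/-- Induction preserves inner products on the support. -/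
theorem inner_ind' {w : Fin 8 → ℂ}
    (hw : ∀ i, i ∉ ({1, 4, 5, 6, 7} : Finset (Fin 8)) → w i = 0)
    (hg : IsGeneralizedCharacter M (cf w)) :
    classInner (indFun (Ct t) (tf φ v)) (indFun (Ct t) (tf φ w)) =
      (48 : ℂ)⁻¹ * ∑ i, (clsSize i : ℂ) * (v i * conj (w i)) := by
  classical
  letI : Fintype (Ct t) := Fintype.ofFinite _
  rw [CfsgLib.Induction.classInner_indFun _ _ (isClassFunction_ind' φ hg), classInner,
    ← avg_tf φ hφ fun i => v i * conj (w i)]
  congr 1
  refine Finset.sum_congr rfl fun h _ => ?_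
  by_cases hh : inS (kc φ h)
  · rw [ind_apply_supp φ hφ hodd ht hw hh]; rfl
  · rw [tf_eq_zero φ hv hh, zero_mul]
    simp only [tf] at *
    rw [hv _ hh, zero_mul]

include hφ in
theorem inner_ind_one' (v : Fin 8 → ℂ) :
    classInner (indFun (Ct t) (tf φ v)) (fun _ => 1) =
      (48 : ℂ)⁻¹ * ∑ i, (clsSize i : ℂ) * v i := by
  classical
  letI : Fintype (Ct t) := Fintype.ofFinite _
  rw [CfsgLib.Induction.classInner_indFun _ _ (fun _ _ => rfl), classInner,
    ← avg_tf φ hφ v]
  simp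

end Induced

section Count

variable (φ : Ct t →* M)

/-- The number of involutions above given coordinates. -/
noncomputable def invCount (y : T) : ℕ := Nat.card {a : Ct t // IsInvol a ∧ kc φ a = y}

variable (hφ : Function.Surjective φ) (hodd : Odd (Nat.card φ.ker)) (ht : orderOf t = 2)

include hφ in
theorem invCount_cls {x y : T} (hx : x ∈ gl) (hy : y ∈ gl) (cx : cls x = 2) (cy : cls y = 2) :
    invCount φ x = invCount φ y := by
  obtain ⟨z, hz, rfl⟩ := cls_two_conj x hx cx y hy cy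
  obtain ⟨c, rfl⟩ := kc_surj φ hφ hz
  obtain ⟨g, rfl⟩ := exists_coords (Finset.mem_filter.1 hx).2
  refine Nat.card_congr ((MulAut.conj c⁻¹).toEquiv.subtypeEquiv fun a => ?_)
  show IsInvol a ∧ coords (φ a) = coords g ↔ IsInvol ((MulAut.conj c⁻¹) a) ∧
    coords (φ ((MulAut.conj c⁻¹) a)) = tconj (coords (φ c)) (coords g)
  rw [← coords_conj, coords_injective.eq_iff, coords_injective.eq_iff, MulAut.conj_apply, inv_inv,
    map_mul, map_mul, map_inv, mul_left_inj, mul_right_inj]
  refine and_congr_left fun _ => ?_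
  rw [isInvol_iff, isInvol_iff]
  have := orderOf_injective (MulAut.conj c⁻¹).toMonoidHom (MulAut.conj c⁻¹).injective a
  simp only [MulEquiv.coe_toMonoidHom, MulAut.conj_apply, inv_inv] at this
  rw [this]

include hodd in
theorem invCount_eq_zero {y : T} (h : ¬ (tmul y y = (1, 0, 0, 1) ∧ y ≠ (1, 0, 0, 1))) :
    invCount φ y = 0 :=
  haveI : IsEmpty {a : Ct t // IsInvol a ∧ kc φ a = y} :=
    ⟨fun a => h (a.2.2 ▸ kc_invol φ hodd a.2.1)⟩
  Nat.card_of_isEmpty

open scoped Classical in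
theorem sum_invol [Fintype (Ct t)] [Fintype M] (F : M → ℂ) :
    ∑ a ∈ Finset.univ.filter (fun a : Ct t => IsInvol a), F (φ a) =
      ∑ g : M, (invCount φ (coords g) : ℂ) * F g := by
  rw [← Finset.sum_fiberwise (Finset.univ.filter fun a : Ct t => IsInvol a) φ fun a => F (φ a)]
  refine Finset.sum_congr rfl fun g _ => ?_
  rw [Finset.sum_congr rfl (g := fun _ => F g) fun a ha => by rw [(Finset.mem_filter.1 ha).2],
    Finset.sum_const, nsmul_eq_mul]
  congr 1
  rw [invCount, Nat.card_eq_fintype_card, Fintype.card_subtype]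
  congr 2
  ext a
  simp [kc, coords_injective.eq_iff]

open scoped Classical in
include hφ hodd in
/-- The pairs of involutions over the support. -/
theorem sum_pairs [Fintype (Ct t)] {v : Fin 8 → ℂ}
    (hv : ∀ i, i ∉ ({1, 4, 5, 6, 7} : Finset (Fin 8)) → v i = 0) :
    ∑ h : Ct t, tf φ v h *
        ((Finset.univ.filter fun a : Ct t => IsInvol a ∧ IsInvol (a * h)).card : ℂ) =
      (invCount φ (1, 0, 0, 2) : ℂ) ^ 2 * ∑ i, (clsSize i : ℂ) * (v i * (invTbl i : ℂ)) := by
  letI : Fintype M := Fintype.ofFinite M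
  let I : M → ℂ := fun g => (invCount φ (coords g) : ℂ)
  let V : M → ℂ := fun g => v (cls (coords g))
  calc ∑ h : Ct t, tf φ v h *
        ((Finset.univ.filter fun a : Ct t => IsInvol a ∧ IsInvol (a * h)).card : ℂ)
      = ∑ a ∈ Finset.univ.filter (fun a : Ct t => IsInvol a),
          ∑ b ∈ Finset.univ.filter (fun b : Ct t => IsInvol b), V ((φ a)⁻¹ * φ b) := by
        calc _ = ∑ h : Ct t, ∑ a ∈ Finset.univ.filter (fun a : Ct t => IsInvol a),
              if IsInvol (a * h) then tf φ v h else 0 := by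
              refine Finset.sum_congr rfl fun h _ => ?_
              rw [← Finset.sum_filter, Finset.sum_const, Finset.filter_filter, nsmul_eq_mul,
                mul_comm]
          _ = _ := by
              rw [Finset.sum_comm]
              refine Finset.sum_congr rfl fun a _ => ?_
              rw [Finset.sum_filter]
              refine Fintype.sum_equiv (Equiv.mulLeft a) _ _ fun h => ?_
              simp [V, tf, kc]
    _ = ∑ g : M, I g * ∑ g' : M, I g' * V (g⁻¹ * g') := by
        rw [← sum_invol φ fun g => ∑ g' : M, I g' * V (g⁻¹ * g')]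
        exact Finset.sum_congr rfl fun a _ => sum_invol φ fun g' => V ((φ a)⁻¹ * g')
    _ = ∑ x : M, V x * ∑ g : M, I g * I (g * x) := by
        simp only [Finset.mul_sum]
        conv_rhs => rw [Finset.sum_comm]
        refine Finset.sum_congr rfl fun g _ => ?_
        refine Fintype.sum_equiv (Equiv.mulLeft g⁻¹) _ _ fun g' => ?_
        simp [mul_comm, mul_left_comm]
    _ = ∑ x : M, (fun i => (invCount φ (1, 0, 0, 2) : ℂ) ^ 2 * (v i * (invTbl i : ℂ)))
          (cls (coords x)) := by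
        refine Finset.sum_congr rfl fun x _ => ?_
        by_cases hx : inS (coords x)
        · suffices ∑ g : M, I g * I (g * x) =
              (invCount φ (1, 0, 0, 2) : ℂ) ^ 2 * (invTbl (cls (coords x)) : ℂ) by
            rw [this]; simp only [V]; ring
          rw [← card_invPairs _ (mem_gl x) hx]
          simp only [I, coords_mul]
          rw [sum_coords (fun y => (invCount φ y : ℂ) * (invCount φ (tmul y (coords x)) : ℂ)),
            ← Finset.sum_subset (Finset.filter_subset _ gl : invPairs (coords x) ⊆ gl),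
            Finset.sum_congr rfl (g := fun _ => (invCount φ (1, 0, 0, 2) : ℂ) ^ 2), Finset.sum_const,
            nsmul_eq_mul, mul_comm]
          · rfl
          · intro y hy
            obtain ⟨c1, c2⟩ := invol_pair _ (mem_gl x) hx y hy
            obtain ⟨g, rfl⟩ := exists_coords (Finset.mem_filter.1 (Finset.mem_filter.1 hy).1).2
            have hm : tmul (coords g) (coords x) ∈ gl := by rw [← coords_mul]; exact mem_gl _
            rw [invCount_cls φ hφ (mem_gl g) (by decide +kernel : ((1, 0, 0, 2) : T) ∈ gl) c1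
              (by decide +kernel), invCount_cls φ hφ hm
              (by decide +kernel : ((1, 0, 0, 2) : T) ∈ gl) c2 (by decide +kernel), sq]
          · intro y hy hy'
            have hn : ¬ ((tmul y y = (1, 0, 0, 1) ∧ y ≠ (1, 0, 0, 1)) ∧
                (tmul (tmul y (coords x)) (tmul y (coords x)) = (1, 0, 0, 1) ∧
                  tmul y (coords x) ≠ (1, 0, 0, 1))) := fun h => hy' (Finset.mem_filter.2 ⟨hy, h⟩)
            rcases not_and_or.1 hn with h | h <;> rw [invCount_eq_zero φ hodd h] <;> simp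
        · simp only [V, hv _ hx, zero_mul, mul_zero]
    _ = _ := by
        rw [sum_cls fun i => (invCount φ (1, 0, 0, 2) : ℂ) ^ 2 * (v i * (invTbl i : ℂ)),
          Finset.mul_sum]
        exact Finset.sum_congr rfl fun i _ => by ring

open scoped Classical in
include hφ hodd ht in
/-- The structure constants against an induced function, all involutions being conjugate. -/
theorem sum_products [Fintype G] (hall : ∀ a : G, orderOf a = 2 → IsConj t a) {v : Fin 8 → ℂ}
    (hv : ∀ i, i ∉ ({1, 4, 5, 6, 7} : Finset (Fin 8)) → v i = 0) :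
    ∑ a ∈ Finset.univ.filter (IsConj t), ∑ b ∈ Finset.univ.filter (IsConj t),
        indFun (Ct t) (tf φ v) (a * b) =
      (Nat.card G : ℂ) * (Nat.card (Ct t) : ℂ)⁻¹ *
        ((invCount φ (1, 0, 0, 2) : ℂ) ^ 2 * ∑ i, (clsSize i : ℂ) * (v i * (invTbl i : ℂ))) := by
  letI : Fintype (Ct t) := Fintype.ofFinite _
  let n : G → ℂ := fun x =>
    ((Finset.univ.filter fun a : G => IsConj t a ∧ IsConj t (a * x)).card : ℂ)
  have hsq : ∀ a : G, IsConj t a → a * a = 1 := fun a ha => (sq_of_isConj ht ha).1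
  have hiff : ∀ a : G, IsConj t a ↔ IsInvol a := fun a =>
    ⟨fun h => sq_of_isConj ht h, fun h => hall a (isInvol_iff.1 h)⟩
  have hconj : ∀ (g a : G), IsConj t (g * a * g⁻¹) ↔ IsConj t a := fun g a =>
    ⟨fun h => h.trans (isConj_iff.2 ⟨g⁻¹, by group⟩), fun h => h.trans (isConj_iff.2 ⟨g, rfl⟩)⟩
  have hn : IsClassFunction G n := by
    intro x g
    simp only [n]
    congr 1
    refine (Finset.card_bij' (fun a _ => g * a * g⁻¹) (fun a _ => g⁻¹ * a * g) ?_ ?_ ?_ ?_).symm
    · intro a ha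
      simp only [Finset.mem_filter, Finset.mem_univ, true_and] at ha ⊢
      refine ⟨(hconj g a).2 ha.1, ?_⟩
      rw [show g * a * g⁻¹ * (g * x * g⁻¹) = g * (a * x) * g⁻¹ by group]
      exact (hconj g _).2 ha.2
    · intro a ha
      simp only [Finset.mem_filter, Finset.mem_univ, true_and] at ha ⊢
      refine ⟨(hconj g _).1 (by simpa [mul_assoc] using ha.1), (hconj g _).1 ?_⟩
      rw [show g * (g⁻¹ * a * g * x) * g⁻¹ = a * (g * x * g⁻¹) by group]
      exact ha.2
    · intro a _; group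
    · intro a _; group
  have h1 : ∀ F : G → ℂ, ∑ a ∈ Finset.univ.filter (IsConj t),
      ∑ b ∈ Finset.univ.filter (IsConj t), F (a * b) = ∑ x : G, F x * n x := by
    intro F
    calc ∑ a ∈ Finset.univ.filter (IsConj t), ∑ b ∈ Finset.univ.filter (IsConj t), F (a * b)
        = ∑ a ∈ Finset.univ.filter (IsConj t), ∑ x : G, if IsConj t (a * x) then F x else 0 := by
          refine Finset.sum_congr rfl fun a ha => ?_
          rw [Finset.sum_filter]
          refine Fintype.sum_equiv (Equiv.mulLeft a) _ _ fun b => ?_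
          rw [Equiv.coe_mulLeft, ← mul_assoc, hsq a (Finset.mem_filter.1 ha).2, one_mul]
      _ = ∑ x : G, F x * n x := by
          rw [Finset.sum_comm]
          refine Finset.sum_congr rfl fun x _ => ?_
          rw [← Finset.sum_filter, Finset.sum_const, Finset.filter_filter, nsmul_eq_mul, mul_comm]
  have h2 := CfsgLib.Induction.sum_indFun_mul (Ct t) (tf φ v) (f := n) hn
  have hg : (Nat.card G : ℂ) ≠ 0 := Nat.cast_ne_zero.2 Nat.card_pos.ne'
  rw [h1, mul_assoc, ← sum_pairs φ hφ hodd hv,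
    show (Nat.card (Ct t) : ℂ)⁻¹ * ∑ h : Ct t, tf φ v h *
        ((Finset.univ.filter fun a : Ct t => IsInvol a ∧ IsInvol (a * h)).card : ℂ) =
      (Nat.card (Ct t) : ℂ)⁻¹ * ∑ h : Ct t, tf φ v h * n h from ?_, ← h2]
  · rw [← mul_assoc, mul_inv_cancel₀ hg, one_mul]
  · congr 1
    refine Finset.sum_congr rfl fun h _ => ?_
    by_cases hh : inS (kc φ h)
    · congr 1
      simp only [n, Nat.cast_inj]
      obtain ⟨m, hm⟩ := exists_pow_eq φ hφ hodd ht hh
      have hk : (h : G) ^ m = t := by rw [← Subgroup.coe_pow, hm]; rfl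
      have hcoe : ∀ a : Ct t, IsInvol a ↔ IsConj t (a : G) := fun a => by
        rw [hiff, isInvol_iff, isInvol_iff, Subgroup.orderOf_coe]
      refine Finset.card_bij (fun a _ => (a : G)) ?_ ?_ ?_
      · intro a ha
        obtain ⟨-, p, q⟩ := Finset.mem_filter.1 ha
        exact Finset.mem_filter.2 ⟨Finset.mem_univ _, (hcoe a).1 p, (hcoe (a * h)).1 q⟩
      · exact fun a _ b _ e => Subtype.ext e
      · intro a ha
        obtain ⟨-, p, q⟩ := Finset.mem_filter.1 ha
        have hm' := conj_t_eq hk ht (hsq a p) (hsq _ q)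
        exact ⟨⟨a, hm'⟩, Finset.mem_filter.2 ⟨Finset.mem_univ _, (hcoe ⟨a, hm'⟩).2 p,
          (hcoe (⟨a, hm'⟩ * h)).2 q⟩, rfl⟩
    · rw [tf_eq_zero φ hv hh, zero_mul, zero_mul]

end Count

end CfsgLib.SelfCentralSix.GLKill
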