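import Cfsg.Agent.Lib.SelfCentralSix.Cases
import Cfsg.Agent.Lib.Transfer.Basic
import Cfsg.Agent.Lib.CentralSylow.Basic

/-!
# The centralizer of the involution modulo a 2-group is a simple group

The quotient of order `168` is impossible; in the quotient of order `60` the element `x` normalizes a
Sylow 2-subgroup of `G` lying in the centralizer.
-/

set_option autoImplicit false
set_option linter.style.haveILetI false
set_option linter.unusedSectionVars false

namespace CfsgLib.SelfCentralSix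

open Subgroup CfsgLib.SelfThree29
open scoped commutatorElement

universe u

variable {G : Type u} [Group G]

theorem card_dvd_factorial_index {K : Type u} [Group K] [Finite K] [IsSimpleGroup K] {H : Subgroup K}
    (hH : H ≠ ⊤) : Nat.card K ∣ H.index.factorial := by
  classical
  have hker : (MulAction.toPermHom K (K ⧸ H)).ker = ⊥ := by
    rw [← Subgroup.normalCore_eq_ker]
    exact (IsSimpleGroup.eq_bot_or_eq_top_of_normal _ H.normalCore_normal).resolve_right fun e =>
      hH (top_le_iff.1 (e ▸ H.normalCore_le))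
  have h := Subgroup.card_dvd_of_injective (MulAction.toPermHom K (K ⧸ H))
    ((MonoidHom.ker_eq_bot_iff _).1 hker)
  rwa [Nat.card_perm, ← Subgroup.index] at h

theorem normalizer_not_le_centralizer {K : Type u} [Group K] [Finite K] [IsSimpleGroup K]
    (P : Sylow 2 K) (h1 : (P : Subgroup K) ≠ ⊥) (h2 : (P : Subgroup K) ≠ ⊤) :
    ¬ normalizer ((P : Subgroup K) : Set K) ≤ centralizer ((P : Subgroup K) : Set K) := by
  haveI : Fact (Nat.Prime 2) := ⟨Nat.prime_two⟩
  intro hNC
  have hc := MonoidHom.ker_transferSylow_isComplement' P hNC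
  rcases (MonoidHom.normal_ker (MonoidHom.transferSylow P hNC)).eq_bot_or_eq_top with h | h
  · rw [h] at hc; exact h2 (isComplement'_bot_left.1 hc)
  · rw [h] at hc; exact h1 (isComplement'_top_left.1 hc)

/-- An element of order three normalizes a commutative Sylow 2-subgroup. -/
theorem exists_three_normalizer {K : Type u} [Group K] [Finite K] [IsSimpleGroup K]
    (P : Sylow 2 K) {m k : ℕ} (hK : Nat.card K = m * k) (hP : Nat.card (P : Subgroup K) = k)
    (hm : m = 15 ∨ m = 21) (hk : 2 ≤ k)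
    (hab : ∀ a ∈ (P : Subgroup K), ∀ b ∈ (P : Subgroup K), a * b = b * a) :
    ∃ y ∈ normalizer ((P : Subgroup K) : Set K), orderOf y = 3 := by
  haveI : Fact (Nat.Prime 3) := ⟨Nat.prime_three⟩
  set N := normalizer ((P : Subgroup K) : Set K) with hN
  have hne1 : (P : Subgroup K) ≠ ⊥ := fun e => by rw [e, card_bot] at hP; omega
  have hPi : (P : Subgroup K).index = m := by
    have := (P : Subgroup K).card_mul_index
    rw [hP, hK, mul_comm] at this
    exact Nat.eq_of_mul_eq_mul_right (by omega) this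
  have hne2 : (P : Subgroup K) ≠ ⊤ := fun e => by rw [e, index_top] at hPi; omega
  have hidx : N.index ∣ m := hPi ▸ Subgroup.index_dvd_of_le Subgroup.le_normalizer
  have hNtop : N ≠ ⊤ := fun e => by
    haveI : (P : Subgroup K).Normal := normalizer_eq_top_iff.1 e
    exact (IsSimpleGroup.eq_bot_or_eq_top_of_normal _ (inferInstance : (P : Subgroup K).Normal)).elim hne1 hne2
  have h1 : N.index ≠ 1 := fun e => hNtop (index_eq_one.1 e)
  have h3 : N.index ≠ 3 := fun e => by
    have h6 := Nat.le_of_dvd (by norm_num) (e ▸ card_dvd_factorial_index hNtop : Nat.card K ∣ Nat.factorial 3)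
    rw [hK, show Nat.factorial 3 = 6 from rfl] at h6
    rcases hm with rfl | rfl <;> nlinarith
  have hne : N.index ≠ m := fun e => normalizer_not_le_centralizer P hne1 hne2 (by
    have hle : (P : Subgroup K) = N := eq_of_le_of_card_ge Subgroup.le_normalizer (by
      have h' := N.card_mul_index
      rw [e, hK, mul_comm m k] at h'
      rw [hP]
      exact le_of_eq (Nat.eq_of_mul_eq_mul_right (by omega) h'))
    rw [← hN, ← hle]
    exact fun a ha => mem_centralizer_iff.2 fun b hb => hab b hb a ha)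
  have h3N : 3 ∣ Nat.card N := by
    have hlist : N.index = 5 ∨ N.index = 7 := by
      have hle := Nat.le_of_dvd (by omega) hidx
      rcases hm with rfl | rfl <;> interval_cases hi : N.index <;> omega
    have h := N.card_mul_index
    have hd : 3 ∣ Nat.card N * N.index := by
      rw [h, hK]; exact dvd_mul_of_dvd_left (by rcases hm with rfl | rfl <;> norm_num) k
    refine (Nat.prime_three.dvd_mul.1 hd).resolve_right ?_
    rcases hlist with e | e <;> rw [e] <;> norm_num
  obtain ⟨y, hy⟩ := exists_prime_orderOf_dvd_card' (G := N) 3 h3N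
  exact ⟨y, y.2, by rw [Subgroup.orderOf_coe]; exact hy⟩

namespace Ctx

variable [Finite G] (D : Ctx G)
include D

theorem false_of_168 {K : Type u} [Group K] [Finite K] {π : D.C →* K} (h : SimpleCase D π)
    (h168 : Nat.card K = 168) : False := by
  classical
  haveI : Fact (Nat.Prime 2) := ⟨Nat.prime_two⟩
  haveI := h.simple
  obtain ⟨S, hS⟩ := D.exists_sylow
  have hker2 : Nat.card π.ker = 2 := (h.card.resolve_left (by omega)).2
  have hi1 : D.iC ≠ 1 := fun e => D.i_ne (congrArg Subtype.val e)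
  have hπi : π D.iC = 1 := h.i_ker
  have hker : ∀ c : D.C, π c = 1 → c = 1 ∨ c = D.iC := by
    intro c hc
    obtain ⟨a, -, huniq⟩ := (Nat.card_eq_two_iff' (1 : π.ker)).1 hker2
    by_cases h1 : c = 1
    · exact Or.inl h1
    right
    exact congrArg Subtype.val ((huniq ⟨c, hc⟩ fun e => h1 (congrArg Subtype.val e)).trans
      (huniq ⟨D.iC, hπi⟩ fun e => hi1 (congrArg Subtype.val e)).symm)
  have hmk : ∀ c d : D.C, π c = π d → (d : G) = c ∨ (d : G) = c * D.i := by
    intro c d e
    rcases hker (c⁻¹ * d) (by rw [map_mul, map_inv, e, inv_mul_cancel]) with e1 | e1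
    · exact Or.inl (congrArg Subtype.val (inv_mul_eq_one.1 e1)).symm
    · exact Or.inr (congrArg Subtype.val (inv_mul_eq_iff_eq_mul.1 e1))
  have hiS := D.i_mem_sylow hS
  let P : Sylow 2 K := (S.subtype hS).mapSurjective h.surj
  have hPmem : ∀ p : K, p ∈ (P : Subgroup K) ↔ ∃ s : D.C, (s : G) ∈ (S : Subgroup G) ∧ π s = p := fun p => Iff.rfl
  have hmemS : ∀ c : D.C, π c ∈ (P : Subgroup K) → (c : G) ∈ (S : Subgroup G) := by
    intro c hc
    obtain ⟨s, hs, hsc⟩ := (hPmem _).1 hc
    rcases hmk s c hsc with e | e <;> rw [e]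
    · exact hs
    · exact mul_mem hs hiS
  have hP8 : Nat.card (P : Subgroup K) = 8 := by
    obtain ⟨k, hk⟩ := IsPGroup.iff_card.1 P.2
    have h1 := (P : Subgroup K).card_mul_index
    have h2 := P.not_dvd_index
    rw [hk, h168] at h1
    have hk7 : k ≤ 7 := by
      by_contra hlt
      have : 2 ^ 8 ≤ 168 := (Nat.pow_le_pow_right (by norm_num) (by omega : 8 ≤ k)).trans
        (Nat.le_of_dvd (by norm_num) ⟨_, h1.symm⟩)
      omega
    rw [hk]
    interval_cases k <;> omega
  -- (a) the Sylow subgroup of `K` is not commutative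
  have hnab : ¬ ∀ a ∈ (P : Subgroup K), ∀ b ∈ (P : Subgroup K), a * b = b * a := by
    intro hab
    obtain ⟨y, hy, hy3⟩ := exists_three_normalizer P (m := 21) (k := 8) (by rw [h168]) hP8 (Or.inr rfl) (by norm_num) hab
    have hmod := card_fixed_modEq (hy3 ▸ pow_orderOf_eq_one y) hy
    have hbot : (P : Subgroup K) ⊓ centralizer ({y} : Set K) = ⊥ := by
      refine (eq_bot_iff_forall _).2 fun p hp => ?_
      exact (h.sc3.of_orderOf hy3).eq_one_of_commute (N := (P : Subgroup K)) (by rw [hP8]; norm_num) hp.1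
        (mem_centralizer_singleton_iff.1 hp.2)
    rw [hbot, card_bot, hP8] at hmod
    norm_num [Nat.ModEq] at hmod
  obtain ⟨a, haP, haa⟩ : ∃ a ∈ (P : Subgroup K), a * a ≠ 1 := by
    by_contra hall
    push Not at hall
    refine hnab fun a ha b hb => ?_
    have := hall _ (mul_mem ha hb)
    rw [← inv_eq_of_mul_eq_one_right this, mul_inv_rev, inv_eq_of_mul_eq_one_right (hall a ha),
      inv_eq_of_mul_eq_one_right (hall b hb)]
  have hord : ∀ p ∈ (P : Subgroup K), p * p ≠ 1 → orderOf p = 4 := by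
    intro p hp hpp
    have hd : orderOf p ∣ 2 ^ 3 := by
      rw [show 2 ^ 3 = Nat.card (P : Subgroup K) by rw [hP8]; norm_num]
      exact Subgroup.orderOf_dvd_natCard _ hp
    obtain ⟨e, he, hpe⟩ := (Nat.dvd_prime_pow Nat.prime_two).1 hd
    have h2 : e ≠ 3 := by
      rintro rfl
      have htop : zpowers p = (P : Subgroup K) :=
        eq_of_le_of_card_ge (zpowers_le.2 hp) (by rw [Nat.card_zpowers, hpe, hP8]; norm_num)
      exact hnab fun x hx y hy => commute_of_mem_zpowers (htop.symm ▸ hx) (htop.symm ▸ hy)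
    have h3 : ¬ e ≤ 1 := fun hle => hpp (by
      rw [← pow_two]
      exact orderOf_dvd_iff_pow_eq_one.1 (hpe ▸ (pow_dvd_pow 2 hle).trans (by norm_num)))
    rw [hpe, show e = 2 by omega]; norm_num
  have ha4 := hord a haP haa
  set A := zpowers a with hA
  have hAP : A ≤ (P : Subgroup K) := zpowers_le.2 haP
  have hAc : Nat.card A = 4 := by rw [hA, Nat.card_zpowers, ha4]
  have hAi : A.relIndex (P : Subgroup K) = 2 := by
    have h1 := (A.subgroupOf (P : Subgroup K)).card_mul_index
    rw [Nat.card_congr (subgroupOfEquivOfLe hAP).toEquiv, hAc, hP8] at h1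
    show (A.subgroupOf (P : Subgroup K)).index = 2
    omega
  set w := a * a with hw
  have hw1 : w ≠ 1 := haa
  have hww : w * w = 1 := by
    have := pow_orderOf_eq_one a
    rw [ha4] at this
    rw [hw, ← this]; simp [pow_succ, mul_assoc]
  have hAel : ∀ p ∈ A, p = 1 ∨ p = a ∨ p = w ∨ p = w * a := by
    intro p hp
    obtain ⟨n, rfl⟩ := mem_zpowers_iff.1 hp
    rw [← zpow_mod_orderOf, ha4]
    have h0 : 0 ≤ n % ((4 : ℕ) : ℤ) := Int.emod_nonneg _ (by norm_num)
    have h4 : n % ((4 : ℕ) : ℤ) < 4 := Int.emod_lt_of_pos _ (by norm_num)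
    generalize n % ((4 : ℕ) : ℤ) = j at *
    interval_cases j
    · exact Or.inl (zpow_zero a)
    · exact Or.inr (Or.inl (zpow_one a))
    · exact Or.inr (Or.inr (Or.inl (zpow_two a)))
    · exact Or.inr (Or.inr (Or.inr (by rw [show (3 : ℤ) = 2 + 1 by norm_num, zpow_add_one, zpow_two, hw])))
  have hAsq : ∀ p ∈ A, p * p = 1 → p = 1 ∨ p = w := by
    intro p hp hpp
    rcases hAel p hp with rfl | rfl | rfl | rfl
    · exact Or.inl rfl
    · exact absurd hpp haa
    · exact Or.inr rfl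
    · exfalso
      refine haa ?_
      have hc : Commute w a := by rw [hw]; exact (Commute.refl a).mul_left (Commute.refl a)
      rwa [hc.symm.mul_mul_mul_comm, hww, one_mul] at hpp
  have hmulA : ∀ p ∈ (P : Subgroup K), ∀ q ∈ (P : Subgroup K), (p * q ∈ A ↔ (p ∈ A ↔ q ∈ A)) := by
    intro p hp q hq
    have := mul_mem_iff_of_index_two (H := A.subgroupOf (P : Subgroup K)) hAi (a := ⟨p, hp⟩) (b := ⟨q, hq⟩)
    simpa [mem_subgroupOf] using this
  have hsqw : ∀ p ∈ (P : Subgroup K), p * p ≠ 1 → p * p = w := by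
    intro p hp hpp
    refine (hAsq _ ((hmulA p hp p hp).2 Iff.rfl) ?_).resolve_left hpp
    have := pow_orderOf_eq_one p
    rw [hord p hp hpp] at this
    rw [← this]; simp [pow_succ, mul_assoc]
  obtain ⟨b, hbP, hbA⟩ : ∃ b ∈ (P : Subgroup K), b ∉ A := by
    by_contra hall
    push Not at hall
    have := card_le_of_le (show (P : Subgroup K) ≤ A from hall)
    omega
  have hba : b * a * b⁻¹ = w * a := by
    have hmem : b * a * b⁻¹ ∈ A := by
      have h1 : b * a ∉ A := fun h1 => hbA (((hmulA b hbP a haP).1 h1).2 (mem_zpowers a))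
      refine (hmulA _ (mul_mem hbP haP) _ (inv_mem hbP)).2 (iff_of_false h1 fun h2 => hbA (by simpa using inv_mem h2))
    have hsq : (b * a * b⁻¹) * (b * a * b⁻¹) ≠ 1 := fun e => haa (by
      rw [show (b * a * b⁻¹) * (b * a * b⁻¹) = b * (a * a) * b⁻¹ by group] at e
      exact conj_eq_one_iff.1 e)
    rcases hAel _ hmem with e | e | e | e
    · exact absurd (by rw [e, one_mul]) hsq
    · exfalso
      refine hnab ?_
      have hab : Commute b a := mul_inv_eq_iff_eq_mul.1 e
      have hcl : (P : Subgroup K) ≤ centralizer ({a} : Set K) := fun p hp => by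
        refine mem_centralizer_singleton_iff.2 ?_
        by_cases hpA : p ∈ A
        · exact commute_of_mem_zpowers hpA (mem_zpowers a)
        · have h2 : p * b ∈ A := (hmulA p hp b hbP).2 (iff_of_false hpA hbA)
          have h3 : Commute (p * b) a := commute_of_mem_zpowers h2 (mem_zpowers a)
          have := h3.mul_left hab.inv_left
          rwa [mul_inv_cancel_right] at this
      intro p hp q hq
      by_cases hpA : p ∈ A
      · obtain ⟨n, rfl⟩ := mem_zpowers_iff.1 hpA
        have hqa : Commute q a := mem_centralizer_singleton_iff.1 (hcl hq)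
        exact (hqa.zpow_right n).symm.eq
      · by_cases hqA : q ∈ A
        · obtain ⟨n, rfl⟩ := mem_zpowers_iff.1 hqA
          have hpa : Commute p a := mem_centralizer_singleton_iff.1 (hcl hp)
          exact (hpa.zpow_right n).eq
        · have h2 : p⁻¹ * q ∈ A := (hmulA _ (inv_mem hp) q hq).2
            (iff_of_false (fun h4 => hpA (by simpa using inv_mem h4)) hqA)
          obtain ⟨n, hn⟩ := mem_zpowers_iff.1 h2
          have hpa : Commute p a := mem_centralizer_singleton_iff.1 (hcl hp)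
          have h4 := hpa.zpow_right n
          have hq' : q = p * a ^ n := by rw [hn]; group
          rw [hq']
          exact ((Commute.refl p).mul_right h4).eq
    · exact absurd (by rw [e, hww]) hsq
    · exact e
  -- (b) all involutions of `K` are conjugate
  have hconj : ∀ u : K, orderOf u = 2 → ∃ g : K, g * u * g⁻¹ = w := by
    intro u hu
    have hz : IsPGroup 2 (zpowers u) := IsPGroup.of_card (n := 1) (by rw [Nat.card_zpowers, hu, pow_one])
    obtain ⟨T, hT⟩ := hz.exists_le_sylow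
    obtain ⟨g, hg⟩ := MulAction.exists_smul_eq K T P
    have hu' : g * u * g⁻¹ ∈ (P : Subgroup K) :=
      hg ▸ CentralSylow.conj_mem_smul (hT (mem_zpowers u))
    have hoo : orderOf (g * u * g⁻¹) = 2 := by rw [orderOf_cj, hu]
    have huu : g * u * g⁻¹ * (g * u * g⁻¹) = 1 := by rw [← sq, ← hoo, pow_orderOf_eq_one]
    by_contra hcon
    push Not at hcon
    obtain ⟨M, hMn, hM, -⟩ := Transfer.thompson_transfer P A hAi (g * u * g⁻¹) (by rw [sq, huu]) fun k _ hk => by
      have hu0 : u * u = 1 := by rw [← sq, ← hu, pow_orderOf_eq_one]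
      rcases hAsq _ hk (by
        rw [show k * (g * u * g⁻¹) * k⁻¹ * (k * (g * u * g⁻¹) * k⁻¹) = (k * g) * (u * u) * (k * g)⁻¹ by group, hu0]
        group) with e | e
      · have hu1 : u = 1 := by
          rw [show k * (g * u * g⁻¹) * k⁻¹ = (k * g) * u * (k * g)⁻¹ by group] at e
          exact conj_eq_one_iff.1 e
        rw [hu1, orderOf_one] at hu; omega
      · exact hcon (k * g) (by rw [← e]; group)
    rcases IsSimpleGroup.eq_bot_or_eq_top_of_normal M hMn with e | e
    · rw [e, index_bot, h168] at hM; omega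
    · rw [e, index_top] at hM; omega
  -- (c) preimages of involutions square to one
  obtain ⟨w₀, hw₀S, hw₀, hw₀i⟩ : ∃ w₀ ∈ (S : Subgroup G), orderOf w₀ = 2 ∧ w₀ ≠ D.i := by
    by_contra hcon
    push Not at hcon
    exact D.false_of_unique S fun p hp q hq hpo hqo => (hcon p hp hpo).trans (hcon q hq hqo).symm
  have hw₀1 : w₀ * w₀ = 1 := by rw [← sq, ← hw₀, pow_orderOf_eq_one]
  set w₁ : D.C := ⟨w₀, hS hw₀S⟩ with hw₁
  have hπw₁ : orderOf (π w₁) = 2 := by
    refine orderOf_eq_prime (p := 2) ?_ fun e => ?_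
    · rw [sq, ← map_mul, show w₁ * w₁ = 1 from Subtype.ext hw₀1, map_one]
    · rcases hker w₁ e with e1 | e1
      · have e2 : w₀ = 1 := congrArg Subtype.val e1
        rw [e2, orderOf_one] at hw₀; omega
      · exact hw₀i (congrArg Subtype.val e1)
  have hsq : ∀ c : D.C, π c * π c = 1 → π c ≠ 1 → (c : G) * c = 1 := by
    intro c hc hc1
    obtain ⟨g₁, hg₁⟩ := hconj _ (orderOf_two hc hc1)
    obtain ⟨g₂, hg₂⟩ := hconj _ hπw₁
    obtain ⟨d, hd⟩ := h.surj (g₁⁻¹ * g₂)
    have e : π (d * w₁ * d⁻¹) = π c := by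
      rw [map_mul, map_mul, map_inv, hd,
        show g₁⁻¹ * g₂ * π w₁ * (g₁⁻¹ * g₂)⁻¹ = g₁⁻¹ * (g₂ * π w₁ * g₂⁻¹) * g₁ by group, hg₂, ← hg₁]
      group
    have h1 : ((d * w₁ * d⁻¹ : D.C) : G) * (d * w₁ * d⁻¹ : D.C) = 1 := by
      show (d : G) * w₀ * (d : G)⁻¹ * ((d : G) * w₀ * (d : G)⁻¹) = 1
      rw [show (d : G) * w₀ * (d : G)⁻¹ * ((d : G) * w₀ * (d : G)⁻¹) = (d : G) * (w₀ * w₀) * (d : G)⁻¹ by group, hw₀1]
      group
    rcases hmk _ c e with e1 | e1 <;> rw [e1]
    · exact h1
    · rw [(show Commute D.i ((d * w₁ * d⁻¹ : D.C) : G) from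
        (D.mem_C.1 (d * w₁ * d⁻¹ : D.C).2).symm).mul_mul_mul_comm, h1, D.i_sq, one_mul]
  -- (d) a central lift of `w`
  obtain ⟨z₁, hz₁S, hz₁⟩ := (hPmem w).1 (hAP (mul_mem (mem_zpowers a) (mem_zpowers a)))
  set z : G := (z₁ : G) with hz
  have hzz : z * z = 1 := hsq z₁ (by rw [hz₁, hww]) (by rw [hz₁]; exact hw1)
  have hwP : ∀ p ∈ (P : Subgroup K), Commute p w := by
    intro p hp
    by_cases hpA : p ∈ A
    · exact commute_of_mem_zpowers hpA (mul_mem (mem_zpowers a) (mem_zpowers a))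
    · have h2 : p * b ∈ A := (hmulA p hp b hbP).2 (iff_of_false hpA hbA)
      have h3 : Commute (p * b) w := commute_of_mem_zpowers h2 (mul_mem (mem_zpowers a) (mem_zpowers a))
      have hbw : Commute b w := mul_inv_eq_iff_eq_mul.1 (by
        have hwa : Commute w a := (Commute.refl a).mul_left (Commute.refl a)
        calc b * w * b⁻¹ = (b * a * b⁻¹) * (b * a * b⁻¹) := by rw [hw]; group
          _ = w := by rw [hba, hwa.symm.mul_mul_mul_comm, hww, one_mul])
      have := h3.mul_left hbw.inv_left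
      rwa [mul_inv_cancel_right] at this
  have hci : ∀ s ∈ (S : Subgroup G), Commute s D.i := fun s hs => D.i_mem_center hS hs
  have hzc : ∀ s ∈ (S : Subgroup G), Commute s z := by
    intro s hs
    set s₁ : D.C := ⟨s, hS hs⟩ with hs₁
    have hsP : π s₁ ∈ (P : Subgroup K) := (hPmem _).2 ⟨s₁, hs, rfl⟩
    by_cases hpp : π s₁ * π s₁ = 1
    · by_cases h1 : π s₁ = 1
      · rcases hker s₁ h1 with e | e
        · rw [show s = 1 from congrArg Subtype.val e]; exact Commute.one_left z
        · rw [show s = D.i from congrArg Subtype.val e]; exact (hci z hz₁S).symm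
      have hss : s * s = 1 := hsq s₁ hpp h1
      by_cases h2 : π (s₁ * z₁) = 1
      · rcases hker _ h2 with e | e
        · have e' : s * z = 1 := congrArg Subtype.val e
          rw [eq_inv_of_mul_eq_one_left e']
          exact (Commute.refl z).inv_left
        · have e' : s * z = D.i := congrArg Subtype.val e
          rw [show s = D.i * z⁻¹ by rw [← e']; group]
          exact (hci z hz₁S).symm.mul_left (Commute.refl z).inv_left
      have h3 : (s * z) * (s * z) = 1 := hsq (s₁ * z₁) (by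
        rw [map_mul, hz₁, (hwP _ hsP).symm.mul_mul_mul_comm, hpp, hww, one_mul]) h2
      show s * z = z * s
      rw [← inv_eq_of_mul_eq_one_right h3, mul_inv_rev, inv_eq_of_mul_eq_one_right hss,
        inv_eq_of_mul_eq_one_right hzz]
    · have e := hsqw _ hsP hpp
      rw [← map_mul, ← hz₁] at e
      rcases hmk _ _ e with e1 | e1
      · rw [show z = s * s from e1]
        exact (Commute.refl s).mul_right (Commute.refl s)
      · rw [show z = s * s * D.i from e1]
        exact ((Commute.refl s).mul_right (Commute.refl s)).mul_right (hci s hs)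
  -- (e) commutators
  obtain ⟨a₁, ha₁S, ha₁⟩ := (hPmem a).1 haP
  obtain ⟨b₁, hb₁S, hb₁⟩ := (hPmem b).1 hbP
  set c : G := ⁅(a₁ : G), (b₁ : G)⁆ with hc
  have hπc : π ⁅a₁, b₁⁆ = w := by
    rw [map_commutatorElement, ha₁, hb₁, commutatorElement_def]
    calc a * b * a⁻¹ * b⁻¹ = a * (b * a * b⁻¹)⁻¹ := by group
      _ = w⁻¹ := by rw [hba]; group
      _ = w := inv_eq_of_mul_eq_one_right hww
  have hcS : c ∈ (S : Subgroup G) :=
    hmemS ⁅a₁, b₁⁆ (by rw [hπc]; exact hAP (mul_mem (mem_zpowers a) (mem_zpowers a)))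
  have hcc : c * c = 1 := hsq ⁅a₁, b₁⁆ (by rw [hπc, hww]) (by rw [hπc]; exact hw1)
  have hcw : c = z ∨ c = z * D.i := hmk z₁ ⁅a₁, b₁⁆ (by rw [hπc, hz₁])
  have hccen : ∀ s ∈ (S : Subgroup G), Commute s c := fun s hs => by
    rcases hcw with e | e <;> rw [e]
    · exact hzc s hs
    · exact (hzc s hs).mul_right (hci s hs)
  have hmul : ∀ s t v : G, ⁅t, v⁆ = 1 ∨ ⁅t, v⁆ = c → s ∈ (S : Subgroup G) → ⁅s * t, v⁆ = ⁅t, v⁆ * ⁅s, v⁆ := by
    intro s t v ht hs
    have hcs : Commute s ⁅t, v⁆ := by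
      rcases ht with e | e <;> rw [e]
      · exact Commute.one_right s
      · exact hccen s hs
    calc ⁅s * t, v⁆ = s * ⁅t, v⁆ * s⁻¹ * ⁅s, v⁆ := by simp only [commutatorElement_def]; group
      _ = _ := by rw [hcs.eq, mul_inv_cancel_right]
  have hinv : ∀ q : G, q = 1 ∨ q = c → q⁻¹ = q := fun q hq => by
    rcases hq with e | e <;> rw [e]
    · exact inv_one
    · exact inv_eq_of_mul_eq_one_right hcc
  let H : G → Subgroup G := fun v =>
    { carrier := {s | s ∈ (S : Subgroup G) ∧ (⁅s, v⁆ = 1 ∨ ⁅s, v⁆ = c)}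
      one_mem' := ⟨one_mem _, Or.inl (commutatorElement_one_left v)⟩
      mul_mem' := fun {s t} hs ht => ⟨mul_mem hs.1 ht.1, by
        rw [hmul s t v ht.2 hs.1]
        rcases hs.2 with e | e <;> rcases ht.2 with e' | e' <;> rw [e, e']
        · exact Or.inl (one_mul 1)
        · exact Or.inr (mul_one c)
        · exact Or.inr (one_mul c)
        · exact Or.inl hcc⟩
      inv_mem' := fun {s} hs => ⟨inv_mem hs.1, by
        have h1 := hmul s⁻¹ s v hs.2 (inv_mem hs.1)
        rw [inv_mul_cancel, commutatorElement_one_left] at h1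
        rw [(inv_eq_of_mul_eq_one_right h1.symm).symm, hinv _ hs.2]
        exact hs.2⟩ }
  have hgen : ∀ W : Subgroup G, (a₁ : G) ∈ W → (b₁ : G) ∈ W → D.i ∈ W → (S : Subgroup G) ≤ W := by
    intro W haW hbW hiW s hs
    have key : ∀ d : D.C, (d : G) ∈ W → π d = π ⟨s, hS hs⟩ → s ∈ W := by
      intro d hd e
      rcases hmk _ _ e with e1 | e1 <;> rw [show s = ((⟨s, hS hs⟩ : D.C) : G) from rfl, e1]
      · exact hd
      · exact mul_mem hd hiW
    have hsP : π ⟨s, hS hs⟩ ∈ (P : Subgroup K) := (hPmem _).2 ⟨_, hs, rfl⟩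
    by_cases hpA : π ⟨s, hS hs⟩ ∈ A
    · obtain ⟨n, hn⟩ := mem_zpowers_iff.1 hpA
      exact key (a₁ ^ n) (by rw [SubgroupClass.coe_zpow]; exact zpow_mem haW n) (by rw [map_zpow, ha₁, hn])
    · obtain ⟨n, hn⟩ := mem_zpowers_iff.1 ((hmulA _ hsP _ hbP).2 (iff_of_false hpA hbA))
      refine key (a₁ ^ n * b₁⁻¹) ?_ (by rw [map_mul, map_zpow, map_inv, ha₁, hb₁, hn, mul_inv_cancel_right])
      rw [Subgroup.coe_mul, SubgroupClass.coe_zpow, Subgroup.coe_inv]
      exact mul_mem (zpow_mem haW n) (inv_mem hbW)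
  have hflip : ∀ s v : G, (⁅s, v⁆ = 1 ∨ ⁅s, v⁆ = c) → (⁅v, s⁆ = 1 ∨ ⁅v, s⁆ = c) := fun s v hsv => by
    rw [← commutatorElement_inv, hinv _ hsv]; exact hsv
  have hiH : ∀ v ∈ (S : Subgroup G), D.i ∈ H v := fun v hv =>
    ⟨hiS, Or.inl (commutatorElement_eq_one_iff_mul_comm.2 (hci v hv).symm.eq)⟩
  have ha : ∀ s ∈ (S : Subgroup G), ⁅s, (a₁ : G)⁆ = 1 ∨ ⁅s, (a₁ : G)⁆ = c := fun s hs =>
    (hgen (H a₁) ⟨ha₁S, Or.inl (commutatorElement_self _)⟩ ⟨hb₁S, hflip _ _ (Or.inr hc.symm)⟩ (hiH _ ha₁S) hs).2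
  have hb : ∀ s ∈ (S : Subgroup G), ⁅s, (b₁ : G)⁆ = 1 ∨ ⁅s, (b₁ : G)⁆ = c := fun s hs =>
    (hgen (H b₁) ⟨ha₁S, Or.inr hc.symm⟩ ⟨hb₁S, Or.inl (commutatorElement_self _)⟩ (hiH _ hb₁S) hs).2
  have hall : ∀ s ∈ (S : Subgroup G), ∀ v ∈ (S : Subgroup G), ⁅s, v⁆ = 1 ∨ ⁅s, v⁆ = c := fun s hs v hv =>
    (hgen (H v) ⟨ha₁S, hflip _ _ (ha v hv)⟩ ⟨hb₁S, hflip _ _ (hb v hv)⟩ (hiH v hv) hs).2
  have hc1 : c ≠ 1 := fun e => hw1 (by rw [← hπc, show ⁅a₁, b₁⁆ = 1 from Subtype.ext e, map_one])
  obtain ⟨n, hn, hne⟩ := D.zInv_transitive S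
    (show c ∈ zInv (S : Subgroup G) from ⟨hcS, hcc, fun p hp => (hccen p hp).eq⟩)
    (show D.i ∈ zInv (S : Subgroup G) from ⟨hiS, D.i_sq, fun p hp => (hci p hp).eq⟩) hc1 D.i_ne
  rw [hc, show n * ⁅(a₁ : G), (b₁ : G)⁆ * n⁻¹ = ⁅n * a₁ * n⁻¹, n * b₁ * n⁻¹⁆ by
    simp only [commutatorElement_def]; group] at hne
  rcases hall _ ((mem_normalizer_iff.1 hn _).1 ha₁S) _ ((mem_normalizer_iff.1 hn _).1 hb₁S) with e | e <;>
    rw [hne] at e
  · exact D.i_ne e
  · refine hw1 ?_
    rw [← hπc, show ⁅a₁, b₁⁆ = D.iC from Subtype.ext e.symm, hπi]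

theorem exists_sylow_sixty {K : Type u} [Group K] [Finite K] {π : D.C →* K} (h : SimpleCase D π)
    (h60 : Nat.card K = 60) :
    ∃ S : Sylow 2 G, (S : Subgroup G) ≤ D.C ∧ D.x ∈ normalizer ((S : Subgroup G) : Set G) ∧
      Nat.card (S : Subgroup G) = 4 * Nat.card π.ker ∧
      Nat.card ↥(normalizer ((S : Subgroup G) : Set G) ⊓ D.C) = 3 * Nat.card (S : Subgroup G) ∧
      (∀ L : Subgroup G, L ≤ D.C → (S : Subgroup G) ≤ L → ¬ 3 ∣ Nat.card L → L ≤ (S : Subgroup G)) ∧
      ¬ 7 ∣ Nat.card D.C := by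
  classical
  haveI : Fact (Nat.Prime 2) := ⟨Nat.prime_two⟩
  haveI := h.simple
  obtain ⟨T, hT⟩ := D.exists_sylow
  have hcardC : Nat.card D.C = 60 * Nat.card π.ker := by
    have h1 := π.ker.card_mul_index
    rw [index_ker, MonoidHom.range_eq_top.2 h.surj, card_top, h60] at h1
    rw [← h1, mul_comm]
  have hcomap : ∀ H : Subgroup K, Nat.card (H.comap π) = Nat.card H * Nat.card π.ker := by
    intro H
    have h1 := H.card_mul_index
    have h2 := (H.comap π).card_mul_index
    rw [index_comap_of_surjective H h.surj, hcardC, ← h60, ← h1] at h2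
    refine Nat.eq_of_mul_eq_mul_right (Nat.pos_of_ne_zero (index_ne_zero_of_finite (H := H))) ?_
    rw [h2]; ring
  obtain ⟨k, hk⟩ := IsPGroup.iff_card.1 h.ker
  let P₀ : Sylow 2 K := (T.subtype hT).mapSurjective h.surj
  have hP4 : ∀ P : Sylow 2 K, Nat.card (P : Subgroup K) = 4 := by
    intro P
    obtain ⟨e, he⟩ := IsPGroup.iff_card.1 P.2
    have h1 := (P : Subgroup K).card_mul_index
    have h2 := P.not_dvd_index
    rw [he, h60] at h1
    have he5 : e ≤ 5 := by
      by_contra hlt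
      have : 2 ^ 6 ≤ 60 := (Nat.pow_le_pow_right (by norm_num) (by omega : 6 ≤ e)).trans
        (Nat.le_of_dvd (by norm_num) ⟨_, h1.symm⟩)
      omega
    rw [he]
    interval_cases e <;> omega
  have hab : ∀ a ∈ (P₀ : Subgroup K), ∀ b ∈ (P₀ : Subgroup K), a * b = b * a := fun a ha b hb =>
    congrArg Subtype.val ((IsPGroup.isMulCommutative_of_card_eq_prime_sq (p := 2) (G := (P₀ : Subgroup K))
      (by rw [hP4]; norm_num)).is_comm.comm ⟨a, ha⟩ ⟨b, hb⟩)
  obtain ⟨y, hy, hy3⟩ :=
    exists_three_normalizer P₀ (m := 15) (k := 4) (by rw [h60]) (hP4 _) (Or.inl rfl) (by norm_num) hab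
  obtain ⟨g, hg⟩ := h.sc3.exists_conj hy3
  set P : Sylow 2 K := g⁻¹ • P₀ with hP
  have hxP : π D.xC ∈ normalizer ((P : Subgroup K) : Set K) := by
    refine Sylow.smul_eq_iff_mem_normalizer.1 ?_
    rw [hP, smul_smul]
    have h1 : ∀ q : K, g * q * g⁻¹ ∈ normalizer ((P₀ : Subgroup K) : Set K) → (q * g⁻¹) • P₀ = g⁻¹ • P₀ := by
      intro q hq
      rw [show q * g⁻¹ = g⁻¹ * (g * q * g⁻¹) by group, mul_smul, Sylow.smul_eq_iff_mem_normalizer.2 hq]
    rcases hg with e | e
    · exact h1 _ (e ▸ hy)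
    · refine h1 _ ?_
      have e2 : g * π D.xC * g⁻¹ = y⁻¹ := by rw [← e]; group
      rw [e2]; exact inv_mem hy
  set S₀ := ((P : Subgroup K).comap π).map D.C.subtype with hS₀
  have hS₀c : Nat.card S₀ = 4 * Nat.card π.ker := by
    rw [hS₀, card_map_of_injective D.C.subtype_injective, hcomap, hP4]
  have hTc : Nat.card (T : Subgroup G) = 4 * Nat.card π.ker := by
    obtain ⟨e, he⟩ := IsPGroup.iff_card.1 T.2
    have h1 : Nat.card (T : Subgroup G) ∣ 60 * 2 ^ k := by
      rw [← hk, ← hcardC]; exact card_dvd_of_le hT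
    have h2 : Nat.card S₀ ∣ Nat.card (T : Subgroup G) := by
      have hp : IsPGroup 2 S₀ := IsPGroup.of_card (n := 2 + k) (by rw [hS₀c, hk, pow_add]; norm_num)
      obtain ⟨U, hU⟩ := hp.exists_le_sylow
      rw [← (U.card_eq_multiplicity.trans T.card_eq_multiplicity.symm)]
      exact card_dvd_of_le hU
    rw [hS₀c, hk] at h2
    rw [he] at h1 h2
    have h3 : 2 + k ≤ e := (Nat.pow_dvd_pow_iff_le_right (by norm_num : 1 < 2)).1 (by rw [pow_add]; simpa using h2)
    have h4 : 2 ^ e ∣ 2 ^ (k + 2) := by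
      refine Nat.Coprime.dvd_of_dvd_mul_right (Nat.Coprime.pow_left e (by norm_num : Nat.Coprime 2 15)) ?_
      rw [pow_add]; simpa [mul_comm, mul_assoc, mul_left_comm] using h1
    have h5 := (Nat.pow_dvd_pow_iff_le_right (by norm_num : 1 < 2)).1 h4
    rw [he, hk, show e = 2 + k by omega, pow_add]; norm_num
  let S : Sylow 2 G := Sylow.ofCard S₀ (by rw [hS₀c, ← hTc, T.card_eq_multiplicity])
  have hSle : (S : Subgroup G) ≤ D.C := by
    show S₀ ≤ D.C
    exact Subgroup.map_subtype_le _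
  have hmemS : ∀ c : D.C, (c : G) ∈ (S : Subgroup G) ↔ π c ∈ (P : Subgroup K) := fun c => by
    show (c : G) ∈ S₀ ↔ _
    rw [hS₀]
    exact (mem_map_iff_mem D.C.subtype_injective)
  have hmemN : ∀ c : D.C, (c : G) ∈ normalizer ((S : Subgroup G) : Set G) ↔
      π c ∈ normalizer ((P : Subgroup K) : Set K) := by
    intro c
    constructor
    · intro hc
      refine mem_normalizer_iff.2 fun q => ?_
      obtain ⟨d, rfl⟩ := h.surj q
      rw [← map_inv, ← map_mul, ← map_mul, ← hmemS, ← hmemS]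
      exact mem_normalizer_iff.1 hc d
    · intro hc
      refine mem_normalizer_iff.2 fun s => ⟨fun hs => ?_, fun hs => ?_⟩
      · have h1 := (hmemS ⟨s, hSle hs⟩).1 hs
        have h2 := (mem_normalizer_iff.1 hc _).1 h1
        rw [← map_inv, ← map_mul, ← map_mul, ← hmemS] at h2
        exact h2
      · have hsC : s ∈ D.C := by
          have := mul_mem (mul_mem (inv_mem c.2) (hSle hs)) c.2
          simpa [mul_assoc] using this
        refine (hmemS ⟨s, hsC⟩).2 ((mem_normalizer_iff.1 hc _).2 ?_)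
        rw [← map_inv, ← map_mul, ← map_mul, ← hmemS]
        exact hs
  refine ⟨S, hSle, (hmemN D.xC).2 hxP, hS₀c, ?_, ?_, ?_⟩
  · have hN12 : Nat.card (normalizer ((P : Subgroup K) : Set K)) = 12 := by
      set N := normalizer ((P : Subgroup K) : Set K) with hN
      have h1 := N.card_mul_index
      have h3 : 3 ∣ Nat.card N := by
        have := Subgroup.orderOf_dvd_natCard N hxP
        rwa [h.sc3.ord] at this
      have h4 : 4 ∣ Nat.card N := hP4 P ▸ card_dvd_of_le Subgroup.le_normalizer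
      have h12 : 12 ∣ Nat.card N := Nat.Coprime.mul_dvd_of_dvd_of_dvd (by norm_num : Nat.Coprime 3 4) h3 h4
      obtain ⟨r, hr⟩ := h12
      rw [h60, hr] at h1
      have hr5 : r ∣ 5 := ⟨N.index, by rw [mul_assoc] at h1; omega⟩
      rcases (Nat.dvd_prime (by norm_num : Nat.Prime 5)).1 hr5 with rfl | rfl
      · exact hr
      · exfalso
        have htop : N = ⊤ := eq_top_of_card_eq N (by omega)
        haveI : (P : Subgroup K).Normal := normalizer_eq_top_iff.1 htop
        have h4' := hP4 P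
        rcases IsSimpleGroup.eq_bot_or_eq_top_of_normal _ (inferInstance : (P : Subgroup K).Normal) with e | e <;>
          rw [e] at h4'
        · rw [card_bot] at h4'; omega
        · rw [card_top, h60] at h4'; omega
    have e : normalizer ((S : Subgroup G) : Set G) ⊓ D.C =
        ((normalizer ((P : Subgroup K) : Set K)).comap π).map D.C.subtype := by
      ext g
      constructor
      · rintro ⟨h1, h2⟩
        exact ⟨⟨g, h2⟩, (hmemN _).1 h1, rfl⟩
      · rintro ⟨c, hc, rfl⟩
        exact ⟨(hmemN c).2 hc, c.2⟩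
    rw [e, card_map_of_injective D.C.subtype_injective, hcomap, hN12]
    show 12 * Nat.card π.ker = 3 * Nat.card S₀
    rw [hS₀c]; ring
  · intro L hLC hSL h3 g hgL
    set L' := (L.subgroupOf D.C).map π with hL'
    have hPL : (P : Subgroup K) ≤ L' := fun q hq => by
      obtain ⟨d, rfl⟩ := h.surj q
      exact ⟨d, hSL ((hmemS d).2 hq), rfl⟩
    have hd : Nat.card L' ∣ Nat.card L := ((L.subgroupOf D.C).card_map_dvd π).trans
      (by rw [Nat.card_congr (subgroupOfEquivOfLe hLC).toEquiv])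
    have h4 : 4 ∣ Nat.card L' := hP4 P ▸ card_dvd_of_le hPL
    have h1 := L'.card_mul_index
    have heq : (P : Subgroup K) = L' := by
      refine eq_of_le_of_card_ge hPL ?_
      rw [hP4]
      obtain ⟨r, hr⟩ := h4
      rw [hr, h60] at h1
      have hr15 : r ∣ 15 := ⟨L'.index, by rw [mul_assoc] at h1; omega⟩
      have hle := Nat.le_of_dvd (by norm_num) hr15
      have h3' : ¬ 3 ∣ r := fun hr3 => h3 ((hr3.trans (hr ▸ dvd_mul_left r 4)).trans hd)
      by_contra hgt
      have hr5 : r = 5 := by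
        interval_cases r <;> first | rfl | omega
      rw [hr5] at h1
      have hi3 : L'.index = 3 := by omega
      have hne : L' ≠ ⊤ := fun e => by rw [e, index_top] at hi3; omega
      have h6 := Nat.le_of_dvd (by norm_num) (hi3 ▸ card_dvd_factorial_index hne : Nat.card K ∣ Nat.factorial 3)
      rw [h60, show Nat.factorial 3 = 6 from rfl] at h6
      omega
    refine (hmemS ⟨g, hLC hgL⟩).2 ?_
    rw [heq]
    exact ⟨⟨g, hLC hgL⟩, hgL, rfl⟩
  · rw [hcardC, hk]
    intro h7
    have h7' : Nat.Prime 7 := by norm_num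
    rcases h7'.dvd_mul.1 h7 with e | e
    · norm_num at e
    · have := h7'.dvd_of_dvd_pow e; norm_num at this

end Ctx

end CfsgLib.SelfCentralSix
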