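import Cfsg.Agent.Lib.SelfCentralSix.MainNil
import Cfsg.Agent.Lib.SelfCentralSix.Simple
import Cfsg.Agent.Lib.SelfCentralSix.EndJ1

/-!
# Groups with one class of involutions and a self-centralizing element of order six
-/

set_option autoImplicit false
set_option linter.style.haveILetI false

namespace CfsgLib.SelfCentralSix

open Subgroup CfsgLib.SelfThree29

universe u

variable {G : Type u} [Group G]

namespace Ctx

variable [Finite G] (D : Ctx G)
include D

/-- The classification. -/
theorem classification :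
    (∃ (F : Type) (_ : Field F) (_ : Fintype F), (Fintype.card F = 11 ∨ Fintype.card F = 13) ∧
        Nonempty (G ≃* Matrix.ProjectiveSpecialLinearGroup (Fin 2) F)) ∨
      (∃ (F : Type) (_ : Field F) (_ : Fintype F), Fintype.card F = 3 ∧
        Nonempty (G ≃* Matrix.ProjectiveSpecialLinearGroup (Fin 3) F)) ∨
      Cfsg.Spor.IsoM11 G ∨ Cfsg.Spor.IsoJ1 G := by
  classical
  rcases D.cases with ⟨M, hM⟩ | ⟨K, hK1, hK2, π, hπ⟩
  · rcases D.nil_case hM with h | h | h
    exacts [Or.inl h, Or.inr (Or.inl h), Or.inr (Or.inr (Or.inl h))]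
  refine Or.inr (Or.inr (Or.inr ?_))
  rcases hπ.card with h60 | ⟨h168, -⟩
  swap
  · exact (D.false_of_168 hπ h168).elim
  by_cases hk : Nat.card π.ker = 2
  · exact D.j1_case hπ h60 hk
  exfalso
  obtain ⟨S, hS, hx, hcard, hN, hmax, h7⟩ := D.exists_sylow_sixty hπ h60
  have h8 := (D.eight_of_normalized S hS hx hN h7 hmax).1
  omega

end Ctx

end CfsgLib.SelfCentralSix
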