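import Cfsg.Agent.Lib.SelfCentralSix.Four
import Cfsg.Agent.Lib.SelfCentralSix.Singular
import Cfsg.Agent.Lib.SelfCentralSix.Seven
import Cfsg.Agent.Lib.SelfCentralSix.Eight
import Cfsg.Agent.Lib.SelfCentralSix.Dec
import Cfsg.Agent.Lib.SelfCentralSix.Core
import Cfsg.Agent.S3189

/-!
# A Sylow 2-subgroup normalized by `x` is elementary of order eight
-/

set_option autoImplicit false
set_option linter.style.haveILetI false

namespace CfsgLib.SelfCentralSix

open Subgroup CfsgLib.SelfThree29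

universe u

variable {G : Type u} [Group G]

namespace Ctx

variable [Finite G] (D : Ctx G)
include D

/-- The stabilizer condition of a four point. -/
theorem fourPoint_of_max (S : Sylow 2 G) (hS : (S : Subgroup G) ≤ D.C)
    (hmax : ∀ L : Subgroup G, L ≤ D.C → (S : Subgroup G) ≤ L → ¬ 3 ∣ Nat.card L → L ≤ (S : Subgroup G))
    (hom : ∀ a ∈ zInv (S : Subgroup G), a = 1 ∨ a = D.i) {j : G} (hjS : j ∈ (S : Subgroup G)) (hj2 : j * j = 1)
    (hj1 : j ≠ 1) (hji : j ≠ D.i)
    (hcomm : ∀ s ∈ (S : Subgroup G), s * j * s⁻¹ = j ∨ s * j * s⁻¹ = j * D.i) : D.IsFourPoint S j := by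
  classical
  refine ⟨hS, hom, hjS, orderOf_two hj2 hj1, hji, hcomm, fun c hc hcj => ?_⟩
  let K : Subgroup G :=
    { carrier := {c | c ∈ D.C ∧ (c * j * c⁻¹ = j ∨ c * j * c⁻¹ = j * D.i)}
      one_mem' := ⟨one_mem _, Or.inl (by group)⟩
      mul_mem' := by
        rintro a c ⟨ha, ha'⟩ ⟨hc, hc'⟩
        refine ⟨mul_mem ha hc, ?_⟩
        rw [show a * c * j * (a * c)⁻¹ = a * (c * j * c⁻¹) * a⁻¹ by group]
        rcases hc' with e | e <;> rw [e]
        · exact ha'
        · rw [show a * (j * D.i) * a⁻¹ = a * j * a⁻¹ * (a * D.i * a⁻¹) by group, D.conj_i ha]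
          rcases ha' with e' | e' <;> rw [e']
          · exact Or.inr rfl
          · left; rw [mul_assoc, D.i_sq, mul_one]
      inv_mem' := by
        rintro a ⟨ha, ha'⟩
        refine ⟨inv_mem ha, ?_⟩
        rcases ha' with e | e
        · left
          calc a⁻¹ * j * a⁻¹⁻¹ = a⁻¹ * (a * j * a⁻¹) * a⁻¹⁻¹ := by rw [e]
            _ = j := by group
        · right
          calc a⁻¹ * j * a⁻¹⁻¹ = a⁻¹ * (a * j * a⁻¹ * D.i) * a⁻¹⁻¹ := by rw [e, mul_assoc j D.i D.i, D.i_sq, mul_one]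
            _ = j * (a⁻¹ * D.i * a⁻¹⁻¹) := by group
            _ = j * D.i := by rw [D.conj_i (inv_mem ha)] }
  refine hmax K (fun a ha => ha.1) (fun s hs => ⟨hS hs, hcomm s hs⟩) ?_
    ⟨hc, Or.inl (mul_inv_eq_iff_eq_mul.2 hcj)⟩
  intro h3
  haveI : Fact (Nat.Prime 3) := ⟨Nat.prime_three⟩
  obtain ⟨⟨y, hyC, hyj⟩, hy⟩ := exists_prime_orderOf_dvd_card' (G := K) 3 h3
  replace hy : orderOf y = 3 := (Subgroup.orderOf_coe _).trans hy
  have hy3 : y ^ 3 = 1 := hy ▸ pow_orderOf_eq_one y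
  have hyi := D.conj_i hyC
  have hyj' : y * j * y⁻¹ = j := hyj.resolve_right fun e => by
    have h1 := conj_triple y j hy3
    have hm : ∀ w, y * (w * D.i) * y⁻¹ = y * w * y⁻¹ * D.i := fun w => by
      rw [show y * (w * D.i) * y⁻¹ = y * w * y⁻¹ * (y * D.i * y⁻¹) by group, hyi]
    rw [e, hm, e, mul_assoc j, D.i_sq, mul_one, e] at h1
    exact D.i_ne (mul_eq_left.1 h1)
  have hle := D.card_le_two (P := (S : Subgroup G) ⊓ centralizer ({y} : Set G)) (S.2.to_le inf_le_left) hy
    fun p hp => mem_centralizer_singleton_iff.1 (mem_inf.1 hp).2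
  set P := (S : Subgroup G) ⊓ centralizer ({y} : Set G) with hP
  have hiP : D.i ∈ P :=
    mem_inf.2 ⟨D.i_mem_sylow hS, mem_centralizer_singleton_iff.2 (D.mem_C.1 hyC).symm⟩
  have hjP : j ∈ P :=
    mem_inf.2 ⟨hjS, mem_centralizer_singleton_iff.2 (mul_inv_eq_iff_eq_mul.1 hyj').symm⟩
  letI : Fintype P := Fintype.ofFinite P
  rw [Nat.card_eq_fintype_card] at hle
  have h3' : ({1, ⟨D.i, hiP⟩, ⟨j, hjP⟩} : Finset P).card ≤ 2 := (Finset.card_le_univ _).trans hle
  rw [Finset.card_insert_of_notMem, Finset.card_pair] at h3'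
  · omega
  · exact fun e => hji (congrArg Subtype.val e).symm
  · simp only [Finset.mem_insert, Finset.mem_singleton, Subtype.ext_iff, Subgroup.coe_one]
    rintro (e | e)
    · exact D.i_ne e.symm
    · exact hj1 e.symm

set_option maxHeartbeats 1000000 in
/-- With at least four central involutions a Sylow subgroup normalized by `x` has order eight. -/
theorem card_eq_eight_of_zInv (S : Sylow 2 G) (hS : (S : Subgroup G) ≤ D.C)
    (hx : D.x ∈ normalizer ((S : Subgroup G) : Set G))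
    (hN : Nat.card ↥(normalizer ((S : Subgroup G) : Set G) ⊓ D.C) = 3 * Nat.card (S : Subgroup G))
    (h7 : ¬ 7 ∣ Nat.card D.C) {e0 : G} (he0 : e0 ∈ zInv (S : Subgroup G)) (he01 : e0 ≠ 1) (he0i : e0 ≠ D.i) :
    Nat.card (S : Subgroup G) = 8 := by
  classical
  haveI : Fact (Nat.Prime 2) := ⟨Nat.prime_two⟩
  haveI : Fact (Nat.Prime 3) := ⟨Nat.prime_three⟩
  set N := normalizer ((S : Subgroup G) : Set G) with hNdef
  set E := zInv (S : Subgroup G) with hE
  have hiE : D.i ∈ E := ⟨D.i_mem_sylow hS, D.i_sq, fun s hs => D.i_mem_center hS hs⟩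
  obtain ⟨hSmod, hfix⟩ := D.x_fixed S.2 hx (D.i_mem_sylow hS)
  have hEP : IsPGroup 2 E := S.2.to_le fun a ha => ha.1
  have hEmod := (D.x_fixed hEP (zInv_normalized hx) hiE).1
  obtain ⟨m, hm⟩ := IsPGroup.iff_card.1 hEP
  have hcount : (Nat.card E - 1) * (3 * Nat.card (S : Subgroup G)) = Nat.card N := by
    rw [← hN]; exact D.card_zInv_mul S hS
  have hE4 : 2 < Nat.card E := by
    letI : Fintype E := Fintype.ofFinite E
    rw [Nat.card_eq_fintype_card]
    refine lt_of_lt_of_le ?_ (Finset.card_le_univ ({1, ⟨D.i, hiE⟩, ⟨e0, he0⟩} : Finset E))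
    rw [Finset.card_insert_of_notMem, Finset.card_pair]
    · norm_num
    · exact fun e => he0i (congrArg Subtype.val e).symm
    · simp only [Finset.mem_insert, Finset.mem_singleton, Subtype.ext_iff, Subgroup.coe_one]
      rintro (e | e)
      · exact D.i_ne e.symm
      · exact he01 e.symm
  set q := Nat.card E - 1 with hq
  have hq3 : q % 3 = 1 := by omega
  have hqodd : Odd q := by
    rw [hq, hm] at *
    rcases m with - | m
    · simp at hE4
    · exact ⟨2 ^ m - 1, by have := Nat.one_le_two_pow (n := m); rw [pow_succ]; omega⟩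
  -- the quotient
  set S' := (S : Subgroup G).subgroupOf N with hS'
  haveI : S'.Normal := normal_in_normalizer
  have hcardL : Nat.card (↥N ⧸ S') = 3 * q := by
    have h1 := S'.card_mul_index
    rw [Nat.card_congr (subgroupOfEquivOfLe (le_normalizer : (S : Subgroup G) ≤ N)).toEquiv, ← hcount] at h1
    rw [← Subgroup.index_eq_card]
    have hpos : 0 < Nat.card (S : Subgroup G) := Nat.card_pos
    exact Nat.eq_of_mul_eq_mul_left hpos (by rw [h1]; ring)
  letI : CommGroup E := { E.toGroup with mul_comm := fun a c => Subtype.ext (c.2.2.2 a a.2.1) }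
  let f0 : N →* MulAut E :=
    { toFun := fun n => conjAut E (zInv_normalized n.2)
      map_one' := MulEquiv.ext fun p => Subtype.ext (show (1 : G) * p * (1 : G)⁻¹ = p by group)
      map_mul' := fun a c => MulEquiv.ext fun p => Subtype.ext (show ((a * c : N) : G) * p * ((a * c : N) : G)⁻¹ =
        (a : G) * ((c : G) * p * (c : G)⁻¹) * (a : G)⁻¹ by rw [Subgroup.coe_mul]; group) }
  have hker0 : S' ≤ f0.ker := fun s hs => MonoidHom.mem_ker.2 (MulEquiv.ext fun p => Subtype.ext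
    (show (s : G) * p * (s : G)⁻¹ = p from mul_inv_eq_iff_eq_mul.2 (p.2.2.2 _ (mem_subgroupOf.1 hs))))
  let f : ↥N ⧸ S' →* MulAut E := QuotientGroup.lift S' f0 hker0
  have hf : ∀ (n : N) (p : E), ((f (QuotientGroup.mk n)) p : G) = (n : G) * p * (n : G)⁻¹ := fun n p => rfl
  set x' : ↥N ⧸ S' := QuotientGroup.mk (⟨D.x, hx⟩ : N) with hx'
  have hx3 : orderOf x' = 3 := by
    refine orderOf_eq_prime ?_ fun e => ?_
    · rw [hx', ← QuotientGroup.mk_pow]
      exact (QuotientGroup.eq_one_iff _).2 (mem_subgroupOf.2 (by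
        rw [SubmonoidClass.coe_pow, D.x_pow]; exact one_mem _))
    · have hxS : D.x ∈ (S : Subgroup G) := mem_subgroupOf.1 ((QuotientGroup.eq_one_iff _).1 e)
      obtain ⟨k, hk⟩ := IsPGroup.iff_orderOf.1 S.2 ⟨_, hxS⟩
      rw [orderOf_mk, D.ox] at hk
      have := Nat.prime_three.dvd_of_dvd_pow (dvd_of_eq hk)
      norm_num at this
  -- the stabilizer of `i`
  have hstab : ∀ l : ↥N ⧸ S', f l ⟨D.i, hiE⟩ = ⟨D.i, hiE⟩ → l ∈ zpowers x' := by
    intro l hl
    set U := ((N ⊓ D.C).subgroupOf N).map (QuotientGroup.mk' S') with hU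
    have hUx : zpowers x' ≤ U := zpowers_le.2 ⟨⟨D.x, hx⟩, mem_subgroupOf.2 (mem_inf.2 ⟨hx, D.x_mem⟩), rfl⟩
    have hUle : Nat.card U ≤ 3 := by
      have h1 := (U.comap (QuotientGroup.mk' S')).card_mul_index
      rw [index_comap_of_surjective _ (QuotientGroup.mk'_surjective _)] at h1
      have h2 := U.card_mul_index
      have hSle : S' ≤ (N ⊓ D.C).subgroupOf N := fun s hs =>
        mem_subgroupOf.2 (mem_inf.2 ⟨s.2, hS (mem_subgroupOf.1 hs)⟩)
      rw [hU, comap_map_eq_self (by rw [QuotientGroup.ker_mk']; exact hSle),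
        Nat.card_congr (subgroupOfEquivOfLe (inf_le_left : N ⊓ D.C ≤ N)).toEquiv, hN, ← hcount, ← hU] at h1
      rw [hcardL] at h2
      have hidx : 0 < U.index := Nat.pos_of_ne_zero index_ne_zero_of_finite
      have hpos : 0 < Nat.card (S : Subgroup G) := Nat.card_pos
      have h3 : 3 * U.index = 3 * q :=
        Nat.eq_of_mul_eq_mul_left hpos (by linarith)
      exact le_of_eq (Nat.eq_of_mul_eq_mul_right hidx (by rw [h2, h3]))
    have heq : zpowers x' = U := eq_of_le_of_card_ge hUx (by rw [Nat.card_zpowers, hx3]; exact hUle)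
    obtain ⟨n, rfl⟩ := QuotientGroup.mk_surjective l
    have hnC : (n : G) ∈ D.C := D.mem_C.2 (mul_inv_eq_iff_eq_mul.1 ((hf n _).symm.trans (congrArg Subtype.val hl)))
    rw [heq]
    exact ⟨n, mem_subgroupOf.2 (mem_inf.2 ⟨n.2, hnC⟩), rfl⟩
  have hxfix : ∀ p : E, f x' p = p ↔ p = 1 ∨ p = ⟨D.i, hiE⟩ := by
    intro p
    constructor
    · intro e
      have e' : D.x * (p : G) * D.x⁻¹ = p := (hf ⟨D.x, hx⟩ p).symm.trans (congrArg Subtype.val e)
      rcases hfix p p.2.1 (mul_inv_eq_iff_eq_mul.1 e').symm with r | r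
      · exact Or.inl (Subtype.ext r)
      · exact Or.inr (Subtype.ext r)
    · rintro (rfl | rfl)
      · exact map_one _
      · exact Subtype.ext (show D.x * D.i * D.x⁻¹ = D.i by rw [← D.mul_comm_ix, mul_inv_cancel_right])
  have hinj : Function.Injective f := by
    refine (MonoidHom.ker_eq_bot_iff f).1 (eq_bot_iff.2 fun l hl => mem_bot.2 ?_)
    rw [MonoidHom.mem_ker] at hl
    by_contra hl1
    obtain ⟨k, hk⟩ := hstab l (by rw [hl]; rfl)
    have hx1 : f x' = 1 := by
      have hlord : orderOf l = 3 := by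
        refine ((Nat.dvd_prime Nat.prime_three).1 ?_).resolve_left fun e => hl1 (orderOf_eq_one_iff.1 e)
        have hd := Subgroup.orderOf_dvd_natCard (zpowers x') ⟨k, hk⟩
        rwa [Nat.card_zpowers, hx3] at hd
      have heq : zpowers l = zpowers x' := eq_of_le_of_card_ge (zpowers_le.2 ⟨k, hk⟩)
        (by rw [Nat.card_zpowers, Nat.card_zpowers, hlord, hx3])
      obtain ⟨k', hk'⟩ : x' ∈ zpowers l := heq ▸ mem_zpowers x'
      rw [← hk', map_zpow, hl, one_zpow]
    rcases (hxfix ⟨e0, he0⟩).1 (by rw [hx1]; rfl) with r | r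
    · exact he01 (congrArg Subtype.val r)
    · exact he0i (congrArg Subtype.val r)
  have hsc : SC3 x' := ⟨hx3, fun g hg => hstab g (by
    rcases (hxfix (f g ⟨D.i, hiE⟩)).1 (by
      rw [← MulAut.mul_apply, ← map_mul, ← hg, map_mul, MulAut.mul_apply, (hxfix _).2 (Or.inr rfl)]) with r | r
    · exact absurd (congrArg Subtype.val ((f g).map_eq_one_iff.1 r)) D.i_ne
    · exact r)⟩
  -- the complement
  obtain ⟨P, hP⟩ : ∃ P : Sylow 3 (↥N ⧸ S'), zpowers x' ≤ (P : Subgroup (↥N ⧸ S')) :=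
    (IsPGroup.of_card (n := 1) (by rw [Nat.card_zpowers, hx3, pow_one])).exists_le_sylow
  have hPeq : (P : Subgroup (↥N ⧸ S')) = zpowers x' := by
    refine (eq_of_le_of_card_ge hP ?_).symm
    rw [Nat.card_zpowers, hx3]
    obtain ⟨k, hk⟩ := IsPGroup.iff_card.1 P.2
    have hd := card_subgroup_dvd_card (P : Subgroup (↥N ⧸ S'))
    rw [hk, hcardL] at hd
    rw [hk]
    by_contra hlt
    have hk2 : 2 ≤ k := by
      by_contra hk2
      have : 3 ^ k ≤ 3 ^ 1 := Nat.pow_le_pow_right (by norm_num) (show k ≤ 1 by omega)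
      omega
    have h9 : 3 ^ 2 ∣ 3 * q := (pow_dvd_pow 3 hk2).trans hd
    have h3q : 3 ∣ q := Nat.dvd_of_mul_dvd_mul_left (show 0 < 3 by norm_num) (show 3 * 3 ∣ 3 * q by simpa using h9)
    omega
  have hLodd : Odd (Nat.card (↥N ⧸ S')) := by rw [hcardL]; exact (by decide : Odd 3).mul hqodd
  have hPN : normalizer ((P : Subgroup (↥N ⧸ S')) : Set (↥N ⧸ S')) ≤
      centralizer ((P : Subgroup (↥N ⧸ S')) : Set (↥N ⧸ S')) := by
    rw [hPeq]
    intro g hg
    have hx' : g * x' * g⁻¹ ∈ zpowers x' := (mem_normalizer_iff.1 hg x').1 (mem_zpowers x')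
    have hgx : g * x' * g⁻¹ = x' := by
      rcases hsc.mem_zpowers_cases.1 hx' with e | e | e
      · exact absurd (conj_eq_one_iff.1 e) (fun r => by rw [r, orderOf_one] at hx3; omega)
      · exact e
      · exfalso
        have h2 : g * g * x' * (g * g)⁻¹ = x' := by
          calc g * g * x' * (g * g)⁻¹ = g * (g * x' * g⁻¹) * g⁻¹ := by group
            _ = g * x'⁻¹ * g⁻¹ := by rw [e]
            _ = (g * x' * g⁻¹)⁻¹ := by group
            _ = x' := by rw [e, inv_inv]
        obtain ⟨k, hk⟩ := hLodd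
        have hg1 : g ^ (2 * k + 1) = 1 := by rw [← hk]; exact pow_card_eq_one'
        have hgeq : g = (g * g) ^ (k + 1) := by
          rw [← pow_two, ← pow_mul, show 2 * (k + 1) = (2 * k + 1) + 1 by ring, pow_succ, hg1, one_mul]
        have hc : Commute (g * g) x' := mul_inv_eq_iff_eq_mul.1 h2
        have hcg : Commute g x' := hgeq ▸ hc.pow_left (k + 1)
        rw [mul_inv_eq_iff_eq_mul.2 hcg.eq] at e
        have h4 : x' * x' = 1 := by nth_rewrite 1 [e]; exact inv_mul_cancel x'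
        have := orderOf_dvd_of_pow_eq_one (x := x') (n := 2) (by rw [pow_two, h4])
        rw [hx3] at this
        norm_num at this
    refine mem_centralizer_iff.2 fun p hp => ?_
    obtain ⟨k, rfl⟩ := hp
    exact ((show Commute g x' from mul_inv_eq_iff_eq_mul.1 hgx).zpow_right k).eq.symm
  set M := (MonoidHom.transferSylow P hPN).ker with hM
  have hMc := MonoidHom.ker_transferSylow_isComplement' P hPN
  have hMcard : Nat.card M = q := by
    have h1 := hMc.card_mul
    rw [← hM, hPeq, Nat.card_zpowers, hx3, hcardL] at h1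
    omega
  have hM3 : ¬ 3 ∣ Nat.card M := by rw [hMcard]; omega
  haveI hMn : M.Normal := MonoidHom.normal_ker _
  haveI hMnil : Group.IsNilpotent M := hsc.isNilpotent (by rw [normalizer_eq_top]; exact mem_top _) hM3
  haveI : Nontrivial M := Finite.one_lt_card_iff_nontrivial.1 (by omega)
  have hMx : ∀ z ∈ M, z ∈ zpowers x' → z = 1 := by
    intro z hz hzx
    have h1 := hMc.disjoint.le_bot (show z ∈ M ⊓ (P : Subgroup (↥N ⧸ S')) from ⟨hz, hPeq.symm ▸ hzx⟩)
    exact mem_bot.1 h1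
  -- transitivity
  have htrans : ∀ v : E, v ≠ 1 → ∃ z ∈ M, f z ⟨D.i, hiE⟩ = v := by
    let φ : M → {v : E // v ≠ 1} := fun z => ⟨f z ⟨D.i, hiE⟩, fun e =>
      D.i_ne (congrArg Subtype.val ((f z).map_eq_one_iff.1 e))⟩
    have hφ : Function.Injective φ := by
      intro a c e
      have e' : f (a : ↥N ⧸ S') ⟨D.i, hiE⟩ = f (c : ↥N ⧸ S') ⟨D.i, hiE⟩ := congrArg Subtype.val e
      have h1 := hMx _ (mul_mem (inv_mem c.2) a.2) (hstab _ (by
        rw [map_mul, map_inv, MulAut.mul_apply, e']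
        exact (f (c : ↥N ⧸ S')).symm_apply_apply _))
      exact Subtype.ext (inv_mul_eq_one.1 h1).symm
    letI : Fintype E := Fintype.ofFinite E
    have hX : Nat.card {v : E // v ≠ 1} = q := by
      rw [Nat.card_eq_fintype_card, Fintype.card_subtype_compl, Fintype.card_subtype_eq, hq,
        Nat.card_eq_fintype_card]
    intro v hv
    obtain ⟨z, hz⟩ := ((Nat.bijective_iff_injective_and_card φ).2 ⟨hφ, hMcard.trans hX.symm⟩).2 ⟨v, hv⟩
    exact ⟨z, z.2, congrArg Subtype.val hz⟩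
  set A := (center M).map (f.comp M.subtype) with hA
  have hZne : center M ≠ ⊥ := Group.IsNilpotent.center_ne_bot _
  have hAne : A ≠ ⊥ := fun e => hZne ((map_eq_bot_iff_of_injective _
    (hinj.comp M.subtype_injective : Function.Injective (f.comp M.subtype))).1 e)
  have hφ3 : f x' ^ 3 = 1 := by rw [← map_pow, ← hx3, pow_orderOf_eq_one, map_one]
  have hAcard := Frob.card_eq (fun v : E => Subtype.ext v.2.2.1) A (f x') hφ3 (by
      rintro _ ⟨z, hz, rfl⟩
      refine ⟨⟨x' * z * x'⁻¹, hMn.conj_mem _ z.2 _⟩, mem_center_iff.2 fun c => Subtype.ext ?_, ?_⟩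
      · have h1 : x'⁻¹ * (c : ↥N ⧸ S') * x' ∈ M := by simpa using hMn.conj_mem _ c.2 x'⁻¹
        have h2 := conj_comm (g := x') (congrArg Subtype.val (mem_center_iff.1 hz ⟨_, h1⟩))
        simpa [mul_assoc] using h2
      · simp)
    (by
      rintro _ ⟨z, hz, rfl⟩ e
      have h1 : (z : ↥N ⧸ S') * x' = x' * z := hinj (by rw [map_mul, map_mul]; exact e)
      have h2 := hMx z z.2 (hsc.cent _ h1)
      show f (z : ↥N ⧸ S') = 1
      rw [h2, map_one])
    (by
      rintro _ ⟨z, hz, rfl⟩ _ ⟨w, hw, rfl⟩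
      rw [← map_mul, ← map_mul, mem_center_iff.1 hw z])
    (Odd.of_dvd_nat (hMcard.symm ▸ hqodd : Odd (Nat.card M))
      ((card_map_dvd (center M) (f.comp M.subtype)).trans (card_subgroup_dvd_card _)))
    (by
      intro v hv
      by_contra hv1
      refine hAne (eq_bot_iff.2 ?_)
      rintro _ ⟨z, hz, rfl⟩
      obtain ⟨a, ha, hav⟩ := htrans v hv1
      refine mem_bot.2 (MulEquiv.ext fun w => ?_)
      by_cases hw1 : w = 1
      · rw [hw1, map_one]; rfl
      obtain ⟨c, hc, hcw⟩ := htrans w hw1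
      have hzc : ∀ d ∈ M, (z : ↥N ⧸ S') * d = d * z := fun d hd =>
        (congrArg Subtype.val (mem_center_iff.1 hz ⟨d, hd⟩)).symm
      have hzi : f (z : ↥N ⧸ S') ⟨D.i, hiE⟩ = ⟨D.i, hiE⟩ := by
        have h1 := hv _ ⟨z, hz, rfl⟩
        rw [← hav] at h1
        change f (z : ↥N ⧸ S') (f a ⟨D.i, hiE⟩) = f a ⟨D.i, hiE⟩ at h1
        rw [← MulAut.mul_apply, ← map_mul, hzc a ha, map_mul, MulAut.mul_apply] at h1
        exact (f a).injective h1
      show f (z : ↥N ⧸ S') w = w
      rw [← hcw, ← MulAut.mul_apply, ← map_mul, hzc c hc, map_mul, MulAut.mul_apply, hzi])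
    (i := ⟨D.i, hiE⟩) (fun e => D.i_ne (congrArg Subtype.val e)) hxfix hAne
  -- elements of order seven and three
  obtain ⟨k, hk⟩ := IsPGroup.iff_card.1 S.2
  obtain ⟨d, y, hd, hy, hyd⟩ := exists_seven_three (L := N) k (by
    rw [← hcount, ← hk, show q = 7 by omega]; ring)
  rw [← orderOf_coe] at hd hy
  have hyd' : (y : G) * d * (y : G)⁻¹ ∈ zpowers (d : G) := by
    obtain ⟨n, hn⟩ := hyd
    exact ⟨n, by simpa using congrArg Subtype.val hn⟩
  refine (D.card_eq_eight S.2 hSmod hd hy d.2 y.2 hyd' ?_ h7).1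
  intro e
  rcases D.fixed_cases S.2 hy y.2 with ⟨hmod, -⟩ | ⟨-, w, hwS, hw2, hwy, hwfix⟩
  · omega
  have hdy : (d : G) * y = y * d := (mul_inv_eq_iff_eq_mul.1 e).symm
  have hdw : (d : G) * w * (d : G)⁻¹ = w := by
    refine (hwfix _ ((mem_normalizer_iff.1 d.2 w).1 hwS) ?_).resolve_left fun r => ?_
    · have h1 := conj_comm (g := (d : G)) hwy
      rwa [show (d : G) * y * (d : G)⁻¹ = y by rw [hdy, mul_inv_cancel_right]] at h1
    · rw [conj_eq_one_iff.1 r, orderOf_one] at hw2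
      omega
  obtain ⟨g, hg⟩ := D.exists_fused hw2
  refine h7 ?_
  have hdC : g⁻¹ * (d : G) * g ∈ D.C := D.mem_C.2 (by
    have h1 := conj_comm (g := g⁻¹) (mul_inv_eq_iff_eq_mul.1 hdw)
    simp only [inv_inv] at h1
    rwa [show g⁻¹ * w * g = D.i by rw [← hg]; group] at h1)
  rw [← hd, ← orderOf_cj g⁻¹ (d : G), inv_inv]
  exact Subgroup.orderOf_dvd_natCard D.C hdC

/-- A Sylow subgroup normalized by `x` is elementary of order eight. -/
theorem eight_of_normalized (S : Sylow 2 G) (hS : (S : Subgroup G) ≤ D.C)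
    (hx : D.x ∈ normalizer ((S : Subgroup G) : Set G))
    (hN : Nat.card ↥(normalizer ((S : Subgroup G) : Set G) ⊓ D.C) = 3 * Nat.card (S : Subgroup G))
    (h7 : ¬ 7 ∣ Nat.card D.C)
    (hmax : ∀ L : Subgroup G, L ≤ D.C → (S : Subgroup G) ≤ L → ¬ 3 ∣ Nat.card L → L ≤ (S : Subgroup G)) :
    Nat.card (S : Subgroup G) = 8 ∧ zInv (S : Subgroup G) = (S : Subgroup G) := by
  classical
  haveI : Fact (Nat.Prime 2) := ⟨Nat.prime_two⟩
  have hiS := D.i_mem_sylow hS
  obtain ⟨f, hf, hf2, hf1, hfi⟩ : ∃ f ∈ (S : Subgroup G), f * f = 1 ∧ f ≠ 1 ∧ f ≠ D.i := by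
    by_contra hc
    push Not at hc
    have key : ∀ a ∈ (S : Subgroup G), orderOf a = 2 → a = D.i := fun a ha h2 =>
      hc a ha (by rw [← pow_two, ← h2, pow_orderOf_eq_one]) (fun e => by rw [e, orderOf_one] at h2; omega)
    exact D.false_of_unique S fun a ha c hc' ha2 hc2 => (key a ha ha2).trans (key c hc' hc2).symm
  by_cases h8 : Nat.card (S : Subgroup G) = 8
  · exact ⟨h8, D.eight_elementary S.2 hS hx hiS h8 hf hf2 hf1 hfi⟩
  exfalso
  by_cases hE : ∀ a ∈ zInv (S : Subgroup G), a = 1 ∨ a = D.i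
  · obtain ⟨j, hjS, hj2, hj1, hji, hjc⟩ := D.singular S.2 hS hx hiS hf hf2 hf1 hfi
    exact D.false_of_fourPoint (D.fourPoint_of_max S hS hmax hE hjS hj2 hj1 hji hjc) hx
  · push Not at hE
    obtain ⟨e0, he0, he01, he0i⟩ := hE
    exact h8 (D.card_eq_eight_of_zInv S hS hx hN h7 he0 he01 he0i)

/-- The quotient of `C` by a normal 2-group has order divisible by six. -/
theorem false_of_three {T O : Subgroup G} (h : Dec D T O)
    (hc : Nat.card D.C = 3 * (Nat.card T * Nat.card O)) : False := by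
  classical
  haveI : Fact (Nat.Prime 2) := ⟨Nat.prime_two⟩
  haveI : Fact (Nat.Prime 3) := ⟨Nat.prime_three⟩
  haveI := D.simple
  obtain ⟨S, hST⟩ := D.exists_sylow_three h hc
  by_cases hu : ∀ a ∈ T, a * a = 1 → a = 1 ∨ a = D.i
  · have key : ∀ a ∈ (S : Subgroup G), orderOf a = 2 → a = D.i := fun a ha h2 =>
      (hu a (hST ▸ ha) (by rw [← pow_two, ← h2, pow_orderOf_eq_one])).resolve_left fun e => by
        rw [e, orderOf_one] at h2; omega
    exact D.false_of_unique S fun a ha c hc' ha2 hc2 => (key a ha ha2).trans (key c hc' hc2).symm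
  push Not at hu
  obtain ⟨f, hf, hf2, hf1, hfi⟩ := hu
  rw [D.O_eq_bot h hf hf2 hf1 hfi, card_bot, mul_one] at hc
  obtain ⟨k, hk⟩ := IsPGroup.iff_card.1 h.two
  have hS : (S : Subgroup G) ≤ D.C := hST ▸ h.T_le
  have hCN : D.C ≤ normalizer ((S : Subgroup G) : Set G) := by rw [hST]; exact D.x_mem_normalizer h
  have hx := hCN D.x_mem
  have h7 : ¬ 7 ∣ Nat.card D.C := by
    rw [hc, hk]
    intro h7
    rcases (Nat.Prime.dvd_mul (by norm_num)).1 h7 with e | e
    · norm_num at e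
    · have := (by norm_num : Nat.Prime 7).dvd_of_dvd_pow e
      norm_num at this
  obtain ⟨h8, helem⟩ := D.eight_of_normalized S hS hx (by rw [inf_eq_right.2 hCN, hc, hST]) h7
    fun L hL hSL h3 => le_of_eq (eq_of_le_of_card_ge hSL (by
      have hd := card_dvd_of_le hL
      rw [hc] at hd
      rw [hST]
      exact Nat.le_of_dvd Nat.card_pos
        ((Nat.prime_three.coprime_iff_not_dvd.2 h3).symm.dvd_of_dvd_mul_left hd))).symm
  have hmem : ∀ a ∈ (S : Subgroup G), a * a = 1 ∧ ∀ p ∈ (S : Subgroup G), p * a = a * p := fun a ha => by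
    rw [← helem] at ha
    exact ⟨ha.2.1, ha.2.2⟩
  have hEA : Cfsg.IsElementaryAbelian 2 (S : Subgroup G) :=
    ⟨⟨⟨fun a c => Subtype.ext ((hmem c c.2).2 a a.2)⟩⟩, fun a ha => by rw [pow_two]; exact (hmem a ha).1⟩
  have hsolC : Group.IsSolvable D.C := by
    haveI : (T.subgroupOf D.C).Normal := ⟨fun t ht c => h.T_conj _ c.2 _ ht⟩
    haveI : Group.IsNilpotent (T.subgroupOf D.C) :=
      (h.two.of_equiv (subgroupOfEquivOfLe h.T_le).symm).isNilpotent
    have hq : Nat.card (↥D.C ⧸ T.subgroupOf D.C) = 3 := by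
      have h1 := (T.subgroupOf D.C).card_mul_index
      rw [Nat.card_congr (subgroupOfEquivOfLe h.T_le).toEquiv, hc, mul_comm 3] at h1
      exact Nat.eq_of_mul_eq_mul_left Nat.card_pos h1
    haveI : IsCyclic (↥D.C ⧸ T.subgroupOf D.C) := isCyclic_of_prime_card hq
    haveI : Group.IsSolvable (↥D.C ⧸ T.subgroupOf D.C) :=
      Group.isSolvable_of_comm fun a c => (IsCyclic.commGroup.mul_comm a c)
    exact Group.isSolvable_of_ker_le_range (T.subgroupOf D.C).subtype (QuotientGroup.mk' (T.subgroupOf D.C))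
      (by rw [QuotientGroup.ker_mk', range_subtype])
  have hrel := Cfsg.Agent.S3189.result D.nonab S hEA h8 fun t ht => by
    obtain ⟨g, hg⟩ := D.exists_fused ht
    have hmap : D.C.map (MulAut.conj g).toMonoidHom = centralizer ({t} : Set G) := by
      ext p
      rw [mem_map_equiv, MulAut.conj_symm_apply, D.mem_C, mem_centralizer_singleton_iff]
      constructor
      · intro e
        have h1 := conj_comm (g := g) e
        rwa [show g * (g⁻¹ * p * g) * g⁻¹ = p by group, hg] at h1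
      · intro e
        have h1 := conj_comm (g := g⁻¹) e
        simp only [inv_inv] at h1
        rwa [show g⁻¹ * t * g = D.i by rw [← hg]; group] at h1
    haveI := hsolC
    rw [← hmap]
    exact Group.isSolvable_of_surjective
      (f := ((MulEquiv.subgroupMap (MulAut.conj g) D.C).toMonoidHom)) (MulEquiv.surjective _)
  set N := normalizer ((S : Subgroup G) : Set G) with hN
  haveI : ((centralizer ((S : Subgroup G) : Set G)).subgroupOf N).Normal := by
    refine ⟨fun z hz n => mem_subgroupOf.2 (mem_centralizer_iff.2 fun s hs => ?_)⟩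
    have hs' : (n : G)⁻¹ * s * (n : G) ∈ (S : Subgroup G) := by
      have := (mem_normalizer_iff.1 (inv_mem n.2) s).1 hs; rwa [inv_inv] at this
    have h1 := conj_comm (g := (n : G)) (mem_centralizer_iff.1 (mem_subgroupOf.1 hz) _ hs')
    rwa [show (n : G) * ((n : G)⁻¹ * s * n) * (n : G)⁻¹ = s by group] at h1
  set π := QuotientGroup.mk' ((centralizer ((S : Subgroup G) : Set G)).subgroupOf N) with hπ
  have hx1 : π ⟨D.x, hx⟩ = 1 := by
    rw [← orderOf_eq_one_iff]
    refine Nat.eq_one_of_dvd_coprimes (show Nat.Coprime 3 7 by norm_num) ?_ ?_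
    · exact (orderOf_map_dvd π _).trans (by rw [orderOf_mk, D.ox])
    · exact (_root_.orderOf_dvd_natCard _).trans (dvd_of_eq hrel)
  have hxc := mem_centralizer_iff.1 (mem_subgroupOf.1 ((QuotientGroup.eq_one_iff _).1 hx1)) f (hST.symm ▸ hf)
  exact ((D.x_fixed S.2 hx (D.i_mem_sylow hS)).2 f (hST.symm ▸ hf) hxc).elim hf1 hfi

end Ctx

end CfsgLib.SelfCentralSix
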