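import Cfsg.Agent.Lib.SelfCentralSix.ThirtyFinal
import Cfsg.Agent.Lib.SelfCentralSix.OneThree
import Cfsg.Agent.Lib.SelfCentralSix.CaseA
import Cfsg.Agent.Lib.SelfCentralSix.EndKlein
import Cfsg.Agent.Lib.SelfCentralSix.EndOct

/-!
# The nilpotent case
-/

set_option autoImplicit false
set_option linter.style.haveILetI false

namespace CfsgLib.SelfCentralSix

open Subgroup CfsgLib.SelfThree29

universe u

variable {G : Type u} [Group G]

namespace Small

variable [Finite G] {D : Ctx G} {S : Sylow 2 G} {T : Subgroup G} {b : G}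

/-- `T` has only one involution. -/
theorem unique_involution (h : Small D S T b) : ∀ a ∈ T, a * a = 1 → a = 1 ∨ a = D.i := by
  classical
  by_contra hu
  push Not at hu
  obtain ⟨f, hf, hf2, hf1, hfi⟩ := hu
  by_cases hZ : ∀ z ∈ zInv T, z = 1 ∨ z = D.i
  swap
  · push Not at hZ
    obtain ⟨z0, hz0, hz01, hz0i⟩ := hZ
    exact h.no_central hz0 hz01 hz0i
  have hxT := h.normalizer_T D.x_mem
  have h8 : 8 < Nat.card T := by
    have hmod := (D.x_fixed h.two hxT h.i_mem).1
    obtain ⟨k, hk⟩ := h.exists_pow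
    letI : Fintype T := Fintype.ofFinite T
    have h3 : ({1, ⟨D.i, h.i_mem⟩, ⟨f, hf⟩} : Finset T).card ≤ Nat.card T := by
      rw [Nat.card_eq_fintype_card]; exact Finset.card_le_univ _
    rw [Finset.card_insert_of_notMem, Finset.card_pair] at h3
    · by_contra hle
      push Not at hle
      have h8 : Nat.card T = 8 := by
        rw [hk] at h3 hle hmod ⊢
        have hk3 : k ≤ 3 := (Nat.pow_le_pow_iff_right (by norm_num : 1 < 2)).1 (show 2 ^ k ≤ 2 ^ 3 from hle)
        interval_cases k <;> simp_all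
      have he := D.eight_elementary h.two h.T_le hxT h.i_mem h8 hf hf2 hf1 hfi
      exact (hZ f (he.symm ▸ hf)).elim hf1 hfi
    · exact fun e => hfi (congrArg Subtype.val e).symm
    · simp only [Finset.mem_insert, Finset.mem_singleton, Subtype.ext_iff, Subgroup.coe_one]
      rintro (e | e)
      · exact D.i_ne e.symm
      · exact hf1 e.symm
  obtain ⟨j, hjT, hj2, hj1, hji, hjc, hjb⟩ :=
    D.singular_inverter h.two h.T_le h.T_conj h.i_mem h.b_mem h.b_x h.b_sq hf hf2 hf1 hfi
  have h32 := h.card_T h8 hZ (h.fourPoint h8 hZ hjT hj2 hj1 hji hjc hjb) hjT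
  obtain ⟨P, hP, -⟩ := h.exists_thirty h32 hZ hjT hj2 hj1 hji hjc hjb
  exact hP.elim

end Small

namespace Ctx

variable [Finite G] (D : Ctx G)
include D

/-- The nilpotent case. -/
theorem nil_case {M : Subgroup G} (h : NilCase D M) :
    (∃ (F : Type) (_ : Field F) (_ : Fintype F), (Fintype.card F = 11 ∨ Fintype.card F = 13) ∧
        Nonempty (G ≃* Matrix.ProjectiveSpecialLinearGroup (Fin 2) F)) ∨
      (∃ (F : Type) (_ : Field F) (_ : Fintype F), Fintype.card F = 3 ∧
        Nonempty (G ≃* Matrix.ProjectiveSpecialLinearGroup (Fin 3) F)) ∨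
      Cfsg.Spor.IsoM11 G := by
  classical
  obtain ⟨T, O, hd⟩ := D.exists_dec h
  rcases hd.card with hc | ⟨hc, b, hbC, hb, hb2⟩
  · exact (D.false_of_three hd hc).elim
  by_cases hT2 : Nat.card T = 2
  · obtain ⟨S, -, -, -, -, hcard⟩ := D.exists_sylow_six hd hbC hb hb2
    exact Or.inl (D.klein_case S (by rw [hcard, hT2]))
  refine Or.inr (D.oct_case hd hT2 ?_ hc)
  by_contra hu
  push Not at hu
  obtain ⟨f, hf, hf2, hf1, hfi⟩ := hu
  have hO := D.O_eq_bot hd hf hf2 hf1 hfi
  obtain ⟨S, hS⟩ := D.exists_small hd hO hc hbC hb hb2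
  exact (hS.unique_involution f hf hf2).elim hf1 hfi

end Ctx

end CfsgLib.SelfCentralSix
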