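import Cfsg.Agent.Lib.SelfCentralSix.Dec
import Cfsg.Agent.Lib.SelfCentralSix.Singular

/-!
# `C = T⟨x, b⟩` with `T` a 2-group
-/

set_option autoImplicit false
set_option linter.style.haveILetI false

namespace CfsgLib.SelfCentralSix

open Subgroup CfsgLib.SelfThree29

universe u

variable {G : Type u} [Group G]

/-- `C` is `T⟨x, b⟩` and `S = T⟨b⟩`. -/
structure Small (D : Ctx G) (S : Sylow 2 G) (T : Subgroup G) (b : G) : Prop where
  T_le : T ≤ D.C
  T_conj : ∀ c ∈ D.C, ∀ t ∈ T, c * t * c⁻¹ ∈ T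
  two : IsPGroup 2 T
  i_mem : D.i ∈ T
  card : Nat.card D.C = 6 * Nat.card T
  b_mem : b ∈ D.C
  b_x : b * D.x * b⁻¹ = D.x⁻¹
  b_sq : b * b = 1 ∨ b * b = D.i
  S_le : (S : Subgroup G) ≤ D.C
  T_le_S : T ≤ (S : Subgroup G)
  b_mem_S : b ∈ (S : Subgroup G)
  cover : ∀ a ∈ (S : Subgroup G), a ∈ T ∨ a * b⁻¹ ∈ T
  card_S : Nat.card (S : Subgroup G) = 2 * Nat.card T

/-- An element of order three fixes a point on each invariant coset of size prime to three. -/
theorem coset_fixed [Finite G] {K : Subgroup G} {y s : G} (hy : y ^ 3 = 1)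
    (hyK : y ∈ normalizer (K : Set G)) (hmod : Nat.card K % 3 ≠ 0) (hs : s⁻¹ * (y * s * y⁻¹) ∈ K) :
    ∃ v ∈ K, s * v * y = y * (s * v) := by
  classical
  have : Fact (Nat.Prime 3) := ⟨Nat.prime_three⟩
  let f : Function.End K := fun v => ⟨s⁻¹ * (y * (s * v) * y⁻¹), by
    rw [show s⁻¹ * (y * (s * (v : G)) * y⁻¹) = s⁻¹ * (y * s * y⁻¹) * (y * v * y⁻¹) by group]
    exact mul_mem hs ((mem_normalizer_iff.1 hyK _).1 v.2)⟩
  have hf : f ^ 3 ^ 1 = 1 := funext fun v => Subtype.ext (by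
    show s⁻¹ * (y * (s * (s⁻¹ * (y * (s * (s⁻¹ * (y * (s * (v : G)) * y⁻¹))) * y⁻¹))) * y⁻¹) = v
    simp only [mul_inv_cancel_left]
    rw [conj_triple y (s * (v : G)) hy, inv_mul_cancel_left])
  letI : Fintype K := Fintype.ofFinite K
  have h := Equiv.Perm.card_fixedPoints_modEq hf
  rw [← Nat.card_eq_fintype_card, Nat.ModEq] at h
  have hne : Fintype.card (Function.fixedPoints f) ≠ 0 := fun e => by
    rw [e] at h
    exact hmod h
  obtain ⟨v, hv⟩ := Fintype.card_pos_iff.1 (Nat.pos_of_ne_zero hne)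
  refine ⟨v, v.2, ?_⟩
  have h1 : s⁻¹ * (y * (s * (v : G)) * y⁻¹) = v := congrArg Subtype.val hv
  exact (mul_inv_eq_iff_eq_mul.1 (inv_mul_eq_iff_eq_mul.1 h1)).symm

namespace Ctx

variable [Finite G] (D : Ctx G)
include D

theorem exists_small {T O : Subgroup G} (h : Dec D T O) (hO : O = ⊥)
    (hc : Nat.card D.C = 6 * (Nat.card T * Nat.card O)) {b : G} (hbC : b ∈ D.C)
    (hb : b * D.x * b⁻¹ = D.x⁻¹) (hb2 : b * b = 1 ∨ b * b = D.i) : ∃ S, Small D S T b := by
  obtain ⟨S, hSC, hTS, hbS, hcov, hcard⟩ := D.exists_sylow_six h hbC hb hb2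
  refine ⟨S, ⟨h.T_le, h.T_conj, h.two, h.i_mem, ?_, hbC, hb, hb2, hSC, hTS, hbS, hcov, hcard⟩⟩
  rw [hc, hO, card_bot, mul_one]

end Ctx

namespace Small

variable [Finite G] {D : Ctx G} {S : Sylow 2 G} {T : Subgroup G} {b : G} (h : Small D S T b)
include h

omit [Finite G] in
theorem x_notMem' : D.x ∉ T := fun e => by
  obtain ⟨k, hk⟩ := IsPGroup.iff_orderOf.1 h.two ⟨_, e⟩
  rw [orderOf_mk, D.ox] at hk
  have := Nat.prime_three.dvd_of_dvd_pow (dvd_of_eq hk)
  norm_num at this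

theorem normalizer_T : D.C ≤ normalizer (T : Set G) :=
  fun c hc => Subgroup.mem_normalizer_fintype fun t ht => h.T_conj c hc t ht

theorem exists_pow : ∃ k : ℕ, Nat.card T = 2 ^ k := by
  haveI : Fact (Nat.Prime 2) := ⟨Nat.prime_two⟩
  exact IsPGroup.iff_card.1 h.two

theorem not_seven : ¬ 7 ∣ Nat.card D.C := fun h7 => by
  obtain ⟨k, hk⟩ := h.exists_pow
  rw [h.card, hk] at h7
  rcases (Nat.Prime.dvd_mul (by norm_num)).1 h7 with e | e
  · norm_num at e
  · have := (by norm_num : Nat.Prime 7).dvd_of_dvd_pow e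
    norm_num at this

/-- A subgroup of `C` of order prime to three is a 2-group of order at most `|S|`. -/
theorem three_free {K : Subgroup G} (hK : K ≤ D.C) (h3 : ¬ 3 ∣ Nat.card K) :
    IsPGroup 2 K ∧ Nat.card K ≤ Nat.card (S : Subgroup G) := by
  obtain ⟨k, hk⟩ := h.exists_pow
  have hd := card_dvd_of_le hK
  rw [h.card, hk, show 6 * 2 ^ k = 3 * 2 ^ (k + 1) by ring] at hd
  have hd' : Nat.card K ∣ 2 ^ (k + 1) :=
    (Nat.prime_three.coprime_iff_not_dvd.2 h3).symm.dvd_of_dvd_mul_left hd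
  obtain ⟨m, hm, hcard⟩ := (Nat.dvd_prime_pow Nat.prime_two).1 hd'
  refine ⟨IsPGroup.of_card hcard, ?_⟩
  rw [h.card_S, hk, ← pow_succ', hcard]
  exact Nat.pow_le_pow_right two_pos hm

theorem le_S {K : Subgroup G} (hK : K ≤ D.C) (hSK : (S : Subgroup G) ≤ K) (h3 : ¬ 3 ∣ Nat.card K) :
    K ≤ (S : Subgroup G) :=
  le_of_eq (eq_of_le_of_card_ge hSK (h.three_free hK h3).2).symm

/-- A normal `3'`-subgroup of `C` lies in `T`. -/
theorem le_T {K : Subgroup G} (hK : K ≤ D.C) (hn : ∀ c ∈ D.C, ∀ k ∈ K, c * k * c⁻¹ ∈ K)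
    (h3 : ¬ 3 ∣ Nat.card K) : K ≤ T := by
  haveI : Fact (Nat.Prime 2) := ⟨Nat.prime_two⟩
  have hK2 := (h.three_free hK h3).1
  have hn' : D.C ≤ normalizer (K : Set G) := fun c hc => Subgroup.mem_normalizer_fintype fun k hk => hn c hc k hk
  have hKS : IsPGroup 2 ↥((S : Subgroup G) ⊔ K) :=
    IsPGroup.to_sup_of_normal_right' S.2 hK2 (h.S_le.trans hn')
  have hKle : K ≤ (S : Subgroup G) := by
    rw [← S.is_maximal' hKS le_sup_left]; exact le_sup_right
  intro k hk
  refine (h.cover k (hKle hk)).resolve_right fun hkb => ?_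
  -- otherwise `b` lies in `K T`, normal in `C`
  apply h.x_notMem'
  have h1 : (D.x * k * D.x⁻¹) ∈ (S : Subgroup G) := hKle (hn _ D.x_mem k hk)
  have hxT := h.normalizer_T D.x_mem
  set t := k * b⁻¹ with ht
  have hkb' : k = t * b := by rw [ht, inv_mul_cancel_right]
  have e1 : D.x * b * D.x⁻¹ = b * D.x := by
    have h5 : D.x⁻¹ * D.x⁻¹ = D.x := by
      rw [← mul_inv_rev, inv_eq_iff_mul_eq_one, ← pow_three', D.x_pow]
    calc D.x * b * D.x⁻¹ = b * (b⁻¹ * D.x * b) * D.x⁻¹ := by group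
      _ = b * (D.x⁻¹ * D.x⁻¹) := by
          have e2 : b⁻¹ * D.x * b = D.x⁻¹ := by
            have := h.b_x
            rw [mul_inv_eq_iff_eq_mul] at this
            calc b⁻¹ * D.x * b = b⁻¹ * (D.x * b * D.x) * D.x⁻¹ := by group
              _ = b⁻¹ * (D.x * (b * D.x)) * D.x⁻¹ := by rw [mul_assoc D.x b]
              _ = D.x⁻¹ := by rw [this]; group
          rw [e2, mul_assoc]
      _ = b * D.x := by rw [h5]
  rw [hkb', show D.x * (t * b) * D.x⁻¹ = D.x * t * D.x⁻¹ * (D.x * b * D.x⁻¹) by group, e1] at h1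
  have hbt : D.x * t * D.x⁻¹ ∈ (S : Subgroup G) := h.T_le_S ((mem_normalizer_iff.1 hxT t).1 hkb)
  have h6 := (mul_mem_cancel_left hbt).1 h1
  have h7 := (mul_mem_cancel_left h.b_mem_S).1 h6
  rcases h.cover _ h7 with e | e
  · exact e
  · exfalso
    obtain ⟨m, hm⟩ := IsPGroup.iff_orderOf.1 S.2 ⟨_, h7⟩
    rw [orderOf_mk, D.ox] at hm
    have := Nat.prime_three.dvd_of_dvd_pow (dvd_of_eq hm)
    norm_num at this

/-- An involution outside `T` does not centralize half of `T`. -/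
theorem outer {z : G} (hz : z ∈ (S : Subgroup G)) (hzT : z ∉ T) {U : Subgroup G} (hU : U ≤ T)
    (hidx : Nat.card T ≤ 2 * Nat.card U) (hc : ∀ v ∈ U, v * z = z * v) : Nat.card T ≤ 8 := by
  classical
  set U' := U ⊓ U.map (MulAut.conj D.x).toMonoidHom with hU'
  -- the centralizer of `U'` in `C` has an element of order three
  set K := D.C ⊓ centralizer (U' : Set G) with hK
  have hzK : z ∈ K := ⟨h.S_le hz, mem_centralizer_iff.2 fun v hv => hc v hv.1⟩
  have hz'K : D.x * z * D.x⁻¹ ∈ K := by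
    refine mem_inf.2 ⟨mul_mem (mul_mem D.x_mem (h.S_le hz)) (inv_mem D.x_mem), mem_centralizer_iff.2 ?_⟩
    rintro v ⟨-, w, hw, rfl⟩
    exact conj_comm (hc w hw)
  have h3 : 3 ∣ Nat.card K := by
    by_contra h3
    -- all of `K ⊔ T` lies in a Sylow subgroup containing `z` and its conjugate
    haveI : Fact (Nat.Prime 2) := ⟨Nat.prime_two⟩
    have hK2 := (h.three_free inf_le_left h3).1
    have hKT : IsPGroup 2 ↥(K ⊔ T) :=
      IsPGroup.to_sup_of_normal_right' hK2 h.two (inf_le_left.trans (h.normalizer_T))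
    have hle := (h.three_free (sup_le inf_le_left h.T_le) (fun h3' => by
      obtain ⟨m, hm⟩ := IsPGroup.iff_card.1 hKT
      rw [hm] at h3'
      have := Nat.prime_three.dvd_of_dvd_pow h3'
      norm_num at this)).2
    set t := z * b⁻¹ with ht
    have htT : t ∈ T := (h.cover z hz).resolve_left hzT
    have hz' : z = t * b := by rw [ht, inv_mul_cancel_right]
    have hbKT : b ∈ K ⊔ T := by
      have := mul_mem (mem_sup_right (S := K) (inv_mem htT)) (mem_sup_left (T := T) hzK)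
      rwa [hz', inv_mul_cancel_left] at this
    have hS : (S : Subgroup G) = K ⊔ T := by
      refine eq_of_le_of_card_ge (fun a ha => ?_) hle
      rcases h.cover a ha with e | e
      · exact mem_sup_right e
      · have := mul_mem (mem_sup_right (S := K) e) hbKT
        rwa [inv_mul_cancel_right] at this
    have hxz : D.x * z * D.x⁻¹ ∈ (S : Subgroup G) := hS ▸ mem_sup_left hz'K
    apply h.x_notMem'
    have hxT := h.normalizer_T D.x_mem
    rw [hz', show D.x * (t * b) * D.x⁻¹ = D.x * t * D.x⁻¹ * (D.x * b * D.x⁻¹) by group] at hxz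
    have h6 := (mul_mem_cancel_left (h.T_le_S ((mem_normalizer_iff.1 hxT t).1 htT))).1 hxz
    have h7 : D.x * b * D.x⁻¹ * b⁻¹ ∈ (S : Subgroup G) := mul_mem h6 (inv_mem h.b_mem_S)
    rw [show D.x * b * D.x⁻¹ * b⁻¹ = D.x * (b * D.x * b⁻¹)⁻¹ by group, h.b_x, inv_inv] at h7
    exfalso
    obtain ⟨m, hm⟩ := IsPGroup.iff_orderOf.1 S.2 ⟨_, h7⟩
    rw [orderOf_mk, ← sq, orderOf_pow' _ two_ne_zero, D.ox] at hm
    norm_num at hm
    have := Nat.prime_three.dvd_of_dvd_pow (dvd_of_eq hm)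
    norm_num at this
  haveI : Fact (Nat.Prime 3) := ⟨Nat.prime_three⟩
  obtain ⟨y, hy⟩ := exists_prime_orderOf_dvd_card' (G := K) 3 h3
  have hU'2 : IsPGroup 2 U' := h.two.to_le (inf_le_left.trans hU)
  have hle2 := D.card_le_two hU'2 (y := (y : G)) (by rw [orderOf_coe, hy])
    fun p hp => mem_centralizer_iff.1 y.2.2 p hp
  -- `|U'| |T| ≥ |U|²`
  have hmapT : U.map (MulAut.conj D.x).toMonoidHom ≤ T := by
    rintro _ ⟨w, hw, rfl⟩
    exact h.T_conj _ D.x_mem w (hU hw)
  have hcardU : Nat.card ↥(U.map (MulAut.conj D.x).toMonoidHom) = Nat.card U :=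
    card_map_of_injective (MulAut.conj D.x).injective
  have hprod : Nat.card U * Nat.card U ≤ Nat.card T * Nat.card U' := by
    set V := U.map (MulAut.conj D.x).toMonoidHom with hV
    let m : U × V → T := fun p => ⟨(p.1 : G) * p.2, mul_mem (hU p.1.2) (hmapT p.2.2)⟩
    letI : Fintype U := Fintype.ofFinite U
    letI : Fintype V := Fintype.ofFinite V
    letI : Fintype T := Fintype.ofFinite T
    have hfib : ∀ t ∈ (Finset.univ : Finset T), (Finset.univ.filter fun p : U × V => m p = t).card ≤ Nat.card U' := by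
      intro t _
      by_cases hne : (Finset.univ.filter fun p : U × V => m p = t).Nonempty
      · obtain ⟨p0, hp0⟩ := hne
        rw [Finset.mem_filter] at hp0
        rw [← Fintype.card_coe, ← Nat.card_eq_fintype_card]
        refine Nat.card_le_card_of_injective (fun p => ⟨(p0.1 : G)⁻¹ * (p.1.1 : G), mem_inf.2 ⟨mul_mem (inv_mem p0.1.2) p.1.1.2, ?_⟩⟩) ?_
        · have e : (p.1.1 : G) * p.1.2 = (p0.1 : G) * p0.2 :=
            congrArg Subtype.val ((Finset.mem_filter.1 p.2).2.trans hp0.2.symm)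
          have e' : (p0.1 : G)⁻¹ * (p.1.1 : G) = (p0.2 : G) * (p.1.2 : G)⁻¹ := by
            calc (p0.1 : G)⁻¹ * (p.1.1 : G) = (p0.1 : G)⁻¹ * ((p.1.1 : G) * p.1.2) * (p.1.2 : G)⁻¹ := by group
              _ = _ := by rw [e]; group
          rw [e']
          exact mul_mem p0.2.2 (inv_mem p.1.2.2)
        · intro p q e
          have e1 : (p.1.1 : G) = q.1.1 := mul_left_cancel (congrArg Subtype.val e)
          have e2 : (p.1.1 : G) * p.1.2 = (q.1.1 : G) * q.1.2 :=
            congrArg Subtype.val ((Finset.mem_filter.1 p.2).2.trans (Finset.mem_filter.1 q.2).2.symm)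
          rw [e1] at e2
          exact Subtype.ext (Prod.ext (Subtype.ext e1) (Subtype.ext (mul_left_cancel e2)))
      · rw [Finset.not_nonempty_iff_eq_empty.1 hne]
        exact Nat.zero_le _
    have h2 := Finset.card_le_mul_card_image_of_maps_to (s := (Finset.univ : Finset (U × V)))
      (t := Finset.univ) (f := m) (fun _ _ => Finset.mem_univ _) (Nat.card U') hfib
    rw [Finset.card_univ, Fintype.card_prod, Finset.card_univ, ← Nat.card_eq_fintype_card,
      ← Nat.card_eq_fintype_card, ← Nat.card_eq_fintype_card, hcardU] at h2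
    rw [mul_comm (Nat.card T)]
    exact h2
  have h4 : Nat.card T * Nat.card T ≤ 4 * (Nat.card T * 2) :=
    calc Nat.card T * Nat.card T ≤ (2 * Nat.card U) * (2 * Nat.card U) := Nat.mul_le_mul hidx hidx
      _ = 4 * (Nat.card U * Nat.card U) := by ring
      _ ≤ 4 * (Nat.card T * 2) := Nat.mul_le_mul_left 4 (hprod.trans (Nat.mul_le_mul_left _ hle2))
  nlinarith [Nat.card_pos (α := T)]

end Small

end CfsgLib.SelfCentralSix
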