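import Cfsg.Agent.Lib.SelfCentralSix.CaseB

/-!
# `T` of order 32: the quotient `T / ⟨i⟩` and the four group `P / ⟨i⟩`
-/

set_option autoImplicit false
set_option linter.style.haveILetI false

namespace CfsgLib.SelfCentralSix

open Subgroup CfsgLib.SelfThree29

universe u

variable {G : Type u} [Group G]

/-- The product formula, as an inequality. -/
theorem card_mul_le [Finite G] {A B W : Subgroup G} (hA : A ≤ W) (hB : B ≤ W) :
    Nat.card A * Nat.card B ≤ Nat.card W * Nat.card ↥(A ⊓ B) := by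
  classical
  let m : A × B → W := fun p => ⟨(p.1 : G) * p.2, mul_mem (hA p.1.2) (hB p.2.2)⟩
  letI : Fintype A := Fintype.ofFinite A
  letI : Fintype B := Fintype.ofFinite B
  letI : Fintype W := Fintype.ofFinite W
  have hfib : ∀ t ∈ (Finset.univ : Finset W),
      (Finset.univ.filter fun p : A × B => m p = t).card ≤ Nat.card ↥(A ⊓ B) := by
    intro t _
    by_cases hne : (Finset.univ.filter fun p : A × B => m p = t).Nonempty
    · obtain ⟨p0, hp0⟩ := hne
      rw [Finset.mem_filter] at hp0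
      rw [← Fintype.card_coe, ← Nat.card_eq_fintype_card]
      refine Nat.card_le_card_of_injective
        (fun p => ⟨(p0.1 : G)⁻¹ * (p.1.1 : G), mem_inf.2 ⟨mul_mem (inv_mem p0.1.2) p.1.1.2, ?_⟩⟩) ?_
      · have e : (p.1.1 : G) * p.1.2 = (p0.1 : G) * p0.2 :=
          congrArg Subtype.val ((Finset.mem_filter.1 p.2).2.trans hp0.2.symm)
        have e' : (p0.1 : G)⁻¹ * (p.1.1 : G) = (p0.2 : G) * (p.1.2 : G)⁻¹ := by
          calc (p0.1 : G)⁻¹ * (p.1.1 : G) = (p0.1 : G)⁻¹ * ((p.1.1 : G) * p.1.2) * (p.1.2 : G)⁻¹ := by group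
            _ = _ := by rw [e]; group
        rw [e']
        exact mul_mem p0.2.2 (inv_mem p.1.2.2)
      · intro p q e
        have e1 : (p.1.1 : G) = q.1.1 := mul_left_cancel (congrArg Subtype.val e)
        have e2 : (p.1.1 : G) * p.1.2 = (q.1.1 : G) * q.1.2 :=
          congrArg Subtype.val ((Finset.mem_filter.1 p.2).2.trans (Finset.mem_filter.1 q.2).2.symm)
        rw [e1] at e2
        exact Subtype.ext (Prod.ext (Subtype.ext e1) (Subtype.ext (mul_left_cancel e2)))
    · rw [Finset.not_nonempty_iff_eq_empty.1 hne]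
      exact Nat.zero_le _
  have h2 := Finset.card_le_mul_card_image_of_maps_to (s := (Finset.univ : Finset (A × B)))
    (t := Finset.univ) (f := m) (fun _ _ => Finset.mem_univ _) (Nat.card ↥(A ⊓ B)) hfib
  rw [Finset.card_univ, Fintype.card_prod, Finset.card_univ, ← Nat.card_eq_fintype_card,
    ← Nat.card_eq_fintype_card, ← Nat.card_eq_fintype_card] at h2
  rw [mul_comm (Nat.card W)]
  exact h2

/-- A subgroup containing more than half of the order of a 2-group is everything. -/
theorem eq_of_half [Finite G] {K W : Subgroup G} (hKW : K ≤ W) {k : ℕ} (hW : Nat.card W = 2 ^ (k + 1))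
    (h : 2 ^ k < Nat.card K) : K = W := by
  refine eq_of_le_of_card_ge hKW ?_
  obtain ⟨m, hm, hc⟩ := (Nat.dvd_prime_pow Nat.prime_two).1 (hW ▸ card_dvd_of_le hKW)
  rw [hc] at h
  have := (Nat.pow_lt_pow_iff_right (by norm_num : 1 < 2)).1 h
  rw [hW, hc, show m = k + 1 by omega]

/-- The facts about `T` of order 32 and its four group. -/
structure Thirty (D : Ctx G) (S : Sylow 2 G) (T : Subgroup G) (b : G) (P : Subgroup G) : Prop where
  small : Small D S T b
  card : Nat.card T = 32
  center : ∀ z ∈ zInv T, z = 1 ∨ z = D.i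
  comm : ∀ s ∈ T, ∀ t ∈ T, s * t * s⁻¹ = t ∨ s * t * s⁻¹ = t * D.i
  sq : ∀ t ∈ T, t * t = 1 ∨ t * t = D.i
  no_abelian : ∀ A : Subgroup G, A ≤ T → 8 < Nat.card A → (∀ a ∈ A, ∀ c ∈ A, a * c = c * a) → False
  mem : ∀ t, t ∈ P ↔ t ∈ T ∧ (b * t * b⁻¹ = t ∨ b * t * b⁻¹ = t * D.i)
  card_P : Nat.card P = 8
  elem : ∀ p ∈ P, p * p = 1
  inter : ∀ p ∈ P, D.x⁻¹ * p * D.x ∈ P → p = 1 ∨ p = D.i

namespace Small

variable [Finite G] {D : Ctx G} {S : Sylow 2 G} {T : Subgroup G} {b : G}

/-- A 2-element of `C` is conjugate in `C` into `S`. -/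
theorem exists_conj_S (h : Small D S T b) {c : G} (hc : c ∈ D.C) (hc2 : ∃ n, orderOf c = 2 ^ n) :
    ∃ k : Fin 3, D.x ^ (k : ℕ) * c * (D.x ^ (k : ℕ))⁻¹ ∈ (S : Subgroup G) := by
  haveI : Fact (Nat.Prime 2) := ⟨Nat.prime_two⟩
  obtain ⟨n, hn⟩ := hc2
  have hp : IsPGroup 2 (zpowers (⟨c, hc⟩ : D.C)) :=
    IsPGroup.of_card (n := n) (by rw [Nat.card_zpowers, orderOf_mk, hn])
  obtain ⟨Q, hQ⟩ := hp.exists_le_sylow
  obtain ⟨a, ha⟩ := MulAction.exists_smul_eq D.C Q (S.subtype h.S_le)
  have hac : (a : G) * c * (a : G)⁻¹ ∈ (S : Subgroup G) := by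
    have h1 : a * ⟨c, hc⟩ * a⁻¹ ∈ ((a • Q : Sylow 2 D.C) : Subgroup D.C) := by
      rw [Sylow.coe_subgroup_smul]
      exact ⟨⟨c, hc⟩, hQ (mem_zpowers _), rfl⟩
    rw [ha, Sylow.coe_subtype] at h1
    exact mem_subgroupOf.1 h1
  obtain ⟨k, hk⟩ := h.decompose a.2
  refine ⟨k, ?_⟩
  have h2 := mul_mem (mul_mem (inv_mem hk) hac) hk
  rwa [show ((a : G) * (D.x ^ (k : ℕ))⁻¹)⁻¹ * ((a : G) * c * (a : G)⁻¹) * ((a : G) * (D.x ^ (k : ℕ))⁻¹) =
    D.x ^ (k : ℕ) * c * (D.x ^ (k : ℕ))⁻¹ by group] at h2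

set_option maxHeartbeats 4000000 in
theorem exists_thirty (h : Small D S T b) (h32 : Nat.card T = 32) (hZ : ∀ z ∈ zInv T, z = 1 ∨ z = D.i)
    {j : G} (hjT : j ∈ T) (hj2 : j * j = 1) (hj1 : j ≠ 1) (hji : j ≠ D.i)
    (hjc : ∀ t ∈ T, t * j * t⁻¹ = j ∨ t * j * t⁻¹ = j * D.i)
    (hjb : b * j * b⁻¹ = j ∨ b * j * b⁻¹ = j * D.i) : ∃ P, Thirty D S T b P ∧ j ∈ P := by
  classical
  haveI : Fact (Nat.Prime 2) := ⟨Nat.prime_two⟩
  have hic : ∀ t ∈ T, t * D.i = D.i * t := fun t ht => D.mem_C.1 (h.T_le ht)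
  have hiT := h.i_mem
  have hci : ∀ t ∈ T, t * D.i * t⁻¹ = D.i := fun t ht => D.conj_i (h.T_le ht)
  have hxT := h.normalizer_T D.x_mem
  obtain ⟨-, hfixT⟩ := D.x_fixed h.two hxT hiT
  have hxi : D.x * D.i * D.x⁻¹ = D.i := by rw [← D.mul_comm_ix, mul_inv_cancel_right]
  set j1 := D.x * j * D.x⁻¹ with hj1d
  set j2 := D.x * j1 * D.x⁻¹ with hj2d
  have hj1T : j1 ∈ T := (mem_normalizer_iff.1 hxT j).1 hjT
  -- commutative modulo `i`
  have hcomm : ∀ s ∈ T, ∀ t ∈ T, s * t * s⁻¹ = t ∨ s * t * s⁻¹ = t * D.i := by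
    let U : Subgroup G :=
      { carrier := {t | t ∈ T ∧ ∀ s ∈ T, s * t * s⁻¹ = t ∨ s * t * s⁻¹ = t * D.i}
        one_mem' := ⟨one_mem T, fun s _ => Or.inl (by group)⟩
        mul_mem' := by
          rintro a c ⟨ha, ha'⟩ ⟨hc, hc'⟩
          refine ⟨mul_mem ha hc, fun s hs => ?_⟩
          rw [show s * (a * c) * s⁻¹ = s * a * s⁻¹ * (s * c * s⁻¹) by group]
          rcases ha' s hs with e | e <;> rcases hc' s hs with e' | e' <;> rw [e, e']
          · exact Or.inl rfl
          · right; rw [mul_assoc]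
          · right; rw [mul_assoc a D.i c, ← hic c hc, ← mul_assoc]
          · left
            rw [show a * D.i * (c * D.i) = a * (D.i * c) * D.i by group, ← hic c hc,
              show a * (c * D.i) * D.i = a * c * (D.i * D.i) by group, D.i_sq, mul_one]
        inv_mem' := by
          rintro a ⟨ha, ha'⟩
          refine ⟨inv_mem ha, fun s hs => ?_⟩
          rw [show s * a⁻¹ * s⁻¹ = (s * a * s⁻¹)⁻¹ by group]
          rcases ha' s hs with e | e <;> rw [e]
          · exact Or.inl rfl
          · right; rw [mul_inv_rev, D.i_inv, ← hic a⁻¹ (inv_mem ha)] }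
    have hUT : U ≤ T := fun t ht => ht.1
    have hiU : D.i ∈ U := ⟨hiT, fun s hs => Or.inl (hci s hs)⟩
    have hjU : j ∈ U := ⟨hjT, hjc⟩
    have hUx' : ∀ t ∈ U, D.x * t * D.x⁻¹ ∈ U := by
      rintro t ⟨ht, ht'⟩
      refine ⟨(mem_normalizer_iff.1 hxT t).1 ht, fun s hs => ?_⟩
      have hs' : D.x⁻¹ * s * D.x ∈ T := by
        have := (mem_normalizer_iff.1 (inv_mem hxT) s).1 hs; rwa [inv_inv] at this
      rw [show s * (D.x * t * D.x⁻¹) * s⁻¹ = D.x * ((D.x⁻¹ * s * D.x) * t * (D.x⁻¹ * s * D.x)⁻¹) * D.x⁻¹ by group]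
      rcases ht' _ hs' with e | e <;> rw [e]
      · exact Or.inl rfl
      · right
        rw [show D.x * (t * D.i) * D.x⁻¹ = D.x * t * D.x⁻¹ * (D.x * D.i * D.x⁻¹) by group, hxi]
    have hUx : D.x ∈ normalizer (U : Set G) := Subgroup.mem_normalizer_fintype hUx'
    have hUmod := (D.x_fixed (h.two.to_le hUT) hUx hiU).1
    intro s hs t ht
    by_contra hc
    have htU : t ∉ U := fun e => hc (e.2 s hs)
    set t1 := D.x * t * D.x⁻¹ with ht1
    have ht1T : t1 ∈ T := (mem_normalizer_iff.1 hxT t).1 ht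
    have hC8 : 8 ≤ Nat.card U := by
      letI : Fintype U := Fintype.ofFinite U
      have h3 : ({1, ⟨D.i, hiU⟩, ⟨j, hjU⟩} : Finset U).card ≤ Nat.card U := by
        rw [Nat.card_eq_fintype_card]; exact Finset.card_le_univ _
      rw [Finset.card_insert_of_notMem, Finset.card_pair] at h3
      · obtain ⟨m, hm⟩ := IsPGroup.iff_card.1 (h.two.to_le hUT)
        rw [hm] at h3 hUmod ⊢
        by_contra h8
        have : m < 3 := (Nat.pow_lt_pow_iff_right (by norm_num : 1 < 2)).1 (show 2 ^ m < 2 ^ 3 by simpa using h8)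
        interval_cases m <;> omega
      · exact fun e => hji (congrArg Subtype.val e).symm
      · simp only [Finset.mem_insert, Finset.mem_singleton, Subtype.ext_iff, Subgroup.coe_one]
        rintro (e | e)
        · exact D.i_ne e.symm
        · exact hj1 e.symm
    let K : Subgroup G :=
      { carrier := {v | v ∈ T ∧ (t * v * t⁻¹ = v ∨ t * v * t⁻¹ = v * D.i)}
        one_mem' := ⟨one_mem T, Or.inl (by group)⟩
        mul_mem' := by
          rintro a c ⟨ha, ha'⟩ ⟨hc, hc'⟩
          refine ⟨mul_mem ha hc, ?_⟩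
          rw [show t * (a * c) * t⁻¹ = t * a * t⁻¹ * (t * c * t⁻¹) by group]
          rcases ha' with e | e <;> rcases hc' with e' | e' <;> rw [e, e']
          · exact Or.inl rfl
          · right; rw [mul_assoc]
          · right; rw [mul_assoc a D.i c, ← hic c hc, ← mul_assoc]
          · left
            rw [show a * D.i * (c * D.i) = a * (D.i * c) * D.i by group, ← hic c hc,
              show a * (c * D.i) * D.i = a * c * (D.i * D.i) by group, D.i_sq, mul_one]
        inv_mem' := by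
          rintro a ⟨ha, ha'⟩
          refine ⟨inv_mem ha, ?_⟩
          rw [show t * a⁻¹ * t⁻¹ = (t * a * t⁻¹)⁻¹ by group]
          rcases ha' with e | e <;> rw [e]
          · exact Or.inl rfl
          · right; rw [mul_inv_rev, D.i_inv, ← hic a⁻¹ (inv_mem ha)] }
    have hUK : U ≤ K := fun v hv => ⟨hv.1, hv.2 t ht⟩
    have htK : t ∈ K := ⟨ht, Or.inl (by group)⟩
    have ht1K : t1 ∈ K := by
      refine ⟨ht1T, ?_⟩
      rcases (three_mod hxT D.x_pow hiT D.i_sq hic D.mul_comm_ix hfixT ht).2 with e | e <;> rw [← ht1] at e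
      · exact Or.inl (mul_inv_eq_iff_eq_mul.2 e)
      · right
        rw [mul_inv_eq_iff_eq_mul, e, mul_assoc t1 t, hic t ht, ← mul_assoc]
    have ht1U : t1 ∉ U := fun e => htU (by
      have h2 := hUx' _ (hUx' _ e)
      rwa [ht1, conj_triple D.x t D.x_pow] at h2)
    have htt : t⁻¹ * t1 ∉ U := fun e => by
      obtain ⟨v, hv, hvc⟩ := coset_fixed D.x_pow hUx (by rw [hUmod]; norm_num) (s := t) e
      rcases hfixT _ (mul_mem ht (hUT hv)) hvc with q | q
      · exact htU (by rw [eq_inv_of_mul_eq_one_left q]; exact inv_mem hv)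
      · exact htU (by rw [show t = t * v * v⁻¹ by group, q]; exact mul_mem hiU (inv_mem hv))
    have hKT : K = T := by
      refine eq_of_half (fun v hv => hv.1) (k := 4) (by rw [h32]; norm_num) ?_
      let m : Fin 3 × U → K := fun p => ⟨![1, t, t1] p.1 * p.2, mul_mem (by
        have hq := p.1
        match hq, p.1 with
        | _, 0 => exact one_mem K
        | _, 1 => exact htK
        | _, 2 => exact ht1K) (hUK p.2.2)⟩
      have hm : Function.Injective m := by
        rintro ⟨k, v⟩ ⟨l, w⟩ e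
        have e' : ![1, t, t1] k * (v : G) = ![1, t, t1] l * w := congrArg Subtype.val e
        have hz : (![1, t, t1] l)⁻¹ * ![1, t, t1] k ∈ U := by
          have : (![1, t, t1] l)⁻¹ * ![1, t, t1] k = (w : G) * (v : G)⁻¹ := by
            rw [eq_mul_inv_iff_mul_eq, mul_assoc, e', inv_mul_cancel_left]
          rw [this]; exact mul_mem w.2 (inv_mem v.2)
        have hkl : k = l := by
          fin_cases k <;> fin_cases l <;>
            simp only [Fin.zero_eta, Fin.mk_one, Fin.reduceFinMk, Matrix.cons_val_zero, Matrix.cons_val_one,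
              Matrix.cons_val, inv_one, one_mul, mul_one] at hz <;> first
              | rfl
              | exact absurd hz htU
              | exact absurd (inv_mem_iff.1 hz) htU
              | exact absurd hz ht1U
              | exact absurd (inv_mem_iff.1 hz) ht1U
              | exact absurd hz htt
              | exact absurd (by have := inv_mem hz; rwa [mul_inv_rev, inv_inv] at this) htt
        subst hkl
        exact Prod.ext rfl (Subtype.ext (mul_left_cancel e'))
      have h2 := Nat.card_le_card_of_injective m hm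
      rw [Nat.card_prod, Nat.card_fin] at h2
      omega
    have hsK : s ∈ K := hKT.symm ▸ hs
    refine hc ?_
    rcases hsK.2 with e | e
    · exact Or.inl (mul_inv_eq_iff_eq_mul.2 (mul_inv_eq_iff_eq_mul.1 e).symm)
    · right
      have e' : t * s = s * D.i * t := mul_inv_eq_iff_eq_mul.1 e
      have h5 : t * s * D.i = s * t := by
        rw [e', mul_assoc s D.i t, ← hic t ht, mul_assoc, mul_assoc t, D.i_sq, mul_one]
      calc s * t * s⁻¹ = t * (s * D.i * s⁻¹) := by rw [← h5]; group
        _ = _ := by rw [hci s hs]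
  -- squares
  have hcen : ∀ z ∈ T, (∀ s ∈ T, s * z = z * s) → z = 1 ∨ z = D.i := by
    intro z hz hzc
    by_contra hne
    push Not at hne
    set Zc := T ⊓ centralizer (T : Set G) with hZc
    have hzZ : z ∈ Zc := mem_inf.2 ⟨hz, mem_centralizer_iff.2 hzc⟩
    have hiZ : D.i ∈ Zc := mem_inf.2 ⟨hiT, mem_centralizer_iff.2 hic⟩
    obtain ⟨r, hr, hr1, hri, hrsq, -⟩ := D.exists_mod_central h.two h.T_le inf_le_left hiZ (fun p hp r hr => by
      rw [← (mem_centralizer_iff.1 (mem_inf.1 hr).2 p hp).symm, mul_inv_cancel_right] <;> exact hr) hzZ hne.1 hne.2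
    obtain ⟨hrT, hrc⟩ := mem_inf.1 hr
    rw [mem_centralizer_iff] at hrc
    rcases hrsq with e | e
    · exact (hZ r ⟨hrT, e, hrc⟩).elim hr1 hri
    set r1 := D.x * r * D.x⁻¹ with hr1d
    have hr1T : r1 ∈ T := (mem_normalizer_iff.1 hxT r).1 hrT
    have hr1sq : r1 * r1 = D.i := by
      rw [hr1d, show D.x * r * D.x⁻¹ * (D.x * r * D.x⁻¹) = D.x * (r * r) * D.x⁻¹ by group, e, hxi]
    have hr1c : ∀ s ∈ T, s * r1 = r1 * s := by
      intro s hs
      have hs' : D.x⁻¹ * s * D.x ∈ T := by
        have := (mem_normalizer_iff.1 (inv_mem hxT) s).1 hs; rwa [inv_inv] at this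
      have h1 := conj_comm (g := D.x) (hrc _ hs')
      rwa [show D.x * (D.x⁻¹ * s * D.x) * D.x⁻¹ = s by group] at h1
    have hsq1 : r * r1 * (r * r1) = 1 := by
      rw [show r * r1 * (r * r1) = r * (r1 * r) * r1 by group, ← hr1c r hrT,
        show r * (r * r1) * r1 = r * r * (r1 * r1) by group, e, hr1sq, D.i_sq]
    have hrinv : r⁻¹ = r * D.i := inv_eq_of_mul_eq_one_right (by rw [← mul_assoc, e, D.i_sq])
    rcases hZ _ ⟨mul_mem hrT hr1T, hsq1, fun s hs => by
      rw [← mul_assoc, hrc s hs, mul_assoc, hr1c s hs, ← mul_assoc]⟩ with q | q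
    · have e1 : r1 = r * D.i := by rw [← hrinv]; exact (inv_eq_of_mul_eq_one_right q).symm
      have h1 := conj_triple D.x r D.x_pow
      have hm : ∀ w, D.x * (w * D.i) * D.x⁻¹ = D.x * w * D.x⁻¹ * D.i := fun w => by
        rw [show D.x * (w * D.i) * D.x⁻¹ = D.x * w * D.x⁻¹ * (D.x * D.i * D.x⁻¹) by group, hxi]
      rw [← hr1d, e1, hm, ← hr1d, e1, mul_assoc r, D.i_sq, mul_one, ← hr1d, e1] at h1
      exact D.i_ne (mul_eq_left.1 h1)
    · have e1 : r1 = r := by
        rw [show r1 = r⁻¹ * (r * r1) by group, q, hrinv, mul_assoc, D.i_sq, mul_one]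
      exact (hfixT r hrT (mul_inv_eq_iff_eq_mul.1 e1).symm).elim hr1 hri
  have hsq : ∀ t ∈ T, t * t = 1 ∨ t * t = D.i := fun t ht => hcen _ (mul_mem ht ht) fun s hs => by
    refine mul_inv_eq_iff_eq_mul.1 ?_
    rw [show s * (t * t) * s⁻¹ = s * t * s⁻¹ * (s * t * s⁻¹) by group]
    rcases hcomm s hs t ht with e | e <;> rw [e]
    rw [show t * D.i * (t * D.i) = t * (D.i * t) * D.i by group, ← hic t ht,
      show t * (t * D.i) * D.i = t * t * (D.i * D.i) by group, D.i_sq, mul_one]
  have hinv' : ∀ t ∈ T, t⁻¹ = t ∨ t⁻¹ = t * D.i := fun t ht => by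
    rcases hsq t ht with e | e
    · exact Or.inl (inv_eq_of_mul_eq_one_right e)
    · exact Or.inr (inv_eq_of_mul_eq_one_right (by rw [← mul_assoc, e, D.i_sq]))
  -- no large abelian subgroup
  have hnoab : ∀ A : Subgroup G, A ≤ T → 8 < Nat.card A → (∀ a ∈ A, ∀ c ∈ A, a * c = c * a) → False := by
    intro A hAT hA8 hAc
    obtain ⟨t, htT, htA⟩ : ∃ t ∈ T, t ∉ A := by
      by_contra hc
      push Not at hc
      exact (hZ j ⟨hjT, hj2, fun s hs => hAc s (hc s hs) j (hc j hjT)⟩).elim hj1 hji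
    have key : ∀ a ∈ A, t * a = a * t → a = 1 ∨ a = D.i := by
      intro a ha hta
      refine hcen a (hAT ha) fun s hs => ?_
      set Ca := T ⊓ centralizer ({a} : Set G) with hCa
      have hACa : A ≤ Ca := fun c hc => mem_inf.2 ⟨hAT hc, mem_centralizer_singleton_iff.2 (hAc c hc a ha)⟩
      have htCa : t ∈ Ca := mem_inf.2 ⟨htT, mem_centralizer_singleton_iff.2 hta⟩
      have hlt : A < Ca := lt_of_le_of_ne hACa fun e => htA (e ▸ htCa)
      have h16 : 16 < Nat.card Ca := by
        obtain ⟨q, hq⟩ := card_dvd_of_le hACa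
        have hne : Nat.card Ca ≠ Nat.card A := fun e => hlt.ne (eq_of_le_of_card_ge hACa e.le)
        rcases q with - | q
        · have := Nat.card_pos (α := Ca)
          omega
        rcases q with - | q
        · omega
        · nlinarith
      have hCT : Ca = T := eq_of_half inf_le_left (k := 4) (by rw [h32]; norm_num) (by simpa using h16)
      exact mem_centralizer_singleton_iff.1 (mem_inf.1 (hCT.symm ▸ hs : s ∈ Ca)).2
    obtain ⟨a, ha, c, hc, hab⟩ : ∃ a ∈ A, ∃ c ∈ A, ∀ w ∈ ({a, c, a * c} : Finset G), w ≠ 1 ∧ w ≠ D.i := by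
      letI : Fintype A := Fintype.ofFinite A
      rw [Nat.card_eq_fintype_card] at hA8
      obtain ⟨a, ha⟩ : ∃ a : A, a ∉ (Finset.univ.filter fun a : A => (a : G) = 1 ∨ (a : G) = D.i) := by
        by_contra hall
        push Not at hall
        have hle : Fintype.card A ≤ 2 := by
          rw [← Nat.card_eq_fintype_card]
          refine (Nat.card_le_card_of_injective (fun q : A => (q : G) == D.i) ?_).trans (by simp)
          intro p q e
          simp only [beq_eq_beq] at e
          refine Subtype.ext ?_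
          rcases (Finset.mem_filter.1 (hall p)).2 with hp | hp <;> rcases (Finset.mem_filter.1 (hall q)).2 with hq | hq
          · rw [hp, hq]
          · exact (e.2 hq).trans hq.symm
          · exact hp.trans (e.1 hp).symm
          · rw [hp, hq]
        omega
      rw [Finset.mem_filter] at ha
      push Not at ha
      obtain ⟨ha1, hai⟩ := ha (Finset.mem_univ _)
      obtain ⟨c, hc⟩ : ∃ c : A, ∀ e, e = 1 ∨ e = D.i ∨ e = (a : G) ∨ e = (a : G) * D.i → (c : G) ≠ e := by
        by_contra hall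
        push Not at hall
        have hle : Fintype.card A ≤ 4 := by
          let L : Finset G := {1, D.i, (a : G), (a : G) * D.i}
          rw [← Nat.card_eq_fintype_card]
          refine (Nat.card_le_card_of_injective (β := L) (fun q : A => ⟨(q : G), by
            obtain ⟨e, he, hqe⟩ := hall q
            rw [hqe]
            simpa [L] using he⟩) fun p q e => Subtype.ext (congrArg (fun r : L => (r : G)) e :)).trans ?_
          rw [Nat.card_eq_fintype_card, Fintype.card_coe]
          exact Finset.card_le_four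
        omega
      refine ⟨a, a.2, c, c.2, fun w hw => ?_⟩
      simp only [Finset.mem_insert, Finset.mem_singleton] at hw
      rcases hw with rfl | rfl | rfl
      · exact ⟨ha1, hai⟩
      · exact ⟨hc 1 (Or.inl rfl), hc _ (Or.inr (Or.inl rfl))⟩
      · constructor <;> intro e
        · rcases hinv' _ (hAT a.2) with q | q
          · exact hc _ (Or.inr (Or.inr (Or.inl rfl))) ((inv_eq_of_mul_eq_one_right e).symm.trans q)
          · exact hc _ (Or.inr (Or.inr (Or.inr rfl))) ((inv_eq_of_mul_eq_one_right e).symm.trans q)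
        · have e' : (c : G) = (a : G)⁻¹ * D.i := by rw [← e]; group
          rcases hinv' _ (hAT a.2) with q | q <;> rw [q] at e'
          · exact hc _ (Or.inr (Or.inr (Or.inr rfl))) e'
          · rw [mul_assoc, D.i_sq, mul_one] at e'
            exact hc _ (Or.inr (Or.inr (Or.inl rfl))) e'
    have h1 := hcomm t htT a (hAT ha)
    have h2 := hcomm t htT c (hAT hc)
    rcases h1 with e | e
    · obtain ⟨q1, q2⟩ := hab a (by simp)
      exact (key a ha (mul_inv_eq_iff_eq_mul.1 e)).elim q1 q2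
    rcases h2 with e' | e'
    · obtain ⟨q1, q2⟩ := hab c (by simp)
      exact (key c hc (mul_inv_eq_iff_eq_mul.1 e')).elim q1 q2
    obtain ⟨q1, q2⟩ := hab (a * c) (by simp)
    refine (key (a * c) (mul_mem ha hc) (mul_inv_eq_iff_eq_mul.1 ?_)).elim q1 q2
    rw [show t * (a * c) * t⁻¹ = t * a * t⁻¹ * (t * c * t⁻¹) by group, e, e',
      show a * D.i * (c * D.i) = a * (D.i * c) * D.i by group, ← hic c (hAT hc),
      show a * (c * D.i) * D.i = a * c * (D.i * D.i) by group, D.i_sq, mul_one]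
  -- centralizers in `T` have order 16
  have h16 : ∀ k ∈ T, k ≠ 1 → k ≠ D.i → Nat.card ↥(T ⊓ centralizer ({k} : Set G)) = 16 := by
    intro k hk hk1 hki
    obtain ⟨s, hs, hsk⟩ : ∃ s ∈ T, ¬ s * k = k * s := by
      by_contra hc
      push Not at hc
      exact (hcen k hk hc).elim hk1 hki
    have h2 := card_eq_two_mul (Q := T ⊓ centralizer ({k} : Set G)) inf_le_left hs
      (fun e => hsk (mem_centralizer_singleton_iff.1 (mem_inf.1 e).2)) (fun v hv => by
        rcases hcomm v hv k hk with e | e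
        · exact Or.inl (mem_inf.2 ⟨hv, mem_centralizer_singleton_iff.2 (mul_inv_eq_iff_eq_mul.1 e)⟩)
        · refine Or.inr (mem_inf.2 ⟨mul_mem hv hs, mem_centralizer_singleton_iff.2 (mul_inv_eq_iff_eq_mul.1 ?_)⟩)
          have hs' : s * k * s⁻¹ = k * D.i :=
            (hcomm s hs k hk).resolve_left fun q => hsk (mul_inv_eq_iff_eq_mul.1 q)
          rw [show v * s * k * (v * s)⁻¹ = v * (s * k * s⁻¹) * v⁻¹ by group, hs',
            show v * (k * D.i) * v⁻¹ = v * k * v⁻¹ * (v * D.i * v⁻¹) by group, e, hci v hv, mul_assoc, D.i_sq,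
            mul_one])
    rw [h32] at h2
    omega
  -- some translate of an involution is fixed by `b`
  have hout : ∀ k ∈ T, k * k = 1 → k ≠ 1 → k ≠ D.i → ∃ m : Fin 3,
      b * (D.x ^ (m : ℕ) * k * (D.x ^ (m : ℕ))⁻¹) * b⁻¹ = D.x ^ (m : ℕ) * k * (D.x ^ (m : ℕ))⁻¹ ∨
        b * (D.x ^ (m : ℕ) * k * (D.x ^ (m : ℕ))⁻¹) * b⁻¹ = D.x ^ (m : ℕ) * k * (D.x ^ (m : ℕ))⁻¹ * D.i := by
    intro k hkT hk2 hk1 hki
    set K := D.C ⊓ centralizer ({k} : Set G) with hK
    have hK3 : ¬ 3 ∣ Nat.card K := by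
      intro h3
      haveI : Fact (Nat.Prime 3) := ⟨Nat.prime_three⟩
      obtain ⟨y, hy⟩ := exists_prime_orderOf_dvd_card' (G := K) 3 h3
      set P0 := T ⊓ centralizer ({(y : G)} : Set G) with hP0
      have hle := D.card_le_two (P := P0) (h.two.to_le inf_le_left) (y := (y : G))
        (by rw [orderOf_coe, hy]) fun p hp => mem_centralizer_singleton_iff.1 (mem_inf.1 hp).2
      have hiP : D.i ∈ P0 := mem_inf.2 ⟨hiT, mem_centralizer_singleton_iff.2 (D.mem_C.1 (mem_inf.1 y.2).1).symm⟩
      have hkP : k ∈ P0 :=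
        mem_inf.2 ⟨hkT, mem_centralizer_singleton_iff.2 (mem_centralizer_singleton_iff.1 (mem_inf.1 y.2).2).symm⟩
      letI : Fintype P0 := Fintype.ofFinite P0
      rw [Nat.card_eq_fintype_card] at hle
      have h3' : ({1, ⟨D.i, hiP⟩, ⟨k, hkP⟩} : Finset P0).card ≤ 2 := (Finset.card_le_univ _).trans hle
      rw [Finset.card_insert_of_notMem, Finset.card_pair] at h3'
      · omega
      · exact fun e => hki (congrArg Subtype.val e).symm
      · simp only [Finset.mem_insert, Finset.mem_singleton, Subtype.ext_iff, Subgroup.coe_one]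
        rintro (e | e)
        · exact D.i_ne e.symm
        · exact hk1 e.symm
    have hK2 := (h.three_free inf_le_left hK3).1
    by_cases hKT : ∃ c ∈ K, c ∉ T
    · obtain ⟨c, hcK, hcT⟩ := hKT
      obtain ⟨n, hn⟩ := IsPGroup.iff_orderOf.1 hK2 ⟨c, hcK⟩
      rw [orderOf_mk] at hn
      obtain ⟨m, hm⟩ := h.exists_conj_S (mem_inf.1 hcK).1 ⟨n, hn⟩
      refine ⟨m, ?_⟩
      set xm := D.x ^ (m : ℕ) with hxm
      set a := xm * c * xm⁻¹ with ha
      have haT : a ∉ T := fun e => hcT (by
        have h1 := h.T_conj _ (inv_mem (pow_mem D.x_mem (m : ℕ))) _ e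
        rwa [← hxm, show xm⁻¹ * a * xm⁻¹⁻¹ = c by rw [ha]; group] at h1)
      set k' := xm * k * xm⁻¹ with hk'
      have hk'T : k' ∈ T := h.T_conj _ (pow_mem D.x_mem _) _ hkT
      have hak : a * k' * a⁻¹ = k' :=
        mul_inv_eq_iff_eq_mul.2 (conj_comm (mem_centralizer_singleton_iff.1 (mem_inf.1 hcK).2))
      have hat := (h.cover a hm).resolve_left haT
      have e : b * k' * b⁻¹ = (a * b⁻¹)⁻¹ * k' * ((a * b⁻¹)⁻¹)⁻¹ := by
        conv_rhs => rw [show (a * b⁻¹)⁻¹ * k' * ((a * b⁻¹)⁻¹)⁻¹ = b * (a⁻¹ * k' * a) * b⁻¹ by group, ← hak]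
        group
      rw [e]
      exact hcomm _ (inv_mem hat) k' hk'T
    exfalso
    push Not at hKT
    obtain ⟨w, hw⟩ := D.exists_fused (orderOf_two hk2 hk1)
    set i' := w⁻¹ * D.i * w with hi'
    set H := T ⊓ centralizer ({k} : Set G) with hH
    set H' := H.map (MulAut.conj w⁻¹).toMonoidHom with hH'
    have hmemH' : ∀ a ∈ H', a ∈ D.C ∧ a * i' = i' * a ∧ w * a * w⁻¹ ∈ H := by
      rintro _ ⟨v, hv, rfl⟩
      simp only [MulEquiv.coe_toMonoidHom, MulAut.conj_apply, inv_inv]
      obtain ⟨hvT, hvk⟩ := mem_inf.1 hv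
      rw [mem_centralizer_singleton_iff, ← hw] at hvk
      refine ⟨D.mem_C.2 ?_, ?_, by rwa [show w * (w⁻¹ * v * w) * w⁻¹ = v by group]⟩
      · have h1 := conj_comm (g := w⁻¹) hvk
        rwa [inv_inv, show w⁻¹ * (w * D.i * w⁻¹) * w = D.i by group] at h1
      · have h1 := conj_comm (g := w⁻¹) (hic v hvT)
        rwa [inv_inv] at h1
    have hki' : k * D.i = D.i * k := hic k hkT
    have hi'C : i' ∈ D.C := D.mem_C.2 (by
      rw [← hw] at hki'
      have h1 := conj_comm (g := w⁻¹) hki'.symm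
      rwa [inv_inv, show w⁻¹ * (w * D.i * w⁻¹) * w = D.i by group] at h1)
    have hH'2 : IsPGroup 2 H' := (h.two.to_le inf_le_left).map _
    have hcH : Nat.card H' = 16 := by
      rw [hH', card_map_of_injective (MulAut.conj w⁻¹).injective]; exact h16 k hkT hk1 hki
    have hcommH : ∀ a ∈ H', ∀ c ∈ H', a * c * a⁻¹ = c ∨ a * c * a⁻¹ = c * D.i := by
      by_cases hi'T : i' ∈ T
      · have hi'1 : i' ≠ 1 := fun e => D.i_ne (by
          calc D.i = w * i' * w⁻¹ := by rw [hi']; group
            _ = 1 := by rw [e]; group)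
        have hi'i : i' ≠ D.i := fun e => hki (by
          have h1 : w * D.i = D.i * w := by
            nth_rewrite 1 [← e]
            rw [hi']; group
          rw [← hw, h1, mul_inv_cancel_right])
        have heq : T ⊓ centralizer ({i'} : Set G) = H' := by
          refine eq_of_le_of_card_ge (fun v hv => ?_) (by rw [hcH, h16 i' hi'T hi'1 hi'i])
          obtain ⟨hvT, hvi⟩ := mem_inf.1 hv
          rw [mem_centralizer_singleton_iff] at hvi
          have e1 : w * v * w⁻¹ * k = k * (w * v * w⁻¹) := by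
            rw [← hw]; exact conj_comm (hic v hvT)
          have e2 : w * v * w⁻¹ * D.i = D.i * (w * v * w⁻¹) := by
            have h1 := conj_comm (g := w) hvi
            rwa [show w * i' * w⁻¹ = D.i by rw [hi']; group] at h1
          have hK' : w * v * w⁻¹ ∈ K := mem_inf.2 ⟨D.mem_C.2 e2, mem_centralizer_singleton_iff.2 e1⟩
          exact ⟨_, mem_inf.2 ⟨hKT _ hK', (mem_inf.1 hK').2⟩, by
            simp only [MulEquiv.coe_toMonoidHom, MulAut.conj_apply, inv_inv]; group⟩
        intro a ha c hc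
        rw [← heq] at ha hc
        exact hcomm a (mem_inf.1 ha).1 c (mem_inf.1 hc).1
      · have hi'H : i' ∈ H' := ⟨D.i, mem_inf.2 ⟨hiT, mem_centralizer_singleton_iff.2 hki'.symm⟩, by simp [hi']⟩
        have hcov : ∀ a ∈ H', a ∈ T ∨ a * i' ∈ T := by
          intro a ha
          set J := H' ⊔ T with hJ
          have hle : H' ≤ D.C := fun v hv => (hmemH' v hv).1
          have hJ2 : IsPGroup 2 J := IsPGroup.to_sup_of_normal_right' hH'2 h.two (hle.trans h.normalizer_T)
          have hJc : Nat.card J ≤ 2 * Nat.card T := by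
            rw [← h.card_S]
            refine (h.three_free (sup_le hle h.T_le) fun h3 => ?_).2
            obtain ⟨m, hm⟩ := IsPGroup.iff_card.1 hJ2
            rw [hm] at h3
            have := Nat.prime_three.dvd_of_dvd_pow h3
            norm_num at this
          have hidx : (T.subgroupOf J).index = 2 := by
            have h1 := (T.subgroupOf J).card_mul_index
            rw [Nat.card_congr (subgroupOfEquivOfLe (le_sup_right : T ≤ J)).toEquiv] at h1
            have hne : (T.subgroupOf J).index ≠ 1 := fun e1 => hi'T (by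
              have h2 : (⟨i', mem_sup_left hi'H⟩ : J) ∈ T.subgroupOf J := by
                rw [index_eq_one.1 e1]; exact mem_top _
              exact mem_subgroupOf.1 h2)
            have hne0 : (T.subgroupOf J).index ≠ 0 := index_ne_zero_of_finite
            have hle2 : (T.subgroupOf J).index ≤ 2 := by
              refine Nat.le_of_mul_le_mul_left (c := Nat.card T) ?_ (Nat.card_pos (α := T))
              linarith [h1]
            omega
          by_cases haT : a ∈ T
          · exact Or.inl haT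
          · right
            have h3 := (mul_mem_iff_of_index_two hidx (a := (⟨a, mem_sup_left ha⟩ : J))
              (b := ⟨i', mem_sup_left hi'H⟩)).2
              (iff_of_false (fun e => haT (mem_subgroupOf.1 e)) fun e => hi'T (mem_subgroupOf.1 e))
            exact mem_subgroupOf.1 h3
        intro a ha c hc
        have hai := (hmemH' a ha).2.1
        have hci' := (hmemH' c hc).2.1
        have hii : i' * i' = 1 := by
          rw [hi', show w⁻¹ * D.i * w * (w⁻¹ * D.i * w) = w⁻¹ * (D.i * D.i) * w by group, D.i_sq]; group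
        have hinvi : i'⁻¹ = i' := inv_eq_of_mul_eq_one_right hii
        obtain ⟨a', ha', hae⟩ : ∃ a' ∈ T, a' = a ∨ a' = a * i' := by
          rcases hcov a ha with e | e
          exacts [⟨a, e, Or.inl rfl⟩, ⟨_, e, Or.inr rfl⟩]
        obtain ⟨c', hc', hce⟩ : ∃ c' ∈ T, c' = c ∨ c' = c * i' := by
          rcases hcov c hc with e | e
          exacts [⟨c, e, Or.inl rfl⟩, ⟨_, e, Or.inr rfl⟩]
        have hconj : a' * c' * a'⁻¹ * c'⁻¹ = a * c * a⁻¹ * c⁻¹ := by
          have p1 : a' * c' * a'⁻¹ = a * c' * a⁻¹ := by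
            rcases hae with rfl | rfl
            · rfl
            · have hcc : i' * c' = c' * i' := by
                rcases hce with rfl | rfl
                · exact hci'.symm
                · rw [← mul_assoc, ← hci']
              rw [show a * i' * c' * (a * i')⁻¹ = a * (i' * c') * i'⁻¹ * a⁻¹ by group, hcc]; group
          rw [p1]
          rcases hce with rfl | rfl
          · rfl
          · rw [show a * (c * i') * a⁻¹ * (c * i')⁻¹ = a * c * (i' * a⁻¹) * i'⁻¹ * c⁻¹ by group,
              show i' * a⁻¹ = a⁻¹ * i' from ((show Commute a i' from hai).inv_left).eq.symm]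
            group
        rcases hcomm a' ha' c' hc' with e | e
        · left
          rw [e, mul_inv_cancel] at hconj
          exact mul_inv_eq_one.1 hconj.symm
        · right
          rw [e, hic c' hc', mul_inv_cancel_right] at hconj
          rw [D.mem_C.1 (hmemH' c hc).1, hconj, inv_mul_cancel_right]
    refine hnoab H inf_le_left (by rw [h16 k hkT hk1 hki]; norm_num) fun a ha c hc => ?_
    rcases hcomm a (mem_inf.1 ha).1 c (mem_inf.1 hc).1 with e | e
    · exact mul_inv_eq_iff_eq_mul.1 e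
    exfalso
    have hcm : ∀ v ∈ H, w⁻¹ * v * w ∈ H' := fun v hv => ⟨v, hv, by simp⟩
    rcases hcommH _ (hcm a ha) _ (hcm c hc) with q | q <;>
      rw [show w⁻¹ * a * w * (w⁻¹ * c * w) * (w⁻¹ * a * w)⁻¹ = w⁻¹ * (a * c * a⁻¹) * w by group, e] at q
    · exact D.i_ne (mul_eq_left.1 (mul_left_cancel (mul_right_cancel q)))
    · refine hki ?_
      have q' : c * D.i = c * (w * D.i * w⁻¹) := by
        calc c * D.i = w * (w⁻¹ * (c * D.i) * w) * w⁻¹ := by group
          _ = w * (w⁻¹ * c * w * D.i) * w⁻¹ := by rw [q]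
          _ = _ := by group
      rw [hw] at q'
      exact (mul_left_cancel q').symm
  -- the four group
  have hbT := h.normalizer_T h.b_mem
  have hbi : b * D.i * b⁻¹ = D.i := D.conj_i h.b_mem
  let P : Subgroup G :=
    { carrier := {t | t ∈ T ∧ (b * t * b⁻¹ = t ∨ b * t * b⁻¹ = t * D.i)}
      one_mem' := ⟨one_mem T, Or.inl (by group)⟩
      mul_mem' := by
        rintro a c ⟨ha, ha'⟩ ⟨hc, hc'⟩
        refine ⟨mul_mem ha hc, ?_⟩
        rw [show b * (a * c) * b⁻¹ = b * a * b⁻¹ * (b * c * b⁻¹) by group]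
        rcases ha' with e | e <;> rcases hc' with e' | e' <;> rw [e, e']
        · exact Or.inl rfl
        · right; rw [mul_assoc]
        · right; rw [mul_assoc a D.i c, ← hic c hc, ← mul_assoc]
        · left
          rw [show a * D.i * (c * D.i) = a * (D.i * c) * D.i by group, ← hic c hc,
            show a * (c * D.i) * D.i = a * c * (D.i * D.i) by group, D.i_sq, mul_one]
      inv_mem' := by
        rintro a ⟨ha, ha'⟩
        refine ⟨inv_mem ha, ?_⟩
        rw [show b * a⁻¹ * b⁻¹ = (b * a * b⁻¹)⁻¹ by group]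
        rcases ha' with e | e <;> rw [e]
        · exact Or.inl rfl
        · right; rw [mul_inv_rev, D.i_inv, ← hic a⁻¹ (inv_mem ha)] }
  have hPT : P ≤ T := fun p hp => hp.1
  have hjP : j ∈ P := ⟨hjT, hjb⟩
  have hiP : D.i ∈ P := ⟨hiT, Or.inl hbi⟩
  have hinter : ∀ p ∈ P, D.x⁻¹ * p * D.x ∈ P → p = 1 ∨ p = D.i := by
    intro p hp hp'
    set Z2 := zpowers D.i with hZ2
    have hZ2x : D.x ∈ normalizer (Z2 : Set G) := Subgroup.mem_normalizer_fintype fun z hz => by
      rcases D.mem_zi_iff.1 hz with e | e <;> rw [e]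
      · rw [mul_one, mul_inv_cancel]; exact one_mem _
      · rw [hxi]; exact mem_zpowers _
    have hlift : p⁻¹ * (D.x * p * D.x⁻¹) ∈ Z2 := by
      have key : D.x * (b * (D.x⁻¹ * p * D.x) * b⁻¹) * D.x⁻¹ = D.x⁻¹ * (b * p * b⁻¹) * D.x := by
        calc D.x * (b * (D.x⁻¹ * p * D.x) * b⁻¹) * D.x⁻¹
            = D.x * (b * D.x * b⁻¹)⁻¹ * (b * p * b⁻¹) * (b * D.x * b⁻¹) * D.x⁻¹ := by group
          _ = D.x * D.x * (b * p * b⁻¹) * (D.x * D.x)⁻¹ := by rw [h.b_x]; group
          _ = _ := by
              rw [show D.x * D.x = D.x⁻¹ from (inv_eq_of_mul_eq_one_right (by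
                rw [← mul_assoc, ← pow_three', D.x_pow])).symm, inv_inv]
      obtain ⟨-, hb2⟩ := hp'
      obtain ⟨-, hb1⟩ := hp
      have hm : ∀ q, D.x * (q * D.i) * D.x⁻¹ = D.x * q * D.x⁻¹ * D.i := fun q => by
        rw [show D.x * (q * D.i) * D.x⁻¹ = D.x * q * D.x⁻¹ * (D.x * D.i * D.x⁻¹) by group, hxi]
      have hm' : ∀ q, D.x⁻¹ * (q * D.i) * D.x = D.x⁻¹ * q * D.x * D.i := fun q => by
        calc D.x⁻¹ * (q * D.i) * D.x = D.x⁻¹ * q * (D.i * D.x) := by group
          _ = _ := by rw [D.mul_comm_ix]; group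
      have key2 : p = D.x⁻¹ * p * D.x ∨ p = D.x⁻¹ * p * D.x * D.i := by
        have ex : D.x * (D.x⁻¹ * p * D.x) * D.x⁻¹ = p := by group
        rcases hb2 with e2 | e2 <;> rcases hb1 with e1 | e1 <;> rw [e1, e2] at key
        · rw [ex] at key; exact Or.inl key
        · rw [ex, hm'] at key; exact Or.inr key
        · rw [hm, ex] at key
          right
          rw [← key, mul_assoc, D.i_sq, mul_one]
        · rw [hm, ex, hm'] at key
          exact Or.inl (mul_right_cancel key)
      rcases key2 with e | e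
      · have e' : D.x * p * D.x⁻¹ = p := by
          nth_rewrite 1 [e]; group
        rw [e', inv_mul_cancel]; exact one_mem _
      · have e' : D.x * p * D.x⁻¹ = p * D.i := by
          nth_rewrite 1 [e]
          rw [hm]
          group
        rw [e', inv_mul_cancel_left]; exact mem_zpowers _
    obtain ⟨v, hv, hvc⟩ := coset_fixed D.x_pow hZ2x (by rw [hZ2, Nat.card_zpowers, D.oi]; norm_num) hlift
    have hvT : v ∈ T := by rcases D.mem_zi_iff.1 hv with e | e <;> rw [e]; exacts [one_mem T, hiT]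
    rcases hfixT _ (mul_mem hp.1 hvT) hvc with q | q <;> rcases D.mem_zi_iff.1 hv with e | e <;> rw [e] at q
    · exact Or.inl (by rwa [mul_one] at q)
    · exact Or.inr (by rw [eq_inv_of_mul_eq_one_left q, D.i_inv])
    · exact Or.inr (by rwa [mul_one] at q)
    · exact Or.inl (mul_eq_right.1 q)
  have hP8 : Nat.card P = 8 := by
    obtain ⟨m, hm⟩ := IsPGroup.iff_card.1 (h.two.to_le hPT)
    have hup : Nat.card P * Nat.card P ≤ 64 := by
      have h1 := card_mul_le (A := P) (B := P.map (MulAut.conj D.x).toMonoidHom) hPT (by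
        rintro _ ⟨q, hq, rfl⟩; exact h.T_conj _ D.x_mem q hq.1)
      rw [card_map_of_injective (f := (MulAut.conj D.x).toMonoidHom) (MulAut.conj D.x).injective, h32] at h1
      have h2 : Nat.card ↥(P ⊓ P.map (MulAut.conj D.x).toMonoidHom) ≤ 2 := by
        refine le_of_le_of_eq (Subgroup.card_le_of_le (K := zpowers D.i) fun q hq => ?_) (by rw [Nat.card_zpowers, D.oi])
        obtain ⟨hqP, hqx⟩ := mem_inf.1 hq
        obtain ⟨r, hr, hre⟩ := hqx
        refine D.mem_zi_iff.2 (hinter q hqP ?_)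
        rwa [← hre, MulEquiv.coe_toMonoidHom, MulAut.conj_apply,
          show D.x⁻¹ * (D.x * r * D.x⁻¹) * D.x = r by group]
      calc _ ≤ 32 * Nat.card ↥(P ⊓ P.map (MulAut.conj D.x).toMonoidHom) := h1
        _ ≤ 32 * 2 := Nat.mul_le_mul_left _ h2
    have hlo : 32 ≤ Nat.card P * Nat.card P := by
      let θ : T → P := fun t => ⟨(t : G) * (b * t * b⁻¹), mul_mem t.2 ((mem_normalizer_iff.1 hbT _).1 t.2), by
        have hb2 : b * (b * (t : G) * b⁻¹) * b⁻¹ = t := by
          rw [show b * (b * (t : G) * b⁻¹) * b⁻¹ = b * b * t * (b * b)⁻¹ by group]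
          rcases h.b_sq with e | e <;> rw [e]
          · group
          · rw [← hic t t.2, mul_inv_cancel_right]
        rw [show b * ((t : G) * (b * t * b⁻¹)) * b⁻¹ = b * t * b⁻¹ * (b * (b * t * b⁻¹) * b⁻¹) by group, hb2]
        rcases hcomm _ ((mem_normalizer_iff.1 hbT _).1 t.2) _ t.2 with e | e
        · exact Or.inl (mul_inv_eq_iff_eq_mul.1 e)
        · refine Or.inr ?_
          rw [mul_inv_eq_iff_eq_mul.1 e, mul_assoc, ← hic _ ((mem_normalizer_iff.1 hbT _).1 t.2), ← mul_assoc]⟩
      letI : Fintype T := Fintype.ofFinite T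
      letI : Fintype P := Fintype.ofFinite P
      have hfib : ∀ p ∈ (Finset.univ : Finset P), (Finset.univ.filter fun t : T => θ t = p).card ≤ Nat.card P := by
        intro p _
        by_cases hne : (Finset.univ.filter fun t : T => θ t = p).Nonempty
        · obtain ⟨t0, ht0⟩ := hne
          rw [Finset.mem_filter] at ht0
          rw [← Fintype.card_coe]
          rw [← Nat.card_eq_fintype_card]
          refine Nat.card_le_card_of_injective
            (fun t => ⟨(t0 : G)⁻¹ * (t.1 : G), mul_mem (inv_mem t0.2) t.1.2, ?_⟩) ?_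
          · have e : (t.1 : G) * (b * t.1 * b⁻¹) = (t0 : G) * (b * t0 * b⁻¹) :=
              congrArg Subtype.val ((Finset.mem_filter.1 t.2).2.trans ht0.2.symm)
            have e' : b * (t.1 : G) * b⁻¹ = (t.1 : G)⁻¹ * t0 * (b * t0 * b⁻¹) := by
              rw [mul_assoc _ (t0 : G), ← e, inv_mul_cancel_left]
            have e'' : b * ((t0 : G)⁻¹ * t.1) * b⁻¹ = (b * t0 * b⁻¹)⁻¹ * ((t.1 : G)⁻¹ * t0) * (b * t0 * b⁻¹) := by
              rw [show b * ((t0 : G)⁻¹ * t.1) * b⁻¹ = (b * t0 * b⁻¹)⁻¹ * (b * t.1 * b⁻¹) by group, e']; group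
            have hu : (t0 : G)⁻¹ * t.1 ∈ T := mul_mem (inv_mem t0.2) t.1.2
            have hw : (t.1 : G)⁻¹ * t0 = ((t0 : G)⁻¹ * t.1)⁻¹ := by group
            have hbt := inv_mem ((mem_normalizer_iff.1 hbT (t0 : G)).1 t0.2)
            rw [e'']
            rcases hcomm _ hbt _ (mul_mem (inv_mem t.1.2) t0.2) with q | q <;> rw [inv_inv] at q <;> rw [q, hw]
            · exact hinv' _ hu
            · rcases hinv' _ hu with r | r <;> rw [r]
              · exact Or.inr rfl
              · left; rw [mul_assoc, D.i_sq, mul_one]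
          · intro p q e
            exact Subtype.ext (Subtype.ext (mul_left_cancel (congrArg Subtype.val e)))
        · rw [Finset.not_nonempty_iff_eq_empty.1 hne]
          exact Nat.zero_le _
      have h2 := Finset.card_le_mul_card_image_of_maps_to (s := (Finset.univ : Finset T))
        (t := Finset.univ) (f := θ) (fun _ _ => Finset.mem_univ _) (Nat.card P) hfib
      rw [Finset.card_univ, Finset.card_univ, ← Nat.card_eq_fintype_card, ← Nat.card_eq_fintype_card, h32] at h2
      exact h2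
    rw [hm] at hup hlo ⊢
    have hm6 : m ≤ 3 := by
      by_contra q
      have : 16 ≤ 2 ^ m := Nat.pow_le_pow_right two_pos (show 4 ≤ m by omega)
      nlinarith
    interval_cases m <;> simp_all
  -- `P` is commutative
  have hPc : ∀ v ∈ P, ∀ w ∈ P, v * w = w * v := by
    intro v hv w hw
    refine mul_inv_eq_iff_eq_mul.1 ((hcomm v hv.1 w hw.1).resolve_right fun e => ?_)
    set w1 := D.x * w * D.x⁻¹ with hw1
    set w2 := D.x * w1 * D.x⁻¹ with hw2
    have hw1T : w1 ∈ T := (mem_normalizer_iff.1 hxT w).1 hw.1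
    have hw2T : w2 ∈ T := (mem_normalizer_iff.1 hxT w1).1 hw1T
    have hw2' : D.x⁻¹ * w * D.x⁻¹⁻¹ = w2 := by
      conv_lhs => rw [← conj_triple D.x w D.x_pow, ← hw1, ← hw2]
      group
    have hbw1 : b * w1 * b⁻¹ = w2 ∨ b * w1 * b⁻¹ = w2 * D.i := by
      rw [hw1, h.conj_inverter w]
      rcases hw.2 with q | q <;> rw [q]
      · exact Or.inl hw2'
      · right
        rw [show D.x⁻¹ * (w * D.i) * D.x⁻¹⁻¹ = D.x⁻¹ * w * D.x⁻¹⁻¹ * (D.x⁻¹ * D.i * D.x⁻¹⁻¹) by group, hw2',
          D.conj_i (inv_mem D.x_mem)]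
    have hcw : ∀ z : G, (z = w2 ∨ z = w2 * D.i) → (Commute v z ↔ Commute v w2) := by
      rintro z (rfl | rfl)
      · rfl
      · refine ⟨fun q => ?_, fun q => q.mul_right (hic v hv.1)⟩
        have q' := q.mul_right (show Commute v D.i⁻¹ from (show Commute v D.i from hic v hv.1).inv_right)
        rwa [mul_inv_cancel_right] at q'
    have hiff : Commute v w1 ↔ Commute v w2 := by
      have hvb : ∀ z ∈ T, Commute (b * v * b⁻¹) z ↔ Commute v z := by
        intro z hz
        rcases hv.2 with q | q <;> rw [q]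
        refine ⟨fun q' => ?_, fun q' => q'.mul_left (hic z hz).symm⟩
        have q'' := q'.mul_left (show Commute D.i⁻¹ z from (show Commute D.i z from (hic z hz).symm).inv_left)
        rwa [mul_inv_cancel_right] at q''
      rw [← hcw _ hbw1, ← hvb _ ((mem_normalizer_iff.1 hbT w1).1 hw1T)]
      refine ⟨fun q => conj_comm q.eq, fun q => ?_⟩
      have := conj_comm (g := b⁻¹) q.eq
      show v * w1 = w1 * v
      simpa [mul_assoc] using this
    have hz := (three_mod hxT D.x_pow hiT D.i_sq hic D.mul_comm_ix hfixT hw.1).1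
    rw [← hw1, ← hw2] at hz
    have hfix : v * (w * w1 * w2) * v⁻¹ = w * w1 * w2 := by
      rcases hz with q | q <;> rw [q]
      · group
      · exact hci v hv.1
    rw [show v * (w * w1 * w2) * v⁻¹ = v * w * v⁻¹ * (v * w1 * v⁻¹) * (v * w2 * v⁻¹) by group, e] at hfix
    rcases hcomm v hv.1 w1 hw1T with q | q
    · have h2 : v * w2 * v⁻¹ = w2 := mul_inv_eq_iff_eq_mul.2 (hiff.1 (mul_inv_eq_iff_eq_mul.1 q)).eq
      rw [q, h2, show w * D.i * w1 * w2 = w * (D.i * (w1 * w2)) by group, ← hic _ (mul_mem hw1T hw2T),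
        ← mul_assoc, ← mul_assoc] at hfix
      exact D.i_ne (mul_eq_left.1 hfix)
    · have h2 : v * w2 * v⁻¹ = w2 * D.i := (hcomm v hv.1 w2 hw2T).resolve_left fun r => by
        have h3 : v * w1 * v⁻¹ = w1 := mul_inv_eq_iff_eq_mul.2 (hiff.2 (mul_inv_eq_iff_eq_mul.1 r)).eq
        rw [h3] at q
        exact D.i_ne (mul_eq_left.1 q.symm)
      rw [q, h2, show w * D.i * (w1 * D.i) * (w2 * D.i) = w * (D.i * w1) * (D.i * w2) * D.i by group,
        ← hic w1 hw1T, ← hic w2 hw2T,
        show w * (w1 * D.i) * (w2 * D.i) * D.i = w * w1 * (D.i * w2) * (D.i * D.i) by group, ← hic w2 hw2T,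
        D.i_sq, mul_one, ← mul_assoc] at hfix
      exact D.i_ne (mul_eq_left.1 hfix)
  -- a second involution in `P`
  have hj1' : j1 ≠ 1 := fun e => hj1 (conj_eq_one_iff.1 e)
  have hj1s : j1 * j1 = 1 := by
    rw [hj1d, show D.x * j * D.x⁻¹ * (D.x * j * D.x⁻¹) = D.x * (j * j) * D.x⁻¹ by group, hj2]; group
  have hj2s : j2 * j2 = 1 := by
    rw [hj2d, show D.x * j1 * D.x⁻¹ * (D.x * j1 * D.x⁻¹) = D.x * (j1 * j1) * D.x⁻¹ by group, hj1s]; group
  have hj2T : j2 ∈ T := (mem_normalizer_iff.1 hxT j1).1 hj1T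
  have hz3 := (three_mod hxT D.x_pow hiT D.i_sq hic D.mul_comm_ix hfixT hjT).1
  rw [← hj1d, ← hj2d] at hz3
  have hj2e : j2 = j * j1 ∨ j2 = j * j1 * D.i ∨ j2 = j1 * j ∨ j2 = j1 * j * D.i := by
    have hinvjj : (j * j1)⁻¹ = j1 * j := by
      rw [mul_inv_rev, inv_eq_of_mul_eq_one_right hj1s, inv_eq_of_mul_eq_one_right hj2]
    rcases hz3 with e | e
    · right; right; left
      rw [← hinvjj]; exact (inv_eq_of_mul_eq_one_right e).symm
    · right; right; right
      rw [← hinvjj, ← e]; group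
  have hjj1 : j * j1 = j1 * j := by
    rcases hcomm j hjT j1 hj1T with e | e
    · exact mul_inv_eq_iff_eq_mul.1 e
    · exfalso
      have hsq2 : j * j1 * (j * j1) = D.i := by
        rw [show j * j1 * (j * j1) = j * j1 * j⁻¹ * (j * j) * j1 by group, e, hj2, mul_one, mul_assoc,
          ← hic j1 hj1T, ← mul_assoc, hj1s, one_mul]
      have hsq3 : j1 * j * (j1 * j) = D.i := by
        rw [show j1 * j * (j1 * j) = j⁻¹ * (j * j1 * (j * j1)) * j by group, hsq2, mul_assoc, ← hic j hjT,
          ← mul_assoc, inv_mul_cancel, one_mul]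
      have hsqi : ∀ q ∈ T, q * q = D.i → q * D.i * (q * D.i) = D.i := fun q hq e' => by
        rw [show q * D.i * (q * D.i) = q * (D.i * q) * D.i by group, ← hic q hq,
          show q * (q * D.i) * D.i = q * q * (D.i * D.i) by group, e', D.i_sq, mul_one]
      apply D.i_ne
      rw [← hj2s]
      rcases hj2e with q | q | q | q <;> rw [q]
      · exact hsq2.symm
      · exact (hsqi _ (mul_mem hjT hj1T) hsq2).symm
      · exact hsq3.symm
      · exact (hsqi _ (mul_mem hj1T hjT) hsq3).symm
  let V : Subgroup G := Subgroup.closure {D.i, j, j1}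
  have hVc : ∀ a ∈ V, ∀ c ∈ V, a * c = c * a := by
    haveI : IsMulCommutative V := Subgroup.isMulCommutative_closure (by
      rintro a (rfl | rfl | rfl) c (rfl | rfl | rfl)
      exacts [rfl, (hic _ hjT).symm, (hic _ hj1T).symm, hic _ hjT, rfl, hjj1, hic _ hj1T, hjj1.symm, rfl])
    intro a ha c hc
    exact congrArg Subtype.val (mul_comm' (⟨a, ha⟩ : V) ⟨c, hc⟩)
  have hVT : V ≤ T := (closure_le T).2 (by rintro a (rfl | rfl | rfl); exacts [hiT, hjT, hj1T])
  have hV8 : Nat.card V ≤ 8 := by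
    by_contra q
    push Not at q
    exact hnoab V hVT q hVc
  have hiV : D.i ∈ V := subset_closure (by simp)
  have hjV : j ∈ V := subset_closure (by simp)
  have hj1V : j1 ∈ V := subset_closure (by simp)
  have hj2V : j2 ∈ V := by
    rcases hj2e with q | q | q | q <;> rw [q]
    exacts [mul_mem hjV hj1V, mul_mem (mul_mem hjV hj1V) hiV, mul_mem hj1V hjV,
      mul_mem (mul_mem hj1V hjV) hiV]
  obtain ⟨t, htH, htV⟩ : ∃ t ∈ T ⊓ centralizer ({j} : Set G), t ∉ V := by
    by_contra q
    push Not at q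
    have h1 := Subgroup.card_le_of_le (show T ⊓ centralizer ({j} : Set G) ≤ V from q)
    rw [h16 j hjT hj1 hji] at h1
    omega
  obtain ⟨htT, htj⟩ := mem_inf.1 htH
  rw [mem_centralizer_singleton_iff] at htj
  obtain ⟨k, hkT, hk2, hkV⟩ : ∃ k ∈ T, k * k = 1 ∧ k ∉ V := by
    rcases hsq t htT with e | e
    · exact ⟨t, htT, e, htV⟩
    refine ⟨t * j1, mul_mem htT hj1T, ?_, fun q => htV ((mul_mem_cancel_right hj1V).1 q)⟩
    have htj1 : t * j1 * t⁻¹ = j1 * D.i := by
      refine (hcomm t htT j1 hj1T).resolve_left fun q => ?_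
      let A : Subgroup G := Subgroup.closure {D.i, j, j1, t}
      haveI : IsMulCommutative A := Subgroup.isMulCommutative_closure (by
        have htj1' := mul_inv_eq_iff_eq_mul.1 q
        rintro a (rfl | rfl | rfl | rfl) c (rfl | rfl | rfl | rfl)
        exacts [rfl, (hic _ hjT).symm, (hic _ hj1T).symm, (hic _ htT).symm, hic _ hjT, rfl, hjj1, htj.symm,
          hic _ hj1T, hjj1.symm, rfl, htj1'.symm, hic _ htT, htj, htj1', rfl])
      refine hnoab A ((closure_le T).2 (by rintro a (rfl | rfl | rfl | rfl); exacts [hiT, hjT, hj1T, htT])) ?_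
        (fun a ha c hc => congrArg Subtype.val (mul_comm' (⟨a, ha⟩ : A) ⟨c, hc⟩))
      -- more than eight elements
      have hVA : V ≤ A := closure_mono (by intro a; simp; tauto)
      have htA : t ∈ A := subset_closure (by simp)
      have hV5 : 5 ≤ Nat.card V := by
        letI : Fintype V := Fintype.ofFinite V
        have h5 : ({1, ⟨D.i, hiV⟩, ⟨j, hjV⟩, ⟨j1, hj1V⟩, ⟨j * D.i, mul_mem hjV hiV⟩} : Finset V).card ≤
            Nat.card V := by
          rw [Nat.card_eq_fintype_card]; exact Finset.card_le_univ _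
        refine le_trans (le_of_eq ?_) h5
        rw [Finset.card_insert_of_notMem, Finset.card_insert_of_notMem, Finset.card_insert_of_notMem,
          Finset.card_pair]
        · intro r
          have r' : j1 = j * D.i := congrArg Subtype.val r
          have h1 := conj_triple D.x j D.x_pow
          have hm : ∀ w, D.x * (w * D.i) * D.x⁻¹ = D.x * w * D.x⁻¹ * D.i := fun w => by
            rw [show D.x * (w * D.i) * D.x⁻¹ = D.x * w * D.x⁻¹ * (D.x * D.i * D.x⁻¹) by group, hxi]
          rw [← hj1d, r', hm, ← hj1d, r', mul_assoc j, D.i_sq, mul_one, ← hj1d, r'] at h1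
          exact D.i_ne (mul_eq_left.1 h1)
        · simp only [Finset.mem_insert, Finset.mem_singleton, Subtype.ext_iff]
          rintro (r | r)
          · exact (hfixT j hjT (mul_inv_eq_iff_eq_mul.1 r.symm).symm).elim hj1 hji
          · exact D.i_ne (mul_eq_left.1 r.symm)
        · simp only [Finset.mem_insert, Finset.mem_singleton, Subtype.ext_iff]
          rintro (r | r | r)
          · exact hji r.symm
          · exact hji ((MulAut.conj D.x).injective (show D.x * j * D.x⁻¹ = D.x * D.i * D.x⁻¹ by rw [hxi, ← hj1d, r]))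
          · exact hj1 (mul_eq_right.1 r.symm)
        · simp only [Finset.mem_insert, Finset.mem_singleton, Subtype.ext_iff, Subgroup.coe_one]
          rintro (r | r | r | r)
          · exact D.i_ne r.symm
          · exact hj1 r.symm
          · exact hj1' r.symm
          · exact hji (by rw [eq_inv_of_mul_eq_one_left r.symm, D.i_inv])
      have hne : Nat.card A ≠ Nat.card V := fun r => htV (eq_of_le_of_card_ge hVA r.le ▸ htA)
      obtain ⟨c, hc⟩ := card_dvd_of_le hVA
      rcases c with - | c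
      · have := Nat.card_pos (α := A)
        omega
      rcases c with - | c
      · omega
      · nlinarith
    rw [show t * j1 * (t * j1) = t * j1 * t⁻¹ * (t * t) * j1 by group, htj1, e, mul_assoc j1, D.i_sq, mul_one,
      hj1s]
  have hkne : k ≠ 1 ∧ k ≠ D.i := ⟨fun e => hkV (by rw [e]; exact one_mem V), fun e => hkV (by rw [e]; exact hiV)⟩
  obtain ⟨m, hm⟩ := hout k hkT hk2 hkne.1 hkne.2
  set p := D.x ^ (m : ℕ) * k * (D.x ^ (m : ℕ))⁻¹ with hp
  have hpP : p ∈ P := ⟨h.T_conj _ (pow_mem D.x_mem _) _ hkT, hm⟩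
  have hVx : ∀ n : ℕ, ∀ q ∈ V, (D.x ^ n)⁻¹ * q * D.x ^ n ∈ V := by
    have h1 : ∀ q ∈ V, D.x⁻¹ * q * D.x ∈ V := by
      intro q hq
      induction hq using Subgroup.closure_induction with
      | mem q hq =>
        rcases hq with e0 | e0 | e0 <;> rw [e0]
        · rw [show D.x⁻¹ * D.i * D.x = D.x⁻¹ * (D.i * D.x) by group, D.mul_comm_ix, inv_mul_cancel_left]
          exact hiV
        · have e : D.x⁻¹ * j * D.x = j2 := by
            conv_lhs => rw [← conj_triple D.x j D.x_pow, ← hj1d, ← hj2d]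
            group
          rw [e]; exact hj2V
        · rw [hj1d, show D.x⁻¹ * (D.x * j * D.x⁻¹) * D.x = j by group]; exact hjV
      | one => simp
      | mul a c _ _ ha hc =>
        rw [show D.x⁻¹ * (a * c) * D.x = D.x⁻¹ * a * D.x * (D.x⁻¹ * c * D.x) by group]
        exact mul_mem ha hc
      | inv a _ ha =>
        rw [show D.x⁻¹ * a⁻¹ * D.x = (D.x⁻¹ * a * D.x)⁻¹ by group]
        exact inv_mem ha
    intro n
    induction n with
    | zero => intro q hq; simpa using hq
    | succ n ih =>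
      intro q hq
      rw [show (D.x ^ (n + 1))⁻¹ * q * D.x ^ (n + 1) = D.x⁻¹ * ((D.x ^ n)⁻¹ * q * D.x ^ n) * D.x by
        rw [pow_succ]; group]
      exact h1 _ (ih q hq)
  have hpV : p ∉ V := fun q => hkV (by
    have := hVx (m : ℕ) p q
    rwa [hp, show (D.x ^ (m : ℕ))⁻¹ * (D.x ^ (m : ℕ) * k * (D.x ^ (m : ℕ))⁻¹) * D.x ^ (m : ℕ) = k by group] at this)
  have helem : ∀ q ∈ P, q * q = 1 := by
    let E : Subgroup G :=
      { carrier := {q | q ∈ P ∧ q * q = 1}
        one_mem' := ⟨one_mem P, mul_one 1⟩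
        mul_mem' := by
          rintro a c ⟨ha, ha'⟩ ⟨hc, hc'⟩
          refine ⟨mul_mem ha hc, ?_⟩
          rw [show a * c * (a * c) = a * (c * a) * c by group, hPc c hc a ha,
            show a * (a * c) * c = (a * a) * (c * c) by group, ha', hc', one_mul]
        inv_mem' := by
          rintro a ⟨ha, ha'⟩
          exact ⟨inv_mem ha, by rw [← mul_inv_rev, ha', inv_one]⟩ }
    have hiE : D.i ∈ E := ⟨hiP, D.i_sq⟩
    have hjE : j ∈ E := ⟨hjP, hj2⟩
    have hpE : p ∈ E := ⟨hpP, by
      rw [hp, show D.x ^ (m : ℕ) * k * (D.x ^ (m : ℕ))⁻¹ * (D.x ^ (m : ℕ) * k * (D.x ^ (m : ℕ))⁻¹) =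
        D.x ^ (m : ℕ) * (k * k) * (D.x ^ (m : ℕ))⁻¹ by group, hk2]; group⟩
    have hEP : E = P := by
      refine eq_of_half (fun q hq => hq.1) (k := 2) (by rw [hP8]; norm_num) ?_
      letI : Fintype E := Fintype.ofFinite E
      rw [Nat.card_eq_fintype_card]
      refine lt_of_lt_of_le ?_ (Finset.card_le_univ
        ({1, ⟨D.i, hiE⟩, ⟨j, hjE⟩, ⟨p, hpE⟩, ⟨j * D.i, mul_mem hjE hiE⟩} : Finset E))
      rw [Finset.card_insert_of_notMem, Finset.card_insert_of_notMem, Finset.card_insert_of_notMem,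
        Finset.card_pair]
      · norm_num
      · exact fun r => hpV (by rw [show p = j * D.i from congrArg Subtype.val r]; exact mul_mem hjV hiV)
      · simp only [Finset.mem_insert, Finset.mem_singleton, Subtype.ext_iff]
        rintro (r | r)
        · exact hpV (r ▸ hjV)
        · exact D.i_ne (mul_eq_left.1 r.symm)
      · simp only [Finset.mem_insert, Finset.mem_singleton, Subtype.ext_iff]
        rintro (r | r | r)
        · exact hji r.symm
        · exact hpV (r ▸ hiV)
        · exact hj1 (mul_eq_right.1 r.symm)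
      · simp only [Finset.mem_insert, Finset.mem_singleton, Subtype.ext_iff, Subgroup.coe_one]
        rintro (r | r | r | r)
        · exact D.i_ne r.symm
        · exact hj1 r.symm
        · exact hpV (r ▸ one_mem V)
        · exact hji (by rw [eq_inv_of_mul_eq_one_left r.symm, D.i_inv])
    intro q hq
    rw [← hEP] at hq
    exact hq.2
  exact ⟨P, ⟨h, h32, hZ, hcomm, hsq, hnoab, fun t => Iff.rfl, hP8, helem, hinter⟩, hjP⟩

end Small

end CfsgLib.SelfCentralSix
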