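import Cfsg.Agent.Lib.SelfCentralSix.Thirty

/-!
# There is no `T` of order 32

The centralizer `A` of `P` in `S` is elementary of order 16. For every `j` in `P` an element of
order three which permutes `i`, `j`, `i * j` normalizes `A`; in `N(A) / A`, of order 60, all these
elements generate one and the same normal subgroup of order three, which is absurd.
-/

set_option autoImplicit false
set_option linter.style.haveILetI false

namespace CfsgLib.SelfCentralSix

open Subgroup CfsgLib.SelfThree29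

universe u

variable {G : Type u} [Group G]

/-- The product of two elements outside a subgroup of index two lies in it. -/
theorem index_two_mul [Finite G] {K W : Subgroup G} (hKW : K ≤ W) (hc : Nat.card W = 2 * Nat.card K)
    {a c : G} (ha : a ∈ W) (hcW : c ∈ W) (haK : a ∉ K) (hcK : c ∉ K) : a * c ∈ K := by
  have hidx : (K.subgroupOf W).index = 2 := by
    have h1 := (K.subgroupOf W).card_mul_index
    rw [Nat.card_congr (subgroupOfEquivOfLe hKW).toEquiv, hc, mul_comm 2] at h1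
    exact Nat.eq_of_mul_eq_mul_left Nat.card_pos h1
  have h3 := (mul_mem_iff_of_index_two hidx (a := (⟨a, ha⟩ : W)) (b := ⟨c, hcW⟩)).2
    (iff_of_false (fun e => haK (mem_subgroupOf.1 e)) fun e => hcK (mem_subgroupOf.1 e))
  exact mem_subgroupOf.1 h3

/-- Squares lie in subgroups of index two. -/
theorem index_two_sq [Finite G] {K W : Subgroup G} (hKW : K ≤ W) (hc : Nat.card W = 2 * Nat.card K)
    {a : G} (ha : a ∈ W) : a * a ∈ K := by
  by_cases haK : a ∈ K
  · exact mul_mem haK haK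
  · exact index_two_mul hKW hc ha ha haK haK

/-- A proper subgroup has at most half of the elements. -/
theorem two_mul_le_card [Finite G] {K W : Subgroup G} (hKW : K ≤ W) {w : G} (hw : w ∈ W) (hwK : w ∉ K) :
    2 * Nat.card K ≤ Nat.card W := by
  obtain ⟨c, hc⟩ := card_dvd_of_le hKW
  rcases c with - | c
  · have := Nat.card_pos (α := W)
    omega
  rcases c with - | c
  · exact absurd ((eq_of_le_of_card_ge hKW (by omega) : K = W) ▸ hw) hwK
  · rw [hc]; nlinarith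

namespace Thirty

variable [Finite G] {D : Ctx G} {S : Sylow 2 G} {T : Subgroup G} {b : G} {P : Subgroup G}
  (hT : Thirty D S T b P)
include hT

omit [Finite G] in
theorem P_le : P ≤ T := fun p hp => ((hT.mem p).1 hp).1

omit [Finite G] in
theorem i_mem_P : D.i ∈ P := (hT.mem _).2 ⟨hT.small.i_mem, Or.inl (D.conj_i hT.small.b_mem)⟩

omit [Finite G] in
theorem comm_P {p q : G} (hp : p ∈ P) (hq : q ∈ P) : p * q = q * p := by
  have hpi := inv_eq_of_mul_eq_one_right (hT.elem p hp)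
  have hqi := inv_eq_of_mul_eq_one_right (hT.elem q hq)
  conv_lhs => rw [← inv_eq_of_mul_eq_one_right (hT.elem _ (mul_mem hp hq)), mul_inv_rev, hpi, hqi]

omit [Finite G] in
theorem conj_P {s p : G} (hs : s ∈ (S : Subgroup G)) (hp : p ∈ P) :
    s * p * s⁻¹ = p ∨ s * p * s⁻¹ = p * D.i := by
  obtain ⟨hpT, hpb⟩ := (hT.mem p).1 hp
  rcases hT.small.cover s hs with q | q
  · exact hT.comm s q p hpT
  · rw [show s * p * s⁻¹ = (s * b⁻¹) * (b * p * b⁻¹) * (s * b⁻¹)⁻¹ by group]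
    rcases hpb with e | e <;> rw [e]
    · exact hT.comm _ q p hpT
    · rw [show s * b⁻¹ * (p * D.i) * (s * b⁻¹)⁻¹ =
        s * b⁻¹ * p * (s * b⁻¹)⁻¹ * (s * b⁻¹ * D.i * (s * b⁻¹)⁻¹) by group, D.conj_i (hT.small.T_le q)]
      rcases hT.comm _ q p hpT with e' | e' <;> rw [e']
      · exact Or.inr rfl
      · left; rw [mul_assoc, D.i_sq, mul_one]

omit [Finite G] in
/-- An element of `T` commuting with an element of `S` outside `T` lies in `P`. -/
theorem mem_P_of_comm {z v : G} (hz : z ∈ (S : Subgroup G)) (hzT : z ∉ T) (hv : v ∈ T) (hzv : z * v = v * z) :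
    v ∈ P := by
  refine (hT.mem v).2 ⟨hv, ?_⟩
  have hq := (hT.small.cover z hz).resolve_left hzT
  have e : b * v * b⁻¹ = (z * b⁻¹)⁻¹ * v * ((z * b⁻¹)⁻¹)⁻¹ := by
    have h1 : z⁻¹ * v * z = v := by rw [mul_assoc, ← hzv, inv_mul_cancel_left]
    rw [show (z * b⁻¹)⁻¹ * v * ((z * b⁻¹)⁻¹)⁻¹ = b * (z⁻¹ * v * z) * b⁻¹ by group, h1]
  rw [e]
  exact hT.comm _ (inv_mem hq) v hv

theorem card_cent {k : G} (hk : k ∈ T) (hk2 : k * k = 1) (hk1 : k ≠ 1) (hki : k ≠ D.i) :
    Nat.card ↥(T ⊓ centralizer ({k} : Set G)) = 16 := by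
  obtain ⟨s, hs, hsk⟩ : ∃ s ∈ T, ¬ s * k = k * s := by
    by_contra hc
    push Not at hc
    exact (hT.center k ⟨hk, hk2, hc⟩).elim hk1 hki
  have h2 := card_eq_two_mul (Q := T ⊓ centralizer ({k} : Set G)) inf_le_left hs
    (fun e => hsk (mem_centralizer_singleton_iff.1 (mem_inf.1 e).2)) (fun v hv => by
      rcases hT.comm v hv k hk with e | e
      · exact Or.inl (mem_inf.2 ⟨hv, mem_centralizer_singleton_iff.2 (mul_inv_eq_iff_eq_mul.1 e)⟩)
      · refine Or.inr (mem_inf.2 ⟨mul_mem hv hs, mem_centralizer_singleton_iff.2 (mul_inv_eq_iff_eq_mul.1 ?_)⟩)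
        have hs' : s * k * s⁻¹ = k * D.i :=
          (hT.comm s hs k hk).resolve_left fun q => hsk (mul_inv_eq_iff_eq_mul.1 q)
        rw [show v * s * k * (v * s)⁻¹ = v * (s * k * s⁻¹) * v⁻¹ by group, hs',
          show v * (k * D.i) * v⁻¹ = v * k * v⁻¹ * (v * D.i * v⁻¹) by group, e, D.conj_i (hT.small.T_le hv),
          mul_assoc, D.i_sq, mul_one])
  rw [hT.card] at h2
  omega

/-- An element of `T` centralizing `P` lies in `P`. -/
theorem mem_P_of_cent {a : G} (haT : a ∈ T) (hc : ∀ p ∈ P, p * a = a * p) : a ∈ P := by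
  by_contra haP
  let K : Subgroup G := Subgroup.closure ((P : Set G) ∪ {a})
  haveI : IsMulCommutative K := Subgroup.isMulCommutative_closure (by
    rintro v (hv | rfl) w (hw | rfl)
    exacts [hT.comm_P hv hw, hc v hv, (hc w hw).symm, rfl])
  refine hT.no_abelian K ((closure_le T).2 ?_) ?_
    (fun v hv w hw => congrArg Subtype.val (mul_comm' (⟨v, hv⟩ : K) ⟨w, hw⟩))
  · rintro v (hv | rfl)
    exacts [hT.P_le hv, haT]
  · have h1 := two_mul_le_card (K := P) (W := K) (fun p hp => subset_closure (Or.inl hp))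
      (subset_closure (Or.inr rfl)) haP
    rw [hT.card_P] at h1
    omega

theorem mem_A_T {a : G} (ha : a ∈ (S : Subgroup G) ⊓ centralizer (P : Set G)) (haT : a ∈ T) : a ∈ P :=
  hT.mem_P_of_cent haT fun p hp => mem_centralizer_iff.1 (mem_inf.1 ha).2 p hp

omit [Finite G] in
theorem P_le_A : P ≤ (S : Subgroup G) ⊓ centralizer (P : Set G) := fun p hp =>
  mem_inf.2 ⟨hT.small.T_le_S (hT.P_le hp), mem_centralizer_iff.2 fun q hq => hT.comm_P hq hp⟩

theorem S_le_normalizer : (S : Subgroup G) ≤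
    normalizer (((S : Subgroup G) ⊓ centralizer (P : Set G) : Subgroup G) : Set G) := by
  intro s hs
  refine Subgroup.mem_normalizer_fintype fun a ha => mem_inf.2
    ⟨mul_mem (mul_mem hs (mem_inf.1 ha).1) (inv_mem hs), mem_centralizer_iff.2 fun p hp => ?_⟩
  have hp' : s⁻¹ * p * s⁻¹⁻¹ ∈ P := by
    rcases hT.conj_P (inv_mem hs) hp with e | e <;> rw [e]
    exacts [hp, mul_mem hp hT.i_mem_P]
  have h1 := conj_comm (g := s) (mem_centralizer_iff.1 (mem_inf.1 ha).2 _ hp')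
  rwa [show s * (s⁻¹ * p * s⁻¹⁻¹) * s⁻¹ = p by group] at h1

set_option maxHeartbeats 1000000 in
/-- For each `j` in `P`: an element of order three normalizes the centralizer of `P` in `S`. -/
theorem four_A {j : G} (hjP : j ∈ P) (hj1 : j ≠ 1) (hji : j ≠ D.i) :
    ∃ (F : Four D S j) (r : G), r ∈ P ∧ r ≠ 1 ∧ r ≠ D.i ∧ r ≠ j ∧ r ≠ D.i * j ∧ F.g * r * F.g⁻¹ ∉ T ∧
      F.g ∈ normalizer (((S : Subgroup G) ⊓ centralizer (P : Set G) : Subgroup G) : Set G) ∧
      Nat.card ↥((S : Subgroup G) ⊓ centralizer (P : Set G)) = 16 ∧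
      (∀ a ∈ (S : Subgroup G) ⊓ centralizer (P : Set G), a * a = 1 ∧ a * j = j * a) ∧
      (∀ q ∈ (S : Subgroup G) ⊓ centralizer ({j} : Set G),
        F.g * q * F.g⁻¹ * q⁻¹ ∈ (S : Subgroup G) ⊓ centralizer (P : Set G)) ∧
      ∀ a ∈ (S : Subgroup G) ⊓ centralizer (P : Set G), a ≠ 1 →
        ∃ p ∈ P, p ≠ 1 ∧ (a = p ∨ a = F.g * p * F.g⁻¹ ∨ a = F.g * F.g * p * (F.g * F.g)⁻¹) := by
  classical
  haveI : Fact (Nat.Prime 2) := ⟨Nat.prime_two⟩
  obtain ⟨hjT, hjb⟩ := (hT.mem j).1 hjP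
  have hS := hT.small
  have hj2 := hT.elem j hjP
  have hj := hS.fourPoint (by rw [hT.card]; norm_num) hT.center hjT hj2 hj1 hji
    (fun t ht => hT.comm t ht j hjT) hjb
  obtain ⟨F⟩ := D.exists_four hj
  set g := F.g with hg
  set Q := (S : Subgroup G) ⊓ centralizer ({j} : Set G) with hQdef
  set H := T ⊓ centralizer ({j} : Set G) with hHdef
  set L := zInv Q with hLdef
  set A := (S : Subgroup G) ⊓ centralizer (P : Set G) with hAdef
  have hic : ∀ t ∈ T, t * D.i = D.i * t := fun t ht => D.mem_C.1 (hS.T_le ht)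
  have hQmem : ∀ {q : G}, q ∈ Q ↔ q ∈ (S : Subgroup G) ∧ q * j = j * q := fun {q} => by
    rw [hQdef, mem_inf, mem_centralizer_singleton_iff]
  have hHmem : ∀ {q : G}, q ∈ H ↔ q ∈ T ∧ q * j = j * q := fun {q} => by
    rw [hHdef, mem_inf, mem_centralizer_singleton_iff]
  have hHQ : H ≤ Q := fun q hq => hQmem.2 ⟨hS.T_le_S (hHmem.1 hq).1, (hHmem.1 hq).2⟩
  have hQT : ∀ q ∈ Q, q ∈ T → q ∈ H := fun q hq hqT => hHmem.2 ⟨hqT, (hQmem.1 hq).2⟩
  have hH16 : Nat.card H = 16 := hT.card_cent hjT hj2 hj1 hji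
  have hQ32 : Nat.card Q = 32 := by
    have h1 : Nat.card (S : Subgroup G) = 2 * Nat.card Q := F.card_eq
    rw [hS.card_S, hT.card] at h1
    omega
  have hQH : Nat.card Q = 2 * Nat.card H := by rw [hQ32, hH16]
  have hg3 : g ^ 3 = 1 := F.ord ▸ pow_orderOf_eq_one F.g
  have hgn := fun q => mem_normalizer_iff.1 F.g_mem q
  have hcube' : ∀ a, g * (g * a * g⁻¹) * g⁻¹ = g⁻¹ * a * g := fun a => by
    calc g * (g * a * g⁻¹) * g⁻¹ = g⁻¹ * (g * (g * (g * a * g⁻¹) * g⁻¹) * g⁻¹) * g := by simp [mul_assoc]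
      _ = g⁻¹ * a * g := by rw [conj_triple g a hg3]
  have hcube : ∀ a, g⁻¹ * (g⁻¹ * a * g) * g = g * a * g⁻¹ := fun a => by
    rw [← hcube' (g⁻¹ * a * g)]
    simp [mul_assoc]
  have hback : ∀ q ∈ Q, g⁻¹ * q * g ∈ Q := fun q hq => by
    have := (mem_normalizer_iff.1 (inv_mem F.g_mem) q).1 hq; rwa [inv_inv] at this
  -- the four group
  have hjiC : j * D.i = D.i * j := hic j hjT
  have hgi : g * D.i * g⁻¹ = D.i * j := F.g_i
  have hgj : g * j * g⁻¹ = D.i := F.g_j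
  have hgij : g * (D.i * j) * g⁻¹ = j := by
    rw [show g * (D.i * j) * g⁻¹ = g * D.i * g⁻¹ * (g * j * g⁻¹) by group, hgi, hgj,
      mul_assoc, hjiC, ← mul_assoc, D.i_sq, one_mul]
  have hij1 : D.i * j ≠ 1 := fun e => hji ((inv_eq_of_mul_eq_one_right e).symm.trans D.i_inv)
  have hiji : D.i * j ≠ D.i := fun e => hj1 (mul_eq_left.1 e)
  have hiH : D.i ∈ H := hHmem.2 ⟨hS.i_mem, hjiC.symm⟩
  have hjH : j ∈ H := hHmem.2 ⟨hjT, rfl⟩
  have hiL : D.i ∈ L := ⟨hHQ hiH, D.i_sq, fun q hq => D.mem_C.1 (hS.S_le (hQmem.1 hq).1)⟩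
  have hjL : j ∈ L := ⟨hHQ hjH, hj2, fun q hq => (hQmem.1 hq).2⟩
  have hLH : L ≤ H := by
    intro z hz
    rcases F.zInv_le z hz with e | e | e | e <;> rw [e]
    exacts [one_mem H, hiH, hjH, mul_mem hiH hjH]
  have hLP : L ≤ P := by
    intro z hz
    rcases F.zInv_le z hz with e | e | e | e <;> rw [e]
    exacts [one_mem P, hT.i_mem_P, hjP, mul_mem hT.i_mem_P hjP]
  have hL4 : Nat.card L = 4 := by
    refine le_antisymm ?_ ?_
    · have h1 : Nat.card L ≤ ({1, D.i, j, D.i * j} : Finset G).card := by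
        rw [← Fintype.card_coe, ← Nat.card_eq_fintype_card]
        exact Nat.card_le_card_of_injective
          (fun z : L => ⟨(z : G), by simpa using F.zInv_le z z.2⟩)
          fun p q e => Subtype.ext (congrArg (fun r : ({1, D.i, j, D.i * j} : Finset G) => (r : G)) e :)
      exact h1.trans Finset.card_le_four
    · letI : Fintype L := Fintype.ofFinite L
      rw [Nat.card_eq_fintype_card]
      refine le_trans (le_of_eq ?_) (Finset.card_le_univ
        ({1, ⟨D.i, hiL⟩, ⟨j, hjL⟩, ⟨D.i * j, mul_mem hiL hjL⟩} : Finset L))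
      rw [Finset.card_insert_of_notMem, Finset.card_insert_of_notMem, Finset.card_pair]
      · exact fun r => D.i_ne (mul_eq_right.1 (congrArg Subtype.val r).symm)
      · simp only [Finset.mem_insert, Finset.mem_singleton, Subtype.ext_iff]
        rintro (r | r)
        · exact hji r.symm
        · exact hiji r.symm
      · simp only [Finset.mem_insert, Finset.mem_singleton, Subtype.ext_iff, Subgroup.coe_one]
        rintro (r | r | r)
        · exact D.i_ne r.symm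
        · exact hj1 r.symm
        · exact hij1 r.symm
  have hgL : ∀ z ∈ L, g * z * g⁻¹ ∈ L := fun z hz => (mem_normalizer_iff.1 (zInv_normalized F.g_mem) z).1 hz
  have hgL' : ∀ z ∈ L, g⁻¹ * z * g ∈ L := fun z hz => by
    have := (mem_normalizer_iff.1 (inv_mem (zInv_normalized F.g_mem)) z).1 hz; rwa [inv_inv] at this
  -- `H` is not invariant
  have hHsq : ∀ a ∈ H, a * a = 1 ∨ a * a = D.i := fun a ha => hT.sq a (hHmem.1 ha).1
  have hninv : ¬ ∀ a ∈ H, g * a * g⁻¹ ∈ H := by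
    intro hinv
    refine hT.no_abelian H inf_le_left (by rw [hH16]; norm_num) fun a ha c hc => ?_
    rcases hT.comm a (hHmem.1 ha).1 c (hHmem.1 hc).1 with e | e
    · exact mul_inv_eq_iff_eq_mul.1 e
    exfalso
    have e' : g * a * g⁻¹ * (g * c * g⁻¹) * (g * a * g⁻¹)⁻¹ = g * c * g⁻¹ * (D.i * j) := by
      rw [show g * a * g⁻¹ * (g * c * g⁻¹) * (g * a * g⁻¹)⁻¹ = g * (a * c * a⁻¹) * g⁻¹ by group, e,
        show g * (c * D.i) * g⁻¹ = g * c * g⁻¹ * (g * D.i * g⁻¹) by group, hgi]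
    rcases hT.comm _ (hHmem.1 (hinv a ha)).1 _ (hHmem.1 (hinv c hc)).1 with q | q <;> rw [e'] at q
    · exact hij1 (mul_eq_left.1 q)
    · exact hiji (mul_left_cancel q)
  have hninv' : ∃ d ∈ H, g⁻¹ * d * g ∉ H := by
    by_contra hc
    push Not at hc
    refine hninv fun a ha => ?_
    have h1 := hc _ (hc a ha)
    rwa [hcube] at h1
  -- squares lie in `L`
  have hsqL : ∀ q ∈ Q, q * q ∈ L := by
    by_contra hc
    push Not at hc
    obtain ⟨q, hq, hqL⟩ := hc
    have hw : q * q ∈ H := index_two_sq hHQ hQH hq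
    have hw1 : g⁻¹ * (q * q) * g ∈ H := by
      rw [show g⁻¹ * (q * q) * g = g⁻¹ * q * g * (g⁻¹ * q * g) by group]
      exact index_two_sq hHQ hQH (hback q hq)
    have hw2 : g * (q * q) * g⁻¹ ∈ H := by
      rw [show g * (q * q) * g⁻¹ = g * q * g⁻¹ * (g * q * g⁻¹) by group]
      exact index_two_sq hHQ hQH ((hgn q).1 hq)
    let K : Subgroup G := H ⊓ H.map (MulAut.conj g).toMonoidHom
    have hKmem : ∀ a, a ∈ K ↔ a ∈ H ∧ g⁻¹ * a * g ∈ H := fun a => by
      rw [mem_inf, mem_map]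
      refine and_congr_right fun _ => ⟨?_, fun h => ⟨_, h, by simp [mul_assoc]⟩⟩
      rintro ⟨v, hv, rfl⟩
      simpa [mul_assoc] using hv
    have hLK : L ≤ K := fun z hz => (hKmem z).2 ⟨hLH hz, hLH (hgL' z hz)⟩
    have hwK : q * q ∈ K := (hKmem _).2 ⟨hw, hw1⟩
    have hK8 : Nat.card K = 2 * Nat.card L := by
      refine le_antisymm ?_ (two_mul_le_card hLK hwK hqL)
      obtain ⟨d, hd, hd'⟩ := hninv'
      have h1 := two_mul_le_card (K := K) inf_le_left hd fun e => hd' ((hKmem d).1 e).2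
      rw [hH16] at h1
      rw [hL4]
      omega
    have hPhi : ∀ a ∈ H, g⁻¹ * a * g ∈ H → g * a * g⁻¹ ∈ H := by
      intro a ha ha'
      have haK : a ∈ K := (hKmem a).2 ⟨ha, ha'⟩
      by_cases haL : a ∈ L
      · exact hLH (hgL a haL)
      have h1 := index_two_mul hLK hK8 hwK haK hqL haL
      rw [show g * a * g⁻¹ = (g * (q * q) * g⁻¹)⁻¹ * (g * (q * q * a) * g⁻¹) by group]
      exact mul_mem (inv_mem hw2) (hLH (hgL _ h1))
    obtain ⟨d, hd, hd1⟩ := hninv'
    have hd2 : g * d * g⁻¹ ∉ H := fun e => hd1 (by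
      have h1 := hPhi _ e (by rwa [show g⁻¹ * (g * d * g⁻¹) * g = d by group])
      rwa [hcube'] at h1)
    obtain ⟨a, ha, hc0⟩ : ∃ a ∈ H, g * a * g⁻¹ ∉ H := by
      by_contra hc
      push Not at hc
      exact hninv hc
    set c := g * a * g⁻¹ with hc
    have hc1 : g⁻¹ * c * g ∈ H := by rwa [hc, show g⁻¹ * (g * a * g⁻¹) * g = a by group]
    have hc2 : g * c * g⁻¹ ∉ H := fun e => hc0 (hPhi a ha (by
      rwa [hc, hcube'] at e))
    have hdQ := hHQ hd
    have hcQ : c ∈ Q := (hgn a).1 (hHQ ha)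
    -- the three conditions on `q`
    have hq0 : q ∉ H := fun e => hqL (by rcases hHsq q e with r | r <;> rw [r]; exacts [one_mem L, hiL])
    have hq1 : g⁻¹ * q * g ∉ H := fun e => hqL (by
      rw [show q * q = g * (g⁻¹ * q * g * (g⁻¹ * q * g)) * g⁻¹ by group]
      refine hgL _ ?_
      rcases hHsq _ e with r | r <;> rw [r]; exacts [one_mem L, hiL])
    have hq2 : g * q * g⁻¹ ∉ H := fun e => hqL (by
      rw [show q * q = g⁻¹ * (g * q * g⁻¹ * (g * q * g⁻¹)) * g by group]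
      refine hgL' _ ?_
      rcases hHsq _ e with r | r <;> rw [r]; exacts [one_mem L, hiL])
    have h0 : q * (d * c) ∈ H :=
      index_two_mul hHQ hQH hq (mul_mem hdQ hcQ) hq0 fun e => hc0 ((mul_mem_cancel_left hd).1 e)
    have h1 : g⁻¹ * (q * (d * c)) * g ∈ H := by
      rw [show g⁻¹ * (q * (d * c)) * g = g⁻¹ * q * g * (g⁻¹ * (d * c) * g) by group]
      refine index_two_mul hHQ hQH (hback q hq) (hback _ (mul_mem hdQ hcQ)) hq1 fun e => hd1 ?_
      rw [show g⁻¹ * (d * c) * g = g⁻¹ * d * g * (g⁻¹ * c * g) by group] at e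
      exact (mul_mem_cancel_right hc1).1 e
    have h2 := hPhi _ h0 h1
    apply hq2
    have h3 : g * (d * c) * g⁻¹ ∈ H := by
      rw [show g * (d * c) * g⁻¹ = g * d * g⁻¹ * (g * c * g⁻¹) by group]
      exact index_two_mul hHQ hQH ((hgn d).1 hdQ) ((hgn c).1 hcQ) hd2 hc2
    rw [show g * q * g⁻¹ = g * (q * (d * c)) * g⁻¹ * (g * (d * c) * g⁻¹)⁻¹ by group]
    exact mul_mem h2 (inv_mem h3)
  -- commutators lie in `L`
  have hLc : ∀ z ∈ L, ∀ q ∈ Q, q * z = z * q := fun z hz => hz.2.2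
  haveI hLn : (L.subgroupOf Q).Normal := ⟨fun z hz q => by
    have e : (q : G) * z * (q : G)⁻¹ = z := mul_inv_eq_iff_eq_mul.2 (hLc _ (mem_subgroupOf.1 hz) _ q.2)
    refine mem_subgroupOf.2 ?_
    show (q : G) * z * (q : G)⁻¹ ∈ L
    rw [e]; exact mem_subgroupOf.1 hz⟩
  set π := QuotientGroup.mk' (L.subgroupOf Q) with hπ
  have hker : ∀ q : Q, π q = 1 ↔ (q : G) ∈ L := fun q => (QuotientGroup.eq_one_iff q).trans mem_subgroupOf
  have hsq1 : ∀ q : Q, π q * π q = 1 := fun q => by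
    rw [← map_mul]; exact (hker _).2 (hsqL q q.2)
  have hcomm : ∀ a c : Q, π a * π c = π c * π a := fun a c => by
    have ha := inv_eq_of_mul_eq_one_right (hsq1 a)
    have hc := inv_eq_of_mul_eq_one_right (hsq1 c)
    conv_lhs => rw [← map_mul, ← inv_eq_of_mul_eq_one_right (hsq1 (a * c)), map_mul, mul_inv_rev, ha, hc]
  letI : CommGroup (↥Q ⧸ L.subgroupOf Q) :=
    { (inferInstance : Group (↥Q ⧸ L.subgroupOf Q)) with
      mul_comm := fun a c => QuotientGroup.induction_on a fun a => QuotientGroup.induction_on c fun c => hcomm a c }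
  let φ : Q → Q := fun q => ⟨g * q * g⁻¹, (hgn q).1 q.2⟩
  have hφmul : ∀ a c, φ (a * c) = φ a * φ c := fun a c => Subtype.ext (by
    show g * ((a : G) * c) * g⁻¹ = g * a * g⁻¹ * (g * c * g⁻¹)
    group)
  have hφ3 : ∀ a, φ (φ (φ a)) = a := fun a => Subtype.ext (conj_triple g a hg3)
  let N : Q → Q := fun q => q * φ q * φ (φ q)
  obtain ⟨f, hf⟩ : ∃ f : G, ∀ n : Q, (n : G) ∈ L ∨ f * (n : G) ∈ L ∨ π (φ n) ≠ π n := by
    rcases D.fixed_cases (S.2.to_le inf_le_left) F.ord F.g_mem with ⟨hm, -⟩ | ⟨-, f, hf1, hf2, hf3, hfx⟩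
    · replace hm : Nat.card Q % 3 = 1 := hm
      omega
    refine ⟨f, fun n => ?_⟩
    by_cases hn : π (φ n) = π n
    swap
    · exact Or.inr (Or.inr hn)
    have h1 : (n : G)⁻¹ * (g * n * g⁻¹) ∈ L := (hker (n⁻¹ * φ n)).1 (by rw [map_mul, map_inv, hn, inv_mul_cancel])
    obtain ⟨v, hv, hvc⟩ := coset_fixed hg3 (zInv_normalized F.g_mem) (show Nat.card L % 3 ≠ 0 by rw [hL4]; norm_num) h1
    rcases hfx _ (mul_mem n.2 hv.1) hvc with e | e
    · left
      rw [eq_inv_of_mul_eq_one_left e]; exact inv_mem hv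
    · right; left
      have hff : f * f = 1 := by rw [← pow_two, ← hf2, pow_orderOf_eq_one]
      rw [show f * (n : G) = f * f * (v : G)⁻¹ by rw [mul_assoc, ← e, mul_inv_cancel_right], hff, one_mul]
      exact inv_mem hv
  have hNfix : ∀ q, π (φ (N q)) = π (N q) := fun q => by
    show π (φ (q * φ q * φ (φ q))) = π (q * φ q * φ (φ q))
    rw [hφmul, hφmul, hφ3, map_mul, map_mul, map_mul, map_mul]
    ac_rfl
  have hNmul : ∀ a c, π (N (a * c)) = π (N a) * π (N c) := fun a c => by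
    show π (a * c * φ (a * c) * φ (φ (a * c))) = π (a * φ a * φ (φ a)) * π (c * φ c * φ (φ c))
    simp only [hφmul, map_mul]
    ac_rfl
  -- the element `r`
  obtain ⟨r, hrH, hrL, hrN⟩ : ∃ r : Q, (r : G) ∈ H ∧ (r : G) ∉ L ∧ π (N r) = 1 := by
    obtain ⟨v, hv, hvL⟩ : ∃ v ∈ H, v ∉ L := by
      by_contra hc
      push Not at hc
      have := Subgroup.card_le_of_le (show H ≤ L from hc)
      omega
    let K2 : Subgroup G := L ⊔ zpowers v
    obtain ⟨p, hp, hpL, hvp⟩ : ∃ p ∈ H, p ∉ L ∧ v * p ∉ L := by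
      by_contra hc
      push Not at hc
      let m : H → Bool × L := fun a =>
        if haL : (a : G) ∈ L then (true, ⟨a, haL⟩) else (false, ⟨v * a, hc a a.2 haL⟩)
      have hm : Function.Injective m := by
        intro a c e
        simp only [m] at e
        split at e <;> split at e <;> simp only [Prod.mk.injEq, Bool.false_eq_true, Bool.true_eq_false, false_and,
          Subtype.mk.injEq, true_and] at e
        · exact Subtype.ext e
        · exact Subtype.ext (mul_left_cancel e)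
      have h1 := Nat.card_le_card_of_injective m hm
      rw [Nat.card_prod, Nat.card_eq_fintype_card (α := Bool), Fintype.card_bool, hL4, hH16] at h1
      omega
    have hcase : ∀ n : Q, π (φ n) = π n → π n ≠ 1 → f * (n : G) ∈ L := fun n h1 h2 =>
      ((hf n).resolve_left fun e => h2 ((hker n).2 e)).resolve_right fun e => e h1
    by_cases h1 : π (N ⟨v, hHQ hv⟩) = 1
    · exact ⟨⟨v, hHQ hv⟩, hv, hvL, h1⟩
    by_cases h2 : π (N ⟨p, hHQ hp⟩) = 1
    · exact ⟨⟨p, hHQ hp⟩, hp, hpL, h2⟩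
    refine ⟨⟨v, hHQ hv⟩ * ⟨p, hHQ hp⟩, mul_mem hv hp, hvp, ?_⟩
    have e1 := hcase _ (hNfix _) h1
    have e2 := hcase _ (hNfix _) h2
    have e3 : π (N ⟨v, hHQ hv⟩) = π (N ⟨p, hHQ hp⟩) := by
      have : π ((N ⟨v, hHQ hv⟩)⁻¹ * N ⟨p, hHQ hp⟩) = 1 := by
        refine (hker _).2 ?_
        show (N ⟨v, hHQ hv⟩ : G)⁻¹ * (N ⟨p, hHQ hp⟩ : G) ∈ L
        rw [show (N ⟨v, hHQ hv⟩ : G)⁻¹ * (N ⟨p, hHQ hp⟩ : G) =
          (f * (N ⟨v, hHQ hv⟩ : G))⁻¹ * (f * (N ⟨p, hHQ hp⟩ : G)) by group]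
        exact mul_mem (inv_mem e1) e2
      rw [map_mul, map_inv] at this
      exact inv_mul_eq_one.1 this
    rw [hNmul, e3, hsq1]
  obtain ⟨r, hrQ⟩ := r
  simp only at hrH hrL
  set r1 := g * r * g⁻¹ with hr1
  set r2 := g * r1 * g⁻¹ with hr2
  have hr1Q : r1 ∈ Q := (hgn r).1 hrQ
  have hr2Q : r2 ∈ Q := (hgn r1).1 hr1Q
  have hl : r * r1 * r2 ∈ L := (hker _).1 hrN
  set l := r * r1 * r2 with hld
  have hr2e : r2 = (r * r1)⁻¹ * l := by rw [hld, inv_mul_cancel_left]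
  have hrr1 : r * r1 = r1 * r := by
    have hsq2 : r2 * r2 = (r * r1 * (r * r1))⁻¹ := by
      have hll : l * l = 1 := hl.2.1
      have hcl : (r * r1)⁻¹ * l = l * (r * r1)⁻¹ := hLc l hl _ (inv_mem (mul_mem hrQ hr1Q))
      rw [hr2e]
      nth_rewrite 1 [hcl]
      rw [show l * (r * r1)⁻¹ * ((r * r1)⁻¹ * l) = l * (r * r1 * (r * r1))⁻¹ * l by group,
        ← hLc l hl _ (inv_mem (mul_mem (mul_mem hrQ hr1Q) (mul_mem hrQ hr1Q))), mul_assoc, hll, mul_one]
    rcases hHsq r hrH with e | e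
    · have e1 : r1 * r1 = 1 := by
        rw [hr1, show g * r * g⁻¹ * (g * r * g⁻¹) = g * (r * r) * g⁻¹ by group, e]; group
      have e2 : r2 * r2 = 1 := by
        rw [hr2, show g * r1 * g⁻¹ * (g * r1 * g⁻¹) = g * (r1 * r1) * g⁻¹ by group, e1]; group
      rw [e2] at hsq2
      have e3 : r * r1 * (r * r1) = 1 := inv_eq_one.1 hsq2.symm
      calc r * r1 = (r * r1)⁻¹ := (inv_eq_of_mul_eq_one_right e3).symm
        _ = r1 * r := by
          rw [mul_inv_rev, inv_eq_of_mul_eq_one_right e1, inv_eq_of_mul_eq_one_right e]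
    · have e1 : r1 * r1 = D.i * j := by
        rw [hr1, show g * r * g⁻¹ * (g * r * g⁻¹) = g * (r * r) * g⁻¹ by group, e, hgi]
      have e2 : r2 * r2 = j := by
        rw [hr2, show g * r1 * g⁻¹ * (g * r1 * g⁻¹) = g * (r1 * r1) * g⁻¹ by group, e1, hgij]
      rw [e2] at hsq2
      have e3 : r * r1 * (r * r1) = j := by
        rw [← inv_inv (r * r1 * (r * r1)), ← hsq2, inv_eq_of_mul_eq_one_right hj2]
      have hrinv : r⁻¹ = r * D.i := inv_eq_of_mul_eq_one_right (by rw [← mul_assoc, e, D.i_sq])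
      have hij2 : D.i * j * (D.i * j) = 1 := (mul_mem hiL hjL : D.i * j ∈ L).2.1
      have hr1inv : r1⁻¹ = r1 * (D.i * j) := inv_eq_of_mul_eq_one_right (by rw [← mul_assoc, e1, hij2])
      calc r * r1 = r * (D.i * j * (r1 * (D.i * j))) := by
            rw [← mul_assoc (D.i * j), ← hLc _ (mul_mem hiL hjL) r1 hr1Q, mul_assoc r1, hij2, mul_one]
        _ = r * D.i * j * (r1 * (D.i * j)) := by group
        _ = r⁻¹ * j * r1⁻¹ := by rw [hrinv, hr1inv]
        _ = r⁻¹ * (r * r1 * (r * r1)) * r1⁻¹ := by rw [e3]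
        _ = r1 * r := by group
  have hr1H : r1 ∉ H := by
    intro e
    have hL1 : r1 ∉ L := fun q => hrL (by
      have := hgL' _ q
      rwa [hr1, show g⁻¹ * (g * r * g⁻¹) * g = r by group] at this)
    have hprod : r * r1 ∉ L := fun q => by
      have h2 : r2 ∈ L := by rw [hr2e]; exact mul_mem (inv_mem q) hl
      have h3 := hgL' _ h2
      rw [hr2, show g⁻¹ * (g * r1 * g⁻¹) * g = r1 by group] at h3
      exact hL1 h3
    have hr1r : r⁻¹ * r1 ∉ L := fun q => hprod (by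
      rw [show r * r1 = r * r * (r⁻¹ * r1) by group]
      exact mul_mem (hsqL r hrQ) q)
    let m : Fin 4 × L → H := fun p => ⟨![1, r, r1, r * r1] p.1 * p.2, mul_mem (by
      have hq := p.1
      match hq, p.1 with
      | _, 0 => exact one_mem H
      | _, 1 => exact hrH
      | _, 2 => exact e
      | _, 3 => exact mul_mem hrH e) (hLH p.2.2)⟩
    have hm : Function.Injective m := by
      rintro ⟨k, v⟩ ⟨l', w⟩ e'
      have e'' : ![1, r, r1, r * r1] k * (v : G) = ![1, r, r1, r * r1] l' * w := congrArg Subtype.val e'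
      have hz : (![1, r, r1, r * r1] l')⁻¹ * ![1, r, r1, r * r1] k ∈ L := by
        have : (![1, r, r1, r * r1] l')⁻¹ * ![1, r, r1, r * r1] k = (w : G) * (v : G)⁻¹ := by
          rw [eq_mul_inv_iff_mul_eq, mul_assoc, e'', inv_mul_cancel_left]
        rw [this]; exact mul_mem w.2 (inv_mem v.2)
      have hz' := inv_mem hz
      rw [mul_inv_rev, inv_inv] at hz'
      have hkl : k = l' := by
        have k1 : r⁻¹ * (r * r1) ∉ L := by rwa [inv_mul_cancel_left]
        have k2 : r1⁻¹ * (r * r1) ∉ L := by rwa [hrr1, inv_mul_cancel_left]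
        fin_cases k <;> fin_cases l' <;>
          simp only [Fin.zero_eta, Fin.mk_one, Fin.reduceFinMk, Matrix.cons_val_zero, Matrix.cons_val_one,
            Matrix.cons_val, inv_one, one_mul, mul_one] at hz hz' <;> first
            | rfl
            | exact absurd hz hrL
            | exact absurd hz' hrL
            | exact absurd hz hL1
            | exact absurd hz' hL1
            | exact absurd hz hprod
            | exact absurd hz' hprod
            | exact absurd hz hr1r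
            | exact absurd hz' hr1r
            | exact absurd hz k1
            | exact absurd hz' k1
            | exact absurd hz k2
            | exact absurd hz' k2
      subst hkl
      exact Prod.ext rfl (Subtype.ext (mul_left_cancel e''))
    have hb : Function.Bijective m := Nat.bijective_iff_injective_and_card m |>.2 ⟨hm, by
      rw [Nat.card_prod, Nat.card_fin, hL4, hH16]⟩
    refine hninv fun a ha => ?_
    obtain ⟨⟨k, v⟩, hkv⟩ := hb.2 ⟨a, ha⟩
    have hae : ![1, r, r1, r * r1] k * (v : G) = a := congrArg Subtype.val hkv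
    have hr2H : r2 ∈ H := by rw [hr2e]; exact mul_mem (inv_mem (mul_mem hrH e)) (hLH hl)
    rw [← hae, show g * (![1, r, r1, r * r1] k * (v : G)) * g⁻¹ =
      g * ![1, r, r1, r * r1] k * g⁻¹ * (g * v * g⁻¹) by group]
    refine mul_mem ?_ (hLH (hgL _ v.2))
    fin_cases k <;>
      simp only [Fin.zero_eta, Fin.mk_one, Fin.reduceFinMk, Matrix.cons_val_zero, Matrix.cons_val_one,
        Matrix.cons_val]
    · rw [mul_one, mul_inv_cancel]; exact one_mem H
    · exact hr1.symm ▸ e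
    · exact hr2.symm ▸ hr2H
    · rw [show g * (r * r1) * g⁻¹ = g * r * g⁻¹ * (g * r1 * g⁻¹) by group, ← hr1, ← hr2]
      exact mul_mem e hr2H
  have hr1S : r1 ∈ (S : Subgroup G) := (hQmem.1 hr1Q).1
  have hr1T : r1 ∉ T := fun e => hr1H (hQT _ hr1Q e)
  have hrT : r ∈ T := (hHmem.1 hrH).1
  have hrP : r ∈ P := hT.mem_P_of_comm hr1S hr1T hrT hrr1.symm
  have hP8 : Nat.card P = 2 * Nat.card L := by rw [hT.card_P, hL4]
  have hPcov : ∀ p ∈ P, p ∈ L ∨ r * p ∈ L := fun p hp => by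
    by_cases hpL : p ∈ L
    · exact Or.inl hpL
    · exact Or.inr (index_two_mul hLP hP8 hrP hp hrL hpL)
  have hrr : r * r = 1 := hT.elem r hrP
  have hr1A : r1 ∈ A := mem_inf.2 ⟨hr1S, mem_centralizer_iff.2 fun p hp => by
    rcases hPcov p hp with e | e
    · exact (hLc p e r1 hr1Q).symm
    · have h1 := hLc _ e r1 hr1Q
      calc p * r1 = r * (r * p) * r1 := by rw [show r * (r * p) * r1 = r * r * (p * r1) by group, hrr, one_mul]
        _ = r * r1 * (r * p) := by rw [mul_assoc, ← h1, ← mul_assoc]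
        _ = r1 * p := by rw [hrr1, mul_assoc, ← mul_assoc r, hrr, one_mul]⟩
  have hPA : P ≤ A := hT.P_le_A
  have hAcov : ∀ a ∈ A, a ∈ P ∨ a * r1 ∈ P := by
    intro a ha
    by_cases haT : a ∈ T
    · exact Or.inl (hT.mem_A_T ha haT)
    · refine Or.inr (hT.mem_A_T (mul_mem ha hr1A) ?_)
      exact index_two_mul hS.T_le_S hS.card_S (mem_inf.1 ha).1 hr1S haT hr1T
  have hA16 : Nat.card A = 16 := by
    rw [card_eq_two_mul hPA hr1A (fun e => hr1T (hT.P_le e)) hAcov, hT.card_P]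
  have hr1sq : r1 * r1 = 1 := by
    rw [hr1, show g * r * g⁻¹ * (g * r * g⁻¹) = g * (r * r) * g⁻¹ by group, hrr]; group
  have hAelem : ∀ a ∈ A, a * a = 1 ∧ a * j = j * a := by
    intro a ha
    refine ⟨?_, (mem_centralizer_iff.1 (mem_inf.1 ha).2 j hjP).symm⟩
    rcases hAcov a ha with e | e
    · exact hT.elem a e
    · have h1 := mem_centralizer_iff.1 (mem_inf.1 hr1A).2 _ e
      rw [mul_assoc, hr1sq, mul_one] at h1
      have h2 := hT.elem _ e
      calc a * a = r1 * (a * r1) * (a * r1 * r1) := by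
            rw [← h1, mul_assoc a r1 r1, hr1sq, mul_one]
        _ = r1 * (a * r1 * (a * r1)) * r1 := by group
        _ = 1 := by rw [h2, mul_one, hr1sq]
  have hgA0 : ∀ p ∈ P, g * p * g⁻¹ ∈ A := by
    intro p hp
    rcases hPcov p hp with e | e
    · exact hPA (hLP (hgL p e))
    · rw [show g * p * g⁻¹ = (g * r * g⁻¹)⁻¹ * (g * (r * p) * g⁻¹) by group, ← hr1]
      exact mul_mem (inv_mem hr1A) (hPA (hLP (hgL _ e)))
  have hr2A : r2 ∈ A := by
    rw [hr2e]; exact mul_mem (inv_mem (mul_mem (hPA hrP) hr1A)) (hPA (hLP hl))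
  have hgA : g ∈ normalizer (A : Set G) := by
    refine Subgroup.mem_normalizer_fintype fun a ha => ?_
    rcases hAcov a ha with e | e
    · exact hgA0 a e
    · rw [show g * a * g⁻¹ = g * (a * r1) * g⁻¹ * (g * r1 * g⁻¹)⁻¹ by group, ← hr2]
      exact mul_mem (hgA0 _ e) (inv_mem hr2A)
  refine ⟨F, r, hrP, fun e => hrL (by rw [e]; exact one_mem L), fun e => hrL (e ▸ hiL), fun e => hrL (e ▸ hjL),
    fun e => hrL (by rw [e]; exact mul_mem hiL hjL), hr1T, hgA, hA16, hAelem, fun q hq => ?_, fun a ha ha1 => ?_⟩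
  · have hAQ : A ≤ Q := fun a ha => hQmem.2 ⟨(mem_inf.1 ha).1, (hAelem a ha).2⟩
    have hc : Nat.card Q = 2 * Nat.card A := by rw [hQ32, hA16]
    by_cases hqA : q ∈ A
    · exact mul_mem ((mem_normalizer_iff.1 hgA q).1 hqA) (inv_mem hqA)
    · exact index_two_mul hAQ hc ((hgn q).1 hq) (inv_mem hq) (fun e => hqA ((mem_normalizer_iff.1 hgA q).2 e))
        fun e => hqA (inv_mem_iff.1 e)
  · have hfwd : ∀ p, p ∈ L → ∃ p' ∈ P, g * p' * g⁻¹ = r1 * p := fun p hp =>
      ⟨r * (g⁻¹ * p * g), mul_mem hrP (hLP (hgL' p hp)), by rw [hr1]; group⟩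
    have hfwd2 : ∀ p, p ∈ L → ∃ p' ∈ P, g * g * p' * (g * g)⁻¹ = r2 * p := fun p hp =>
      ⟨r * (g⁻¹ * (g⁻¹ * p * g) * g), mul_mem hrP (hLP (hgL' _ (hgL' p hp))), by rw [hr2, hr1]; group⟩
    have hne : ∀ p' c : G, c * p' * c⁻¹ = a → p' ≠ 1 := fun p' c e e0 => ha1 (by
      rw [← e, e0]; group)
    rcases hAcov a ha with e | e
    · exact ⟨a, e, ha1, Or.inl rfl⟩
    rcases hPcov _ e with e' | e'
    · obtain ⟨p', hp', he⟩ := hfwd _ e'
      have he' : g * p' * g⁻¹ = a := by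
        rw [he, hLc _ e' r1 hr1Q, mul_assoc, hr1sq, mul_one]
      exact ⟨p', hp', hne _ _ he', Or.inr (Or.inl he'.symm)⟩
    · have hm : l⁻¹ * (r * (a * r1)) ∈ L := mul_mem (inv_mem hl) e'
      obtain ⟨p', hp', he⟩ := hfwd2 _ hm
      have he' : g * g * p' * (g * g)⁻¹ = a := by
        rw [he, hr2e, show (r * r1)⁻¹ * l * (l⁻¹ * (r * (a * r1))) = r1⁻¹ * (a * r1) by group,
          inv_eq_of_mul_eq_one_right hr1sq]
        have h1 : a * r1 * r1 = r1 * (a * r1) := mem_centralizer_iff.1 (mem_inf.1 hr1A).2 _ e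
        rw [← h1, mul_assoc, hr1sq, mul_one]
      exact ⟨p', hp', hne _ _ he', Or.inr (Or.inr he'.symm)⟩

set_option maxHeartbeats 1000000 in
/-- There is no such configuration. -/
theorem elim : False := by
  classical
  haveI : Fact (Nat.Prime 3) := ⟨Nat.prime_three⟩
  haveI : Fact (Nat.Prime 2) := ⟨Nat.prime_two⟩
  have hS := hT.small
  set A := (S : Subgroup G) ⊓ centralizer (P : Set G) with hAdef
  obtain ⟨j, hjP, hj1, hji⟩ : ∃ j ∈ P, j ≠ 1 ∧ j ≠ D.i := by
    by_contra hc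
    push Not at hc
    have h1 : Nat.card P ≤ Nat.card (zpowers D.i) := Subgroup.card_le_of_le fun p hp =>
      D.mem_zi_iff.2 (by by_cases e : p = 1; exacts [Or.inl e, Or.inr (hc p hp e)])
    rw [hT.card_P, Nat.card_zpowers, D.oi] at h1
    omega
  obtain ⟨F, r, hrP, hr1, hri, hrj, hrij, hrT, hgR, hA, hAe, hQc, hAp⟩ := hT.four_A hjP hj1 hji
  obtain ⟨F', -, -, -, -, -, -, -, hgR', -, -, -, -⟩ := hT.four_A hrP hr1 hri
  set R := normalizer (A : Set G) with hR
  have hiA : D.i ∈ A := hT.P_le_A hT.i_mem_P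
  have hSR : (S : Subgroup G) ≤ R := hT.S_le_normalizer
  -- the stabilizer of `i`
  have hRC : ∀ m ∈ R, m ∈ D.C → m ∈ (S : Subgroup G) := by
    intro m hm hmC
    refine hS.le_S (K := R ⊓ D.C) inf_le_right (le_inf hSR hS.S_le) ?_ (mem_inf.2 ⟨hm, hmC⟩)
    intro h3
    have h64 : Nat.card (S : Subgroup G) = 64 := by rw [hS.card_S, hT.card]
    have hdvd : 64 ∣ Nat.card ↥(R ⊓ D.C) := h64 ▸ card_dvd_of_le (le_inf hSR hS.S_le)
    have h192 : 192 ∣ Nat.card ↥(R ⊓ D.C) :=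
      Nat.Coprime.mul_dvd_of_dvd_of_dvd (show Nat.Coprime 64 3 by norm_num) hdvd h3
    have hle : R ⊓ D.C = D.C := by
      refine eq_of_le_of_card_ge inf_le_right ?_
      rw [hS.card, hT.card]
      exact Nat.le_of_dvd Nat.card_pos h192
    have hxR : D.x ∈ R := (mem_inf.1 (hle.symm ▸ D.x_mem : D.x ∈ R ⊓ D.C)).1
    have hxi : D.x⁻¹ * j * D.x ∈ P := by
      refine hT.mem_A_T ?_ ?_
      · have := (mem_normalizer_iff.1 (inv_mem hxR) j).1 (hT.P_le_A hjP)
        rwa [inv_inv] at this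
      · have := hS.T_conj _ (inv_mem D.x_mem) j (hT.P_le hjP)
        rwa [inv_inv] at this
    exact (hT.inter j hjP hxi).elim hj1 hji
  have horb : ∀ p ∈ P, p ≠ 1 → ∃ c ∈ R, c * D.i * c⁻¹ = p := by
    intro p hp hp1
    by_cases hpi : p = D.i
    · exact ⟨1, one_mem R, by rw [hpi]; group⟩
    obtain ⟨E, -, -, -, -, -, -, -, hE, -, -, -, -⟩ := hT.four_A hp hp1 hpi
    refine ⟨E.g * E.g, mul_mem hE hE, ?_⟩
    rw [show E.g * E.g * D.i * (E.g * E.g)⁻¹ = E.g * (E.g * D.i * E.g⁻¹) * E.g⁻¹ by group, E.g_i,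
      show E.g * (D.i * p) * E.g⁻¹ = E.g * D.i * E.g⁻¹ * (E.g * p * E.g⁻¹) by group, E.g_i, E.g_j,
      mul_assoc, D.mem_C.1 (hS.T_le (hT.P_le hp)), ← mul_assoc, D.i_sq, one_mul]
  let X := {a : A // a ≠ 1}
  have horb' : ∀ a : X, ∃ c ∈ R, c * D.i * c⁻¹ = ((a : A) : G) := by
    rintro ⟨⟨a, ha⟩, ha1⟩
    obtain ⟨p, hp, hp1, e⟩ := hAp a ha fun e => ha1 (Subtype.ext e)
    obtain ⟨c, hc, hce⟩ := horb p hp hp1
    rcases e with e | e | e
    · exact ⟨c, hc, hce.trans e.symm⟩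
    · refine ⟨F.g * c, mul_mem hgR hc, ?_⟩
      show F.g * c * D.i * (F.g * c)⁻¹ = a
      rw [e, ← hce]; group
    · refine ⟨F.g * F.g * c, mul_mem (mul_mem hgR hgR) hc, ?_⟩
      show F.g * F.g * c * D.i * (F.g * F.g * c)⁻¹ = a
      rw [e, ← hce]; group
  choose cX hcX hcXe using horb'
  have hcardR : Nat.card R = 960 := by
    let f : X × (S : Subgroup G) → R := fun q => ⟨cX q.1 * q.2, mul_mem (hcX q.1) (hSR q.2.2)⟩
    have hfix : ∀ (c : G) (s : (S : Subgroup G)), c * s * D.i * (c * s)⁻¹ = c * D.i * c⁻¹ := fun c s => by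
      rw [show c * s * D.i * (c * s)⁻¹ = c * ((s : G) * D.i * (s : G)⁻¹) * c⁻¹ by group, D.conj_i (hS.S_le s.2)]
    have hb : Function.Bijective f := by
      constructor
      · rintro ⟨a, s⟩ ⟨a', s'⟩ e
        have e' : cX a * (s : G) = cX a' * s' := congrArg Subtype.val e
        have h1 : ((a : A) : G) = ((a' : A) : G) :=
          calc ((a : A) : G) = cX a * s * D.i * (cX a * s)⁻¹ := by rw [hfix, hcXe]
            _ = cX a' * s' * D.i * (cX a' * s')⁻¹ := by rw [e']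
            _ = _ := by rw [hfix, hcXe]
        obtain rfl : a = a' := Subtype.ext (Subtype.ext h1)
        exact Prod.ext rfl (Subtype.ext (mul_left_cancel e'))
      · rintro ⟨m, hm⟩
        let a : X := ⟨⟨m * D.i * m⁻¹, (mem_normalizer_iff.1 hm _).1 hiA⟩, fun e =>
          D.i_ne (conj_eq_one_iff.1 (congrArg Subtype.val e))⟩
        have hs : (cX a)⁻¹ * m ∈ (S : Subgroup G) :=
          hRC _ (mul_mem (inv_mem (hcX a)) hm) (D.mem_C.2 (mul_inv_eq_iff_eq_mul.1 (by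
            rw [show (cX a)⁻¹ * m * D.i * ((cX a)⁻¹ * m)⁻¹ = (cX a)⁻¹ * (m * D.i * m⁻¹) * cX a by group,
              show m * D.i * m⁻¹ = ((a : A) : G) from rfl, ← hcXe a]
            group)))
        exact ⟨⟨a, _, hs⟩, Subtype.ext (mul_inv_cancel_left _ _)⟩
    have hX : Nat.card X = 15 := by
      letI : Fintype A := Fintype.ofFinite A
      rw [Nat.card_eq_fintype_card, Fintype.card_subtype_compl, Fintype.card_subtype_eq, ← Nat.card_eq_fintype_card,
        hA]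
    rw [← Nat.card_eq_of_bijective f hb, Nat.card_prod, hX, hS.card_S, hT.card]
  -- the quotient of order 60
  have hAR : A ≤ R := le_normalizer
  haveI : (A.subgroupOf R).Normal := normal_in_normalizer
  set π := QuotientGroup.mk' (A.subgroupOf R) with hπ
  have hker : ∀ q : R, π q = 1 ↔ (q : G) ∈ A := fun q => (QuotientGroup.eq_one_iff q).trans mem_subgroupOf
  have h60 : Nat.card (↥R ⧸ A.subgroupOf R) = 60 := by
    have h1 := (A.subgroupOf R).card_mul_index
    rw [Nat.card_congr (subgroupOfEquivOfLe hAR).toEquiv, hA, hcardR] at h1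
    rw [← Subgroup.index_eq_card]
    omega
  have hord : ∀ (y : G) (hy : y ∈ R), orderOf y = 3 → orderOf (π ⟨y, hy⟩) = 3 := by
    intro y hy ho
    refine orderOf_eq_prime ?_ fun e => ?_
    · rw [← map_pow]
      exact (hker _).2 (by rw [SubmonoidClass.coe_pow, ← ho, pow_orderOf_eq_one]; exact one_mem A)
    · have h1 : y * y = 1 := (hAe y ((hker _).1 e)).1
      have : orderOf y ∣ 2 := orderOf_dvd_of_pow_eq_one (by rw [pow_two, h1])
      rw [ho] at this
      norm_num at this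
  set γ := π ⟨F.g, hgR⟩ with hγ
  have hγ3 := hord F.g hgR F.ord
  have hγp : γ ^ 3 = 1 := orderOf_dvd_iff_pow_eq_one.1 (dvd_of_eq hγ3)
  set Q := (S : Subgroup G) ⊓ centralizer ({j} : Set G) with hQdef
  set K := normalizer (zpowers γ : Set (↥R ⧸ A.subgroupOf R)) with hK
  have hQR : Q ≤ R := fun q hq => hSR (mem_inf.1 hq).1
  have hγK : γ ∈ K := le_normalizer (mem_zpowers γ)
  have hQcomm : ∀ q (hq : q ∈ Q), Commute γ (π ⟨q, hQR hq⟩) := by
    intro q hq
    have e : γ * π ⟨q, hQR hq⟩ * γ⁻¹ * (π ⟨q, hQR hq⟩)⁻¹ = 1 := by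
      rw [hγ, ← map_inv, ← map_inv, ← map_mul, ← map_mul, ← map_mul]
      exact (hker _).2 (hQc q hq)
    exact mul_inv_eq_iff_eq_mul.1 (mul_inv_eq_one.1 e)
  have hmemK : ∀ u, u * γ * u⁻¹ ∈ zpowers γ → u ∈ K := fun u hu =>
    Subgroup.mem_normalizer_fintype fun z hz => by
      obtain ⟨n, rfl⟩ := mem_zpowers_iff.1 hz
      rw [← conj_zpow]
      exact zpow_mem hu n
  have hQK : ∀ q (hq : q ∈ Q), π ⟨q, hQR hq⟩ ∈ K := fun q hq => hmemK _ (by
    rw [(hQcomm q hq).eq.symm, mul_inv_cancel_right]; exact mem_zpowers γ)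
  have hjT := hT.P_le hjP
  have hjiC : j * D.i = D.i * j := D.mem_C.1 (hS.T_le hjT)
  have hs0i : ∀ w, w ∈ (S : Subgroup G) → w * D.i * w⁻¹ = D.i := fun w hw => D.conj_i (hS.S_le hw)
  have hs0K : π ⟨F.s0, hSR F.s0_mem⟩ ∈ K := by
    set u := F.s0 * F.g * F.s0⁻¹ * F.g with hu
    have hs0j : F.s0⁻¹ * j * F.s0⁻¹⁻¹ = j * D.i := by
      calc F.s0⁻¹ * j * F.s0⁻¹⁻¹ = F.s0⁻¹ * (F.s0 * j * F.s0⁻¹ * D.i) * F.s0⁻¹⁻¹ := by
            rw [F.s0_conj, mul_assoc j D.i D.i, D.i_sq, mul_one]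
        _ = j * (F.s0⁻¹ * D.i * F.s0⁻¹⁻¹) := by group
        _ = _ := by rw [hs0i _ (inv_mem F.s0_mem)]
    have hgij : F.g * (D.i * j) * F.g⁻¹ = j := by
      rw [show F.g * (D.i * j) * F.g⁻¹ = F.g * D.i * F.g⁻¹ * (F.g * j * F.g⁻¹) by group, F.g_i, F.g_j,
        mul_assoc, hjiC, ← mul_assoc, D.i_sq, one_mul]
    have ei : u * D.i * u⁻¹ = D.i := by
      rw [hu, show F.s0 * F.g * F.s0⁻¹ * F.g * D.i * (F.s0 * F.g * F.s0⁻¹ * F.g)⁻¹ =
        F.s0 * (F.g * (F.s0⁻¹ * (F.g * D.i * F.g⁻¹) * F.s0⁻¹⁻¹) * F.g⁻¹) * F.s0⁻¹ by group, F.g_i,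
        show F.s0⁻¹ * (D.i * j) * F.s0⁻¹⁻¹ = F.s0⁻¹ * D.i * F.s0⁻¹⁻¹ * (F.s0⁻¹ * j * F.s0⁻¹⁻¹) by group,
        hs0i _ (inv_mem F.s0_mem), hs0j, hjiC, ← mul_assoc D.i D.i j, D.i_sq, one_mul, F.g_j, hs0i _ F.s0_mem]
    have ej : u * j * u⁻¹ = j := by
      rw [hu, show F.s0 * F.g * F.s0⁻¹ * F.g * j * (F.s0 * F.g * F.s0⁻¹ * F.g)⁻¹ =
        F.s0 * (F.g * (F.s0⁻¹ * (F.g * j * F.g⁻¹) * F.s0⁻¹⁻¹) * F.g⁻¹) * F.s0⁻¹ by group, F.g_j,
        hs0i _ (inv_mem F.s0_mem), F.g_i,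
        show F.s0 * (D.i * j) * F.s0⁻¹ = F.s0 * D.i * F.s0⁻¹ * (F.s0 * j * F.s0⁻¹) by group,
        hs0i _ F.s0_mem, F.s0_conj, hjiC, ← mul_assoc D.i D.i j, D.i_sq, one_mul]
    have huR : u ∈ R := mul_mem (mul_mem (mul_mem (hSR F.s0_mem) hgR) (inv_mem (hSR F.s0_mem))) hgR
    have huQ : u ∈ Q := mem_inf.2 ⟨hRC u huR (D.mem_C.2 (mul_inv_eq_iff_eq_mul.1 ei)),
      mem_centralizer_singleton_iff.2 (mul_inv_eq_iff_eq_mul.1 ej)⟩
    set σ := π ⟨F.s0, hSR F.s0_mem⟩ with hσ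
    set μ := π ⟨u, hQR huQ⟩ with hμ
    have hμe : μ = σ * γ * σ⁻¹ * γ := by
      rw [hσ, hγ, hμ, ← map_inv, ← map_mul, ← map_mul, ← map_mul]
      rfl
    refine hmemK _ ?_
    have hc : Commute γ μ := hQcomm u huQ
    have e1 : σ * γ * σ⁻¹ = μ * γ⁻¹ := by rw [hμe, mul_inv_cancel_right]
    have h3 : μ ^ 3 = 1 := by
      have h4 : (σ * γ * σ⁻¹) ^ 3 = 1 := by
        rw [conj_pow, hγp, mul_one, mul_inv_cancel]
      rw [e1, hc.inv_left.symm.mul_pow, inv_pow, hγp, inv_one, mul_one] at h4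
      exact h4
    have h2 : μ ^ 2 = 1 := by
      rw [hμ, ← map_pow]
      refine (hker _).2 ?_
      show u ^ 2 ∈ A
      have hAQ : A ≤ Q := fun a ha =>
        mem_inf.2 ⟨(mem_inf.1 ha).1, mem_centralizer_singleton_iff.2 (hAe a ha).2⟩
      have hQ32 : Nat.card (S : Subgroup G) = 2 * Nat.card Q := F.card_eq
      rw [pow_two]
      exact index_two_sq hAQ (by rw [hA]; rw [hS.card_S, hT.card] at hQ32; omega) huQ
    have hμ1 : μ = 1 := by
      rw [← pow_one μ, show (1 : ℕ) = 3 - 2 by norm_num, pow_sub _ (by norm_num), h3, h2]; simp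
    rw [e1, hμ1, one_mul]
    exact inv_mem (mem_zpowers γ)
  have hSK : (S : Subgroup G).subgroupOf R ≤ K.comap π := by
    rintro ⟨s, hsR⟩ hs
    have hsS : s ∈ (S : Subgroup G) := mem_subgroupOf.1 hs
    rw [mem_comap]
    have hq : s ∈ Q ∨ s * F.s0 ∈ Q := by
      have hcm : ∀ w, w ∈ (S : Subgroup G) → w * j * w⁻¹ = j → w ∈ Q := fun w hw e =>
        mem_inf.2 ⟨hw, mem_centralizer_singleton_iff.2 (mul_inv_eq_iff_eq_mul.1 e)⟩
      rcases hT.conj_P hsS hjP with e | e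
      · exact Or.inl (hcm s hsS e)
      · refine Or.inr (hcm _ (mul_mem hsS F.s0_mem) ?_)
        rw [show s * F.s0 * j * (s * F.s0)⁻¹ = s * (F.s0 * j * F.s0⁻¹) * s⁻¹ by group, F.s0_conj,
          show s * (j * D.i) * s⁻¹ = s * j * s⁻¹ * (s * D.i * s⁻¹) by group, e, hs0i s hsS, mul_assoc, D.i_sq,
          mul_one]
    rcases hq with e | e
    · exact hQK s e
    · have h1 := hQK _ e
      rw [show (⟨s * F.s0, hQR e⟩ : R) = ⟨s, hsR⟩ * ⟨F.s0, hSR F.s0_mem⟩ from rfl, map_mul] at h1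
      exact (mul_mem_cancel_right hs0K).1 h1
  have hP3 : IsPGroup 3 (zpowers γ) := IsPGroup.of_card (n := 1) (by rw [Nat.card_zpowers, hγ3, pow_one])
  obtain ⟨Sy, hSy⟩ := hP3.exists_le_sylow
  have hSyeq : (Sy : Subgroup (↥R ⧸ A.subgroupOf R)) = zpowers γ := by
    refine (eq_of_le_of_card_ge hSy ?_).symm
    obtain ⟨m, hm⟩ := IsPGroup.iff_card.1 Sy.2
    have hd := card_subgroup_dvd_card (Sy : Subgroup (↥R ⧸ A.subgroupOf R))
    rw [hm, h60] at hd
    rw [hm, Nat.card_zpowers, hγ3]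
    by_contra hlt
    have h9 : 3 ^ 2 ∣ 3 ^ m := pow_dvd_pow 3 (by
      by_contra q
      have : 3 ^ m ≤ 3 ^ 1 := Nat.pow_le_pow_right (by norm_num) (show m ≤ 1 by omega)
      omega)
    have := h9.trans hd
    norm_num at this
  have hKtop : K = ⊤ := by
    have h1 : K.index ∣ 15 := by
      have := index_dvd_of_le hSK
      rw [index_comap_of_surjective _ (QuotientGroup.mk'_surjective _)] at this
      have h2 := ((S : Subgroup G).subgroupOf R).card_mul_index
      rw [Nat.card_congr (subgroupOfEquivOfLe hSR).toEquiv, hS.card_S, hT.card, hcardR] at h2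
      rwa [show ((S : Subgroup G).subgroupOf R).index = 15 by omega] at this
    have h2 : K.index ∣ 20 := by
      have := index_dvd_of_le (show zpowers γ ≤ K from le_normalizer)
      have h3 := (zpowers γ).card_mul_index
      rw [Nat.card_zpowers, hγ3, h60] at h3
      rwa [show (zpowers γ).index = 20 by omega] at this
    have h5 : K.index ∣ 5 := by simpa using Nat.dvd_gcd h1 h2
    have hn : K.index ≡ 1 [MOD 3] := by
      have := card_sylow_modEq_one 3 (↥R ⧸ A.subgroupOf R)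
      rwa [Sy.card_eq_index_normalizer, show (Sy : Set (↥R ⧸ A.subgroupOf R)) = (zpowers γ : Set (↥R ⧸ A.subgroupOf R)) by rw [← hSyeq]; rfl] at this
    rcases (Nat.dvd_prime (by norm_num : Nat.Prime 5)).1 h5 with e | e
    · exact index_eq_one.1 e
    · rw [e] at hn; exact absurd hn (by decide)
  -- the second element of order three
  set γ' := π ⟨F'.g, hgR'⟩ with hγ'
  have hmem : γ' ∈ zpowers γ := by
    have hJ : IsPGroup 3 ↥(zpowers γ' ⊔ zpowers γ) :=
      IsPGroup.to_sup_of_normal_right' (IsPGroup.of_card (n := 1)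
        (by rw [Nat.card_zpowers, hord F'.g hgR' F'.ord, pow_one])) hP3
        (le_top.trans_eq hKtop.symm)
    have := Sy.is_maximal' hJ (by rw [hSyeq]; exact le_sup_right)
    rw [← hSyeq, ← this]
    exact mem_sup_left (mem_zpowers γ')
  obtain ⟨n, hn⟩ := mem_zpowers_iff.1 hmem
  have hAc : ∀ a ∈ A, a * D.i * a⁻¹ = D.i := fun a ha => hs0i a (mem_inf.1 ha).1
  let O : Subgroup G :=
    { carrier := {w | ∀ z ∈ ({D.i, j, D.i * j} : Set G), w * z * w⁻¹ ∈ ({D.i, j, D.i * j} : Set G) ∧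
        w⁻¹ * z * w ∈ ({D.i, j, D.i * j} : Set G)}
      one_mem' := fun z hz => by simp only [one_mul, inv_one, mul_one]; exact ⟨hz, hz⟩
      mul_mem' := fun {a c} ha hc z hz => ⟨by
        rw [show a * c * z * (a * c)⁻¹ = a * (c * z * c⁻¹) * a⁻¹ by group]
        exact (ha _ (hc z hz).1).1, by
        rw [show (a * c)⁻¹ * z * (a * c) = c⁻¹ * (a⁻¹ * z * a) * c by group]
        exact (hc _ (ha z hz).2).2⟩
      inv_mem' := fun {a} ha z hz => ⟨by rw [inv_inv]; exact (ha z hz).2, by rw [inv_inv]; exact (ha z hz).1⟩ }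
  have hgO : F.g ∈ O := by
    have e1 : F.g * (D.i * j) * F.g⁻¹ = j := by
      rw [show F.g * (D.i * j) * F.g⁻¹ = F.g * D.i * F.g⁻¹ * (F.g * j * F.g⁻¹) by group, F.g_i, F.g_j,
        mul_assoc, hjiC, ← mul_assoc, D.i_sq, one_mul]
    have hb : ∀ z w : G, F.g * z * F.g⁻¹ = w → F.g⁻¹ * w * F.g = z := fun z w e => by rw [← e]; group
    intro z hz
    simp only [Set.mem_insert_iff, Set.mem_singleton_iff] at hz ⊢
    rcases hz with e | e | e <;> rw [e]
    · exact ⟨Or.inr (Or.inr F.g_i), Or.inr (Or.inl (hb _ _ F.g_j))⟩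
    · exact ⟨Or.inl F.g_j, Or.inr (Or.inr (hb _ _ e1))⟩
    · exact ⟨Or.inr (Or.inl e1), Or.inl (hb _ _ F.g_i)⟩
  have hdiff : (F.g ^ n)⁻¹ * F'.g ∈ A := by
    have h1 : π ((⟨F.g, hgR⟩ : R) ^ n)⁻¹ * γ' = 1 := by
      rw [map_inv, map_zpow, ← hγ, hn, inv_mul_cancel]
    rw [hγ', ← map_mul] at h1
    simpa using (hker _).1 h1
  set a := (F.g ^ n)⁻¹ * F'.g with ha
  have e : F'.g * D.i * F'.g⁻¹ = F.g ^ n * D.i * (F.g ^ n)⁻¹ := by
    rw [show F'.g = F.g ^ n * a by rw [ha, mul_inv_cancel_left],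
      show F.g ^ n * a * D.i * (F.g ^ n * a)⁻¹ = F.g ^ n * (a * D.i * a⁻¹) * (F.g ^ n)⁻¹ by group, hAc a hdiff]
  have hin := ((zpow_mem hgO n) D.i (by simp)).1
  rw [← e, F'.g_i] at hin
  simp only [Set.mem_insert_iff, Set.mem_singleton_iff] at hin
  rcases hin with q | q | q
  · exact hr1 (mul_eq_left.1 q)
  · exact hrij (by rw [← q, ← mul_assoc, D.i_sq, one_mul])
  · exact hrj (mul_left_cancel q)

end Thirty

end CfsgLib.SelfCentralSix
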